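import Cfsg.Agent.Lib.G2TwoRecog.Shape
import Cfsg.Agent.Lib.Blocks.PrimePowerDegree
import Cfsg.Agent.Lib.Char.RealChar
import Cfsg.Agent.Lib.SmallSimple.FiveCases
import Cfsg.Agent.Lib.SmallSimple.ExceptionalDegree

/-!
# Degrees 6, 27, 32 in the principal 7-block of a simple group of order 6048
-/

set_option autoImplicit false
set_option linter.style.haveILetI false
set_option linter.unusedSectionVars false

open scoped ComplexConjugate
open Cfsg Cfsg.Agent

namespace Cfsg.Agent.G2TwoRecog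

universe u

variable {S : Type u} [Group S] [Fintype S]

theorem orderOf_ne_seven_dvd_of_dvd {g : S} {n : ℕ} (hg : orderOf g = n) (hn : ¬ 7 ∣ n) :
    ¬ 7 ∣ orderOf g := hg.symm ▸ hn

/-- Two involutions do not multiply to an element of order seven. -/
theorem pairs_invol_isEmpty (h : Hyp S) {y : S} (hy : orderOf y = 7) {a b : S} (ha : orderOf a = 2)
    (hb : orderOf b = 2) : Nat.card (Pairs a b y) = 0 := by
  haveI : Fact (Nat.Prime 7) := ⟨by norm_num⟩
  rw [Nat.card_eq_zero]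
  left
  refine ⟨fun p => ?_⟩
  set u := p.1.1 * a * p.1.1⁻¹
  set v := p.1.2 * b * p.1.2⁻¹
  have huv : u * v = y := p.2
  have hu : u * u = 1 := by
    have : a * a = 1 := by rw [← pow_two, ← ha, pow_orderOf_eq_one]
    simp only [u]; group
    simp [pow_two, mul_assoc, this]
  have hv : v * v = 1 := by
    have : b * b = 1 := by rw [← pow_two, ← hb, pow_orderOf_eq_one]
    simp only [v]; group
    simp [pow_two, mul_assoc, this]
  have huy : u * y * u⁻¹ = y⁻¹ := by
    rw [← huv, ← mul_assoc u u v, hu, one_mul, mul_inv_rev u v, inv_eq_of_mul_eq_one_right hv]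
  obtain ⟨Q, hQ⟩ := (IsPGroup.of_card (G := Subgroup.zpowers y) (p := 7) (n := 1)
    (by rw [Nat.card_zpowers, hy, pow_one])).exists_le_sylow
  have hQe : (Q : Subgroup S) = Subgroup.zpowers y :=
    (Subgroup.eq_of_le_of_card_ge hQ (by rw [card_sylow_seven h.seven Q, Nat.card_zpowers, hy])).symm
  have huN : u ∈ Subgroup.normalizer ((Q : Subgroup S) : Set S) := by
    rw [hQe]
    refine (Subgroup.mem_normalizer_iff_map_conj_eq).2 ?_
    rw [MonoidHom.map_zpowers]
    show Subgroup.zpowers (u * y * u⁻¹) = _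
    rw [huy, Subgroup.zpowers_inv]
  have hd := Subgroup.orderOf_dvd_natCard _ huN
  rw [h.card_normalizer Q] at hd
  have hu2 : orderOf u = 2 := by
    rw [show u = MulAut.conj p.1.1 a from rfl, MulEquiv.orderOf_eq, ha]
  rw [hu2] at hd
  norm_num at hd

/-- The data used afterwards. -/
structure Chars (S : Type u) [Group S] [Fintype S] (y : S) where
  six : IrrCharacter S
  tw : IrrCharacter S
  dsix : Char.degree six = 6
  dtw : Char.degree tw = 27
  sixne : six ≠ Char.trivialChar S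
  twne : tw ≠ Char.trivialChar S
  real : ∀ g, conj (six.1 g) = six.1 g
  uniq : ∀ χ : IrrCharacter S, Char.degree χ = 27 → χ.1 y ≠ 0 → χ = tw
  pairs : ∀ a b : S, ¬ 7 ∣ orderOf a → ¬ 7 ∣ orderOf b → (Nat.card (Pairs a b y) : ℂ) =
    6048 * (1 - six.1 a * six.1 b / 6 - tw.1 a * tw.1 b / 27
      + (six.1 a + tw.1 a - 1) * (six.1 b + tw.1 b - 1) / 32)

theorem Raw.two_le {y : S} (h : Hyp S) (R : Raw S y) (χ : IrrCharacter S)
    (hne : χ ≠ Char.trivialChar S) : 2 ≤ Char.degree χ := by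
  haveI := h.simple
  have := Char.degree_pos χ
  by_contra hc
  exact hne (SmallSimple.eq_trivialChar_of_degree_one h.nonabelian χ (by
    rw [Char.apply_one_eq_degree, show Char.degree χ = 1 by omega, Nat.cast_one]))

theorem signed_mem : ∀ d ∈ Finset.range 78, 2 ≤ d → d ∣ 6048 →
    (((d : ℤ) - 1) % 7 = 0 → (d : ℤ) ∈ ([-6, 8, -27, 36, -48] : List ℤ)) ∧
    (((d : ℤ) + 1) % 7 = 0 → -(d : ℤ) ∈ ([-6, 8, -27, 36, -48] : List ℤ)) := by decide +kernel

theorem pair_cases : ∀ a ∈ ([-6, 8, -27, 36, -48] : List ℤ), ∀ b ∈ ([-6, 8, -27, 36, -48] : List ℤ),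
    (1 + a + b).natAbs ∣ 6048 → ((1 + a + b) - 3) % 7 = 0 →
    (a = -6 ∧ b = 8) ∨ (a = 8 ∧ b = -6) ∨ (a = 8 ∧ b = -27) ∨ (a = -27 ∧ b = 8) ∨
      (a = -6 ∧ b = -27) ∨ (a = -27 ∧ b = -6) := by decide +kernel

/-- Swapping the two non-trivial non-exceptional characters. -/
def Raw.swap {y : S} (R : Raw S y) : Raw S y where
  α := R.β
  β := R.α
  θ := R.θ
  ea := R.eb
  eb := R.ea
  e := R.e
  ea_sq := R.eb_sq
  eb_sq := R.ea_sq
  e_sq := R.e_sq
  αne := R.βne
  βne := R.αne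
  θne := R.θne
  αy := R.βy
  βy := R.αy
  αmod := R.βmod
  βmod := R.αmod
  θmod := R.θmod
  sumsq := by have := R.sumsq; omega
  αβ := R.αβ.symm
  rel g hg := by rw [R.rel g hg]; ring
  only χ h1 h2 := by
    rcases R.only χ h1 h2 with e | e | e
    · exact Or.inr (Or.inl e)
    · exact Or.inl e
    · exact Or.inr (Or.inr e)
  pairs a b ha hb := by rw [R.pairs a b ha hb]; ring

theorem exists_invol (h : Hyp S) : ∃ t : S, orderOf t = 2 := by
  haveI : Fact (Nat.Prime 2) := ⟨Nat.prime_two⟩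
  exact exists_prime_orderOf_dvd_card' 2 (by rw [h.card]; norm_num)

theorem signed_eq {χd : ℕ} {e Z : ℤ} (he : e = 1 ∨ e = -1) (h : e * (χd : ℤ) = Z) :
    (0 < Z → e = 1 ∧ (χd : ℤ) = Z) ∧ (Z < 0 → e = -1 ∧ (χd : ℤ) = -Z) := by
  rcases he with rfl | rfl <;> constructor <;> intro h' <;> omega

theorem Raw.pattern (h : Hyp S) {y : S} (R : Raw S y) :
    ∃ R' : Raw S y, (R'.ea * (Char.degree R'.α : ℤ) = -6 ∧ R'.eb * (Char.degree R'.β : ℤ) = 8) ∨
      (R'.ea * (Char.degree R'.α : ℤ) = 8 ∧ R'.eb * (Char.degree R'.β : ℤ) = -27) ∨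
      (R'.ea * (Char.degree R'.α : ℤ) = -6 ∧ R'.eb * (Char.degree R'.β : ℤ) = -27) := by
  have hmem : ∀ (χ : IrrCharacter S) (e : ℤ), (e = 1 ∨ e = -1) → χ ≠ Char.trivialChar S →
      ((Char.degree χ : ℤ) - e) % 7 = 0 → Char.degree χ ^ 2 < 6048 →
      e * (Char.degree χ : ℤ) ∈ ([-6, 8, -27, 36, -48] : List ℤ) := by
    intro χ e he hne hmod hlt
    have hd : Char.degree χ < 78 := by nlinarith
    have hs := signed_mem _ (Finset.mem_range.2 hd) (R.two_le h χ hne) (h.card ▸ Char.degree_dvd_natCard χ)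
    rcases he with rfl | rfl
    · rw [one_mul]; exact hs.1 hmod
    · rw [neg_one_mul]; exact hs.2 (by simpa using hmod)
  have hA := hmem R.α R.ea R.ea_sq R.αne R.αmod (by have := R.sumsq; omega)
  have hB := hmem R.β R.eb R.eb_sq R.βne R.βmod (by have := R.sumsq; omega)
  have hone : ¬ 7 ∣ orderOf (1 : S) := by simp
  have hrel : R.e * (Char.degree R.θ : ℤ) =
      1 + R.ea * (Char.degree R.α : ℤ) + R.eb * (Char.degree R.β : ℤ) := by
    have := R.rel 1 hone
    simp only [Char.apply_one_eq_degree] at this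
    exact_mod_cast this
  have hdiv : (1 + R.ea * (Char.degree R.α : ℤ) + R.eb * (Char.degree R.β : ℤ)).natAbs ∣ 6048 := by
    rw [← hrel, Int.natAbs_mul]
    have hθd : Char.degree R.θ ∣ 6048 := h.card ▸ Char.degree_dvd_natCard R.θ
    rcases R.e_sq with e | e <;> rw [e] <;> simpa using hθd
  have hmod : ((1 + R.ea * (Char.degree R.α : ℤ) + R.eb * (Char.degree R.β : ℤ)) - 3) % 7 = 0 := by
    rw [← hrel]
    have := R.θmod
    rcases R.e_sq with e | e <;> rw [e] at this ⊢ <;> omega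
  rcases pair_cases _ hA _ hB hdiv hmod with h' | h' | h' | h' | h' | h'
  · exact ⟨R, Or.inl h'⟩
  · exact ⟨R.swap, Or.inl ⟨h'.2, h'.1⟩⟩
  · exact ⟨R, Or.inr (Or.inl h')⟩
  · exact ⟨R.swap, Or.inr (Or.inl ⟨h'.2, h'.1⟩)⟩
  · exact ⟨R, Or.inr (Or.inr h')⟩
  · exact ⟨R.swap, Or.inr (Or.inr ⟨h'.2, h'.1⟩)⟩

theorem eight_check : ∀ a ∈ Finset.Icc (-7 : ℤ) 7, ∀ b ∈ Finset.Icc (-26 : ℤ) 26,
    (4 : ℤ) ∣ 8 - a → (4 : ℤ) ∣ 27 - b → (4 : ℤ) ∣ 18 - (b - a - 1) →
      216 + 27 * (a * a) - 8 * (b * b) + 12 * ((b - a - 1) * (b - a - 1)) ≠ 0 := by decide +kernel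

theorem six_check : ∀ a ∈ Finset.Icc (-5 : ℤ) 5, ∀ b ∈ Finset.Icc (-26 : ℤ) 26,
    (4 : ℤ) ∣ 6 - a → (4 : ℤ) ∣ 27 - b → (4 : ℤ) ∣ 32 - (a + b - 1) →
      864 - 144 * (a * a) - 32 * (b * b) + 27 * ((a + b - 1) * (a + b - 1)) = 0 →
      b = 3 ∨ b = 15 := by decide +kernel

theorem invol_value (h : Hyp S) {t : S} (ht : orderOf t = 2) (χ : IrrCharacter S)
    (hne : χ ≠ Char.trivialChar S) :
    ∃ a : ℤ, χ.1 t = a ∧ -(Char.degree χ : ℤ) < a ∧ a < Char.degree χ ∧
      (4 : ℤ) ∣ (Char.degree χ : ℤ) - a := by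
  haveI := h.simple
  obtain ⟨a, ha, -, -⟩ := FivePairs.exists_value_parity ht χ
  obtain ⟨h1, h2⟩ := abs_lt_degree h.nonabelian hne (fun e => by rw [e, orderOf_one] at ht; omega) ha
  exact ⟨a, ha, h1, h2, dvd_degree_sub h.nonabelian (by rw [← pow_two, ← ht, pow_orderOf_eq_one]) χ ha⟩

theorem Raw.false_eight (h : Hyp S) {y : S} (hy : orderOf y = 7) (R : Raw S y)
    (hA : R.ea * (Char.degree R.α : ℤ) = 8) (hB : R.eb * (Char.degree R.β : ℤ) = -27) : False := by
  obtain ⟨ea, dα⟩ := (signed_eq R.ea_sq hA).1 (by norm_num)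
  obtain ⟨eb, dβ⟩ := (signed_eq R.eb_sq hB).2 (by norm_num)
  have hrel1 := R.rel 1 (by simp)
  simp only [Char.apply_one_eq_degree, ea, eb] at hrel1
  have hθ : R.e * (Char.degree R.θ : ℤ) = -18 := by
    have : R.e * (Char.degree R.θ : ℤ) = 1 + (Char.degree R.α : ℤ) + -(Char.degree R.β : ℤ) := by
      push_cast at hrel1
      have h2 : ((R.e * (Char.degree R.θ : ℤ) : ℤ) : ℂ) =
          ((1 + (Char.degree R.α : ℤ) + -(Char.degree R.β : ℤ) : ℤ) : ℂ) := by
        push_cast; linear_combination hrel1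
      exact_mod_cast h2
    rw [this, dα, dβ]; norm_num
  obtain ⟨ee, dθ⟩ := (signed_eq R.e_sq hθ).2 (by norm_num)
  obtain ⟨t, ht⟩ := exists_invol h
  obtain ⟨a, ha, a1, a2, a4⟩ := invol_value h ht R.α R.αne
  obtain ⟨b, hb, b1, b2, b4⟩ := invol_value h ht R.β R.βne
  obtain ⟨c, hc, -, -, c4⟩ := invol_value h ht R.θ R.θne
  rw [dα] at a1 a2 a4
  rw [dβ] at b1 b2 b4
  rw [dθ] at c4
  have ht7 : ¬ 7 ∣ orderOf t := by rw [ht]; norm_num
  have hrel := R.rel t ht7
  rw [ea, eb, ee, ha, hb, hc] at hrel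
  have hc' : c = b - a - 1 := by
    have : ((c : ℤ) : ℂ) = ((b - a - 1 : ℤ) : ℂ) := by push_cast at hrel ⊢; linear_combination -hrel
    exact_mod_cast this
  have hp := R.pairs t t ht7 ht7
  rw [pairs_invol_isEmpty h hy ht ht, ea, eb, ee, ha, hb, hc,
    show (Char.degree R.α : ℂ) = 8 by rw [show Char.degree R.α = 8 by omega]; norm_num,
    show (Char.degree R.β : ℂ) = 27 by rw [show Char.degree R.β = 27 by omega]; norm_num,
    show (Char.degree R.θ : ℂ) = 18 by rw [show Char.degree R.θ = 18 by omega]; norm_num, hc'] at hp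
  refine eight_check a (Finset.mem_Icc.2 ⟨by omega, by omega⟩) b (Finset.mem_Icc.2 ⟨by omega, by omega⟩)
    a4 (by simpa using b4) (hc' ▸ by simpa using c4) ?_
  have : (((216 + 27 * (a * a) - 8 * (b * b) + 12 * ((b - a - 1) * (b - a - 1)) : ℤ)) : ℂ) =
      ((0 : ℤ) : ℂ) := by
    push_cast at hp ⊢
    linear_combination -hp / 28
  exact_mod_cast this

theorem Raw.real_α (h : Hyp S) {y : S} (R : Raw S y)
    (hd1 : Char.degree R.α ≠ Char.degree R.β) (hd2 : Char.degree R.α ≠ Char.degree R.θ) (g : S) :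
    conj (R.α.1 g) = R.α.1 g := by
  have h1 : Char.conjIrr R.α ≠ Char.trivialChar S := fun e => R.αne (by
    refine Subtype.ext (funext fun x => ?_)
    have := congrFun (congrArg Subtype.val e) x
    rw [Char.conjIrr_apply, Char.trivialChar_apply] at this
    rw [Char.trivialChar_apply, ← Complex.conj_conj (R.α.1 x), this, map_one])
  have hd : Char.degree (Char.conjIrr R.α) = Char.degree R.α := by
    apply Nat.cast_injective (R := ℂ)
    rw [← Char.apply_one_eq_degree, Char.conjIrr_apply, Char.apply_one_eq_degree, Complex.conj_natCast]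
  have hy' : (Char.conjIrr R.α).1 y ≠ 0 := by
    rw [Char.conjIrr_apply, R.αy]
    rcases R.ea_sq with e | e <;> rw [e] <;> simp
  rcases R.only _ hy' h1 with e | e | e
  · rw [← Char.conjIrr_apply, e]
  · exact absurd (by rw [← hd, e]) hd1
  · exact absurd (by rw [← hd, e.1]) hd2

theorem exists_sylow_three (h : Hyp S) : ∃ P : Subgroup S, Nat.card P = 27 := by
  haveI : Fact (Nat.Prime 3) := ⟨Nat.prime_three⟩
  exact Sylow.exists_subgroup_card_pow_prime 3 (n := 3) (by rw [h.card]; norm_num)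

theorem orderOf_three (h : Hyp S) {P : Subgroup S} (hP : Nat.card P = 27) {x : S} (hx : x ∈ P)
    (hx1 : x ≠ 1) : orderOf x = 3 := by
  have hd : orderOf x ∣ 27 := hP ▸ Subgroup.orderOf_dvd_natCard _ hx
  have hmem : orderOf x ∈ (27 : ℕ).divisors := Nat.mem_divisors.2 ⟨hd, by norm_num⟩
  rw [show (27 : ℕ).divisors = {1, 3, 9, 27} by decide] at hmem
  simp only [Finset.mem_insert, Finset.mem_singleton] at hmem
  rcases hmem with e | e | e | e
  · exact absurd (orderOf_eq_one_iff.1 e) hx1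
  · exact e
  · exact absurd e (h.no9 x)
  · exact absurd (orderOf_pow_of_dvd (x := x) (n := 3) (by norm_num) (by rw [e]; norm_num))
      (by rw [e]; exact h.no9 _)

/-- The sum of a character over a subgroup of order 27 is 27 times a natural number. -/
theorem sum_over_27 {P : Subgroup S} [Fintype P] (hP : Nat.card P = 27) (χ : IrrCharacter S) :
    ∃ n : ℕ, ∑ g : P, χ.1 g = 27 * n := by
  obtain ⟨k, hk⟩ := Char.IsCharacter.exists_nat_classInner
    (Char.IsCharacter.restrict (Char.irr_isCharacter χ) P) (Char.irr_isCharacter (Char.trivialChar P))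
  simp only [classInner, Char.trivialChar_apply, map_one, mul_one, hP] at hk
  refine ⟨k, ?_⟩
  rw [← hk]
  push_cast
  field_simp

theorem Raw.false_three (h : Hyp S) {y : S} (R : Raw S y)
    (hA : R.ea * (Char.degree R.α : ℤ) = -6) (hB : R.eb * (Char.degree R.β : ℤ) = 8) : False := by
  classical
  haveI := h.simple
  obtain ⟨ea, dα⟩ := (signed_eq R.ea_sq hA).2 (by norm_num)
  obtain ⟨eb, dβ⟩ := (signed_eq R.eb_sq hB).1 (by norm_num)
  have hrel1 := R.rel 1 (by simp)
  simp only [Char.apply_one_eq_degree] at hrel1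
  have hθ : R.e * (Char.degree R.θ : ℤ) = 3 := by
    have : R.e * (Char.degree R.θ : ℤ) =
        1 + R.ea * (Char.degree R.α : ℤ) + R.eb * (Char.degree R.β : ℤ) := by exact_mod_cast hrel1
    omega
  obtain ⟨ee, dθ⟩ := (signed_eq R.e_sq hθ).1 (by norm_num)
  obtain ⟨P, hP⟩ := exists_sylow_three h
  have hreal : ∀ g, conj (R.θ.1 g) = R.θ.1 g ∨ 7 ∣ orderOf g := fun g => by
    by_cases hg : 7 ∣ orderOf g
    · exact Or.inr hg
    left
    have h1 := R.rel g hg
    have hα := R.real_α h (by omega) (by omega) g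
    have hβ := R.swap.real_α h (show Char.degree R.β ≠ Char.degree R.α by omega)
      (show Char.degree R.β ≠ Char.degree R.θ by omega) g
    simp only [ee, ea, eb, Int.cast_one, one_mul, Int.cast_neg] at h1
    have hβ' : conj (R.β.1 g) = R.β.1 g := hβ
    rw [h1]
    simp [map_add, hα, hβ']
  have hzero : ∀ x ∈ P, x ≠ 1 → R.θ.1 x = 0 := by
    intro x hx hx1
    have hx3 := orderOf_three h hP hx hx1
    have hr := (hreal x).resolve_right (by rw [hx3]; norm_num)
    obtain ⟨a, k, ha, hk, hak⟩ := value_three hx3 R.θ hr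
    obtain ⟨h1, h2⟩ := abs_lt_degree h.nonabelian R.θne hx1 ha
    have : a = 0 := by omega
    rw [ha, this, Int.cast_zero]
  obtain ⟨n, hn⟩ := sum_over_27 hP R.θ
  rw [Finset.sum_eq_single_of_mem (1 : P) (Finset.mem_univ _) (fun g _ hg =>
    hzero g g.2 fun e => hg (Subtype.ext e)), Subgroup.coe_one, Char.apply_one_eq_degree] at hn
  have : Char.degree R.θ = 27 * n := by exact_mod_cast hn
  omega

theorem exists_chars (h : Hyp S) : ∃ y : S, orderOf y = 7 ∧ Nonempty (Chars S y) := by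
  obtain ⟨y, hy, ⟨R₀⟩⟩ := exists_raw h
  refine ⟨y, hy, ?_⟩
  obtain ⟨R, hR⟩ := R₀.pattern h
  rcases hR with ⟨hA, hB⟩ | ⟨hA, hB⟩ | ⟨hA, hB⟩
  · exact (R.false_three h hA hB).elim
  · exact (R.false_eight h hy hA hB).elim
  obtain ⟨ea, dα⟩ := (signed_eq R.ea_sq hA).2 (by norm_num)
  obtain ⟨eb, dβ⟩ := (signed_eq R.eb_sq hB).2 (by norm_num)
  have hrel1 := R.rel 1 (by simp)
  simp only [Char.apply_one_eq_degree] at hrel1
  have hθ : R.e * (Char.degree R.θ : ℤ) = -32 := by
    have : R.e * (Char.degree R.θ : ℤ) =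
        1 + R.ea * (Char.degree R.α : ℤ) + R.eb * (Char.degree R.β : ℤ) := by exact_mod_cast hrel1
    omega
  obtain ⟨ee, dθ⟩ := (signed_eq R.e_sq hθ).2 (by norm_num)
  have d6 : Char.degree R.α = 6 := by omega
  have d27 : Char.degree R.β = 27 := by omega
  refine ⟨{ six := R.α, tw := R.β, dsix := d6, dtw := d27, sixne := R.αne, twne := R.βne
            real := fun g => R.real_α h (by omega) (by omega) g, uniq := ?_, pairs := ?_ }⟩
  · intro χ hd hne
    by_cases hT : χ = Char.trivialChar S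
    · exfalso
      have h1 := Char.apply_one_eq_degree χ
      rw [hd, hT, Char.trivialChar_apply] at h1
      norm_num at h1
    rcases R.only χ hne hT with e | e | ⟨e, -⟩
    · rw [e] at hd; omega
    · exact e
    · omega
  · intro a b ha hb
    have hta := R.rel a ha
    have htb := R.rel b hb
    rw [ea, eb, ee] at hta htb
    push_cast at hta htb
    have ea' : R.θ.1 a = R.α.1 a + R.β.1 a - 1 := by linear_combination -hta
    have eb' : R.θ.1 b = R.α.1 b + R.β.1 b - 1 := by linear_combination -htb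
    rw [R.pairs a b ha hb, ea, eb, ee, d6, d27,
      show Char.degree R.θ = 32 by omega, ea', eb']
    push_cast
    ring

/-- The value of the character of degree 27 at an involution. -/
theorem Chars.tw_invol (h : Hyp S) {y : S} (hy : orderOf y = 7) (C : Chars S y) {t : S}
    (ht : orderOf t = 2) : C.tw.1 t = 3 ∨ C.tw.1 t = 15 := by
  obtain ⟨a, ha, a1, a2, a4⟩ := invol_value h ht C.six C.sixne
  obtain ⟨b, hb, b1, b2, b4⟩ := invol_value h ht C.tw C.twne
  rw [C.dsix] at a1 a2 a4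
  rw [C.dtw] at b1 b2 b4
  have ht7 : ¬ 7 ∣ orderOf t := by rw [ht]; norm_num
  have hp := C.pairs t t ht7 ht7
  rw [pairs_invol_isEmpty h hy ht ht, ha, hb] at hp
  have heq : 864 - 144 * (a * a) - 32 * (b * b) + 27 * ((a + b - 1) * (a + b - 1)) = 0 := by
    have : (((864 - 144 * (a * a) - 32 * (b * b) + 27 * ((a + b - 1) * (a + b - 1))) : ℤ) : ℂ) =
        ((0 : ℤ) : ℂ) := by
      push_cast at hp ⊢
      linear_combination -hp / 7
    exact_mod_cast this
  rcases six_check a (Finset.mem_Icc.2 ⟨by omega, by omega⟩) b (Finset.mem_Icc.2 ⟨by omega, by omega⟩)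
    a4 b4 (by obtain ⟨i, hi⟩ := a4; obtain ⟨j, hj⟩ := b4
              exact ⟨i + j, by push_cast at hi hj; omega⟩) heq with e | e
  · exact Or.inl (by rw [hb, e]; norm_num)
  · exact Or.inr (by rw [hb, e]; norm_num)

end Cfsg.Agent.G2TwoRecog
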