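import Mathlib

/-!
# Coordinates for the extraspecial group of order 27 and exponent 3
-/

set_option autoImplicit false
set_option linter.unusedSectionVars false

namespace Cfsg.Agent.G2TwoRecog

universe u

/-- Coordinates. -/
abbrev V : Type := ZMod 3 × ZMod 3 × ZMod 3

/-- The multiplication in coordinates. -/
def vmul (p q : V) : V := (p.1 + q.1, p.2.1 + q.2.1, p.2.2 + q.2.2 - p.2.1 * q.1)

/-- The inverse in coordinates. -/
def vinv (p : V) : V := (-p.1, -p.2.1, -p.2.2 - p.1 * p.2.1)

/-- The automorphism `x ↦ y`, `y ↦ xy`, `z ↦ z⁻¹` in coordinates. -/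
def gam (p : V) : V :=
  vmul (vmul (0, p.1, 0) (p.2.1, p.2.1, p.2.1 * p.2.1 - p.2.1)) (0, 0, -p.2.2)

theorem vmul_vinv : ∀ p : V, vmul (vinv p) p = 0 ∧ vmul p (vinv p) = 0 := by decide +kernel

theorem vinv_vmul_cancel : ∀ p q : V, vmul (vinv p) q = 0 → p = q := by decide +kernel

variable {G : Type u} [Group G]

/-- The relations. -/
structure Heis (x y z : G) : Prop where
  x3 : x ^ 3 = 1
  y3 : y ^ 3 = 1
  z3 : z ^ 3 = 1
  zx : Commute z x
  zy : Commute z y
  yx : y * x = x * y * z⁻¹

/-- The element with given coordinates. -/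
def coord (x y z : G) (v : V) : G := x ^ v.1.val * y ^ v.2.1.val * z ^ v.2.2.val

theorem pow_zmod {x : G} (h : x ^ 3 = 1) {n : ℕ} {i : ZMod 3} (hn : (n : ZMod 3) = i) :
    x ^ n = x ^ i.val := by
  rw [← hn, ZMod.val_natCast, ← pow_eq_pow_mod _ h]

namespace Heis

variable {x y z : G} (H : Heis x y z)

include H

theorem pow_mul_x (b : ℕ) : y ^ b * x = x * y ^ b * z ^ (2 * b) := by
  induction b with
  | zero => simp
  | succ b ih =>
    have hz : z⁻¹ = z ^ 2 := inv_eq_of_mul_eq_one_left (by rw [← pow_succ, H.z3])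
    calc y ^ (b + 1) * x = y * (y ^ b * x) := by rw [pow_succ']; group
      _ = (y * x) * (y ^ b * z ^ (2 * b)) := by rw [ih]; group
      _ = x * y * (z ^ 2 * y ^ b) * z ^ (2 * b) := by rw [H.yx, hz]; group
      _ = x * y * (y ^ b * z ^ 2) * z ^ (2 * b) := by rw [(H.zy.pow_pow 2 b).eq]
      _ = x * y ^ (b + 1) * z ^ (2 * (b + 1)) := by
          rw [pow_succ', show 2 * (b + 1) = 2 + 2 * b by ring, pow_add z 2]; group

theorem pow_mul_pow (a b : ℕ) : y ^ b * x ^ a = x ^ a * y ^ b * z ^ (2 * a * b) := by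
  induction a with
  | zero => simp
  | succ a ih =>
    calc y ^ b * x ^ (a + 1) = (y ^ b * x ^ a) * x := by rw [pow_succ]; group
      _ = x ^ a * y ^ b * (z ^ (2 * a * b) * x) := by rw [ih]; group
      _ = x ^ a * y ^ b * (x * z ^ (2 * a * b)) := by rw [((H.zx).pow_left _).eq]
      _ = x ^ a * (y ^ b * x) * z ^ (2 * a * b) := by group
      _ = x ^ (a + 1) * y ^ b * z ^ (2 * (a + 1) * b) := by
          rw [H.pow_mul_x, show 2 * (a + 1) * b = 2 * b + 2 * a * b by ring, pow_add z (2 * b),
            pow_succ]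
          group

theorem coord_mul (p q : V) : coord x y z p * coord x y z q = coord x y z (vmul p q) := by
  obtain ⟨a, b, c⟩ := p
  obtain ⟨a', b', c'⟩ := q
  simp only [coord, vmul]
  calc x ^ a.val * y ^ b.val * z ^ c.val * (x ^ a'.val * y ^ b'.val * z ^ c'.val)
      = x ^ a.val * y ^ b.val * (z ^ c.val * x ^ a'.val) * y ^ b'.val * z ^ c'.val := by group
    _ = x ^ a.val * y ^ b.val * (x ^ a'.val * z ^ c.val) * y ^ b'.val * z ^ c'.val := by
        rw [(H.zx.pow_pow _ _).eq]
    _ = x ^ a.val * (y ^ b.val * x ^ a'.val) * (z ^ c.val * y ^ b'.val) * z ^ c'.val := by group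
    _ = x ^ a.val * (x ^ a'.val * y ^ b.val * z ^ (2 * a'.val * b.val)) * (y ^ b'.val * z ^ c.val) *
        z ^ c'.val := by rw [H.pow_mul_pow, (H.zy.pow_pow _ _).eq]
    _ = x ^ a.val * x ^ a'.val * y ^ b.val * (z ^ (2 * a'.val * b.val) * y ^ b'.val) * z ^ c.val *
        z ^ c'.val := by group
    _ = x ^ a.val * x ^ a'.val * y ^ b.val * (y ^ b'.val * z ^ (2 * a'.val * b.val)) * z ^ c.val *
        z ^ c'.val := by rw [(H.zy.pow_pow _ _).eq]
    _ = x ^ (a.val + a'.val) * y ^ (b.val + b'.val) * z ^ (2 * a'.val * b.val + c.val + c'.val) := by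
        rw [pow_add x, pow_add y, pow_add z, pow_add z]; group
    _ = _ := by
        rw [pow_zmod H.x3 (i := a + a') (by push_cast; simp),
          pow_zmod H.y3 (i := b + b') (by push_cast; simp),
          pow_zmod H.z3 (i := c + c' - b * a') (by
            push_cast [ZMod.natCast_zmod_val]
            have h3 : (3 : ZMod 3) = 0 := by decide
            linear_combination (a' * b) * h3)]

theorem coord_zero : coord x y z 0 = 1 := by simp [coord]

theorem coord_inv (p : V) : (coord x y z p)⁻¹ = coord x y z (vinv p) :=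
  inv_eq_of_mul_eq_one_left (by rw [H.coord_mul, (vmul_vinv p).1, H.coord_zero])

theorem coord_injective (hz : orderOf z = 3) (hx : x ∉ Subgroup.zpowers z) :
    Function.Injective (coord x y z) := by
  have key : ∀ d : V, coord x y z d = 1 → d = 0 := by
    rintro ⟨a, b, c⟩ hd
    simp only [coord] at hd
    have hb : b = 0 := by
      by_contra hb
      have hyb : y ^ b.val = (x ^ a.val)⁻¹ * (z ^ c.val)⁻¹ := by
        rw [eq_mul_inv_iff_mul_eq]; exact eq_inv_of_mul_eq_one_right (by rw [← mul_assoc, hd])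
      have hc : Commute (y ^ b.val) x := by
        rw [hyb]
        exact (((Commute.refl x).pow_left _).inv_left).mul_left ((H.zx.pow_left _).inv_left)
      have h1 := H.pow_mul_x b.val
      rw [hc.eq] at h1
      have h2 : z ^ (2 * b.val) = 1 := by rw [eq_comm, mul_eq_left] at h1; exact h1
      have h3 := orderOf_dvd_of_pow_eq_one h2
      rw [hz] at h3
      have hlt := b.val_lt
      have hb0 : b.val ≠ 0 := fun e => hb ((ZMod.val_eq_zero b).1 e)
      omega
    subst hb
    simp only [ZMod.val_zero, pow_zero, mul_one] at hd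
    have ha : a = 0 := by
      by_contra ha
      refine hx ?_
      have hmem : x ^ a.val ∈ Subgroup.zpowers z := by
        rw [eq_inv_of_mul_eq_one_left hd]
        exact inv_mem (Subgroup.npow_mem_zpowers z _)
      have hlt := a.val_lt
      have ha0 : a.val ≠ 0 := fun e => ha ((ZMod.val_eq_zero a).1 e)
      rcases (show a.val = 1 ∨ a.val = 2 by omega) with e | e <;> rw [e] at hmem
      · rwa [pow_one] at hmem
      · have : x = (x ^ 2)⁻¹ := eq_inv_of_mul_eq_one_left (by rw [← pow_succ', H.x3])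
        rw [this]; exact inv_mem hmem
    subst ha
    simp only [ZMod.val_zero, pow_zero, one_mul] at hd
    have h3 := orderOf_dvd_of_pow_eq_one hd
    rw [hz] at h3
    have hlt := c.val_lt
    have : c.val = 0 := by omega
    rw [(ZMod.val_eq_zero c).1 this]
    rfl
  intro p q he
  refine vinv_vmul_cancel p q (key _ ?_)
  rw [← H.coord_mul, ← H.coord_inv, he, inv_mul_cancel]

end Heis

end Cfsg.Agent.G2TwoRecog
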