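import Cfsg.Agent.Lib.G2TwoRecog.Points
import Cfsg.Agent.Lib.G2TwoRecog.Heis

/-!
# A frame in a simple group of order 6048 without elements of order 9, 14 or 21
-/

set_option autoImplicit false
set_option linter.style.haveILetI false
set_option linter.unusedSectionVars false

open Cfsg Cfsg.Agent Subgroup MulAction

namespace Cfsg.Agent.G2TwoRecog

universe u

/-- The table `γ`-orbit facts used below. -/
theorem gam_inj : ∀ v : V, gam v = 0 → v = 0 := by decide +kernel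

theorem gam_heis : ∀ v : V, vmul v (0, 1, 0) = vmul (vmul (0, 1, 0) v) (0, 0, 1) → v.1 = 1 := by
  decide +kernel

/-- The orbit representatives of `γ` outside `⟨z⟩`. -/
def rep (r : Fin 3) : V := (0, 1, (r.val : ZMod 3))

theorem gam_orbits : ∀ v : V, (v.1 = 0 ∧ v.2.1 = 0) ∨ ∃ r : Fin 3, ∃ i : Fin 8, gam^[i.val] (rep r) = v := by
  decide +kernel

theorem gam_four_orbit : ∀ v : V, ¬ (v.1 = 0 ∧ v.2.1 = 0) → ∀ i : Fin 4, ∀ j : Fin 4,
    gam^[2 * i.val] v = gam^[2 * j.val] v → i = j := by decide +kernel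

theorem zmod3_cases : ∀ j : ZMod 3, j = 0 ∨ j = 1 ∨ j = 2 := by decide

theorem gam_four_z : gam^[4] ((0, 0, 1) : V) = (0, 0, 1) := by decide +kernel

theorem gam_odd : ∀ v : V, ¬ (v.1 = 0 ∧ v.2.1 = 0) → ∀ i : Fin 4, gam^[2 * i.val] v ≠ gam v := by
  decide +kernel

theorem gam_special : ∀ v : V, ¬ (v.1 = 0 ∧ v.2.1 = 0) → ∀ i : Fin 4, gam^[2 * i.val] v ≠ (0, 0, 1) := by
  decide +kernel

variable {S : Type u} [Group S] [Fintype S] [Fact (Nat.Prime 3)]

/-- A frame. -/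
structure Frame (S : Type u) [Group S] [Fintype S] [Fact (Nat.Prime 3)] where
  P : Sylow 3 S
  q : Sylow 3 S
  x : S
  y : S
  z : S
  g : S
  w : S
  heis : Heis x y z
  inj : Function.Injective (coord x y z)
  mem : ∀ v, coord x y z v ∈ (P : Subgroup S)
  surj : ∀ p ∈ (P : Subgroup S), ∃ v, coord x y z v = p
  qne : q ≠ P
  gP : g • P = P
  gq : g • q = q
  g8 : g ^ 8 = 1
  g4 : g ^ 4 ≠ 1
  gx : g * x * g⁻¹ = y
  gy : g * y * g⁻¹ = x * y
  gz : g * z * g⁻¹ = z⁻¹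
  wP : w • P = q
  wq : w • q = P
  ww : w * w = 1
  wg : w * g = g ^ 5 * w
  wz : w • (coord x y z (0, 0, 1) • q) = coord x y z (0, 0, 2) • q
  wrep : ∃ r : Fin 3, w • (coord x y z (rep r) • q) = coord x y z (rep r) • q

/-- Conjugation by `g` in coordinates. -/
theorem conj_coord {x y z g : S} (H : Heis x y z) (gx : g * x * g⁻¹ = y)
    (gy : g * y * g⁻¹ = x * y) (gz : g * z * g⁻¹ = z⁻¹) (v : V) :
    g * coord x y z v * g⁻¹ = coord x y z (gam v) := by
  obtain ⟨a, b, c⟩ := v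
  have h1 : g * coord x y z (a, b, c) * g⁻¹ = y ^ a.val * (x * y) ^ b.val * (z⁻¹) ^ c.val := by
    calc g * coord x y z (a, b, c) * g⁻¹
        = (g * x * g⁻¹) ^ a.val * (g * y * g⁻¹) ^ b.val * (g * z * g⁻¹) ^ c.val := by
          rw [conj_pow, conj_pow, conj_pow]
          simp only [coord]
          group
      _ = _ := by rw [gx, gy, gz]
  have hxy : (x * y) ^ b.val = coord x y z (b, b, b * b - b) := by
    have e1 : x * y = coord x y z (1, 1, 0) := by simp [coord, ZMod.val_one]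
    rw [e1]
    have hb : b = 0 ∨ b = 1 ∨ b = 2 := zmod3_cases b
    rcases hb with rfl | rfl | rfl
    · rw [ZMod.val_zero, pow_zero]; exact H.coord_zero.symm
    · rw [ZMod.val_one, pow_one]; rfl
    · rw [show ((2 : ZMod 3)).val = 2 from rfl, pow_two, H.coord_mul]; rfl
  have hy : y ^ a.val = coord x y z (0, a, 0) := by simp [coord]
  have hz : (z⁻¹) ^ c.val = coord x y z (0, 0, -c) := by
    have : coord x y z (0, 0, -c) = (coord x y z (0, 0, c))⁻¹ := by
      rw [H.coord_inv]; simp [vinv]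
    rw [this, inv_pow]
    simp [coord]
  rw [h1, hxy, hy, hz, H.coord_mul, H.coord_mul]
  rfl

theorem conj_coord_pow {x y z g : S} (H : Heis x y z) (gx : g * x * g⁻¹ = y)
    (gy : g * y * g⁻¹ = x * y) (gz : g * z * g⁻¹ = z⁻¹) (v : V) (n : ℕ) :
    g ^ n * coord x y z v * (g ^ n)⁻¹ = coord x y z (gam^[n] v) := by
  induction n with
  | zero => simp
  | succ n ih =>
    rw [Function.iterate_succ_apply', ← conj_coord H gx gy gz, ← ih, pow_succ']
    group

section Build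

variable (h : Hyp S) {y₀ : S} (C : Chars S y₀) {P : Sylow 3 S} {z : S}
  (hz : z ∈ (P : Subgroup S)) (hzs : Special C z)

include h hz hzs

theorem conj_Z_inv {g c : S} (hgz : g * z * g⁻¹ = z⁻¹) (hc : c ∈ zpowers z) : g * c * g⁻¹ = c⁻¹ := by
  obtain ⟨i, rfl⟩ := mem_zpowers_iff.1 hc
  rw [show g * z ^ i * g⁻¹ = (g * z * g⁻¹) ^ i from map_zpow (MulAut.conj g) z i, hgz, inv_zpow]

theorem sq_comm_Z {g c : S} (hgz : g * z * g⁻¹ = z⁻¹) (hc : c ∈ zpowers z) :
    g ^ 2 * c * (g ^ 2)⁻¹ = c := by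
  rw [pow_two, show g * g * c * (g * g)⁻¹ = g * (g * c * g⁻¹) * g⁻¹ by group,
    conj_Z_inv h C hz hzs hgz hc, show g * c⁻¹ * g⁻¹ = (g * c * g⁻¹)⁻¹ by group,
    conj_Z_inv h C hz hzs hgz hc, inv_inv]

theorem four_comm_Z {g c : S} (hgz : g * z * g⁻¹ = z⁻¹) (hc : c ∈ zpowers z) :
    g ^ 4 * c * (g ^ 4)⁻¹ = c := by
  rw [show g ^ 4 = g ^ 2 * g ^ 2 by rw [← pow_add],
    show g ^ 2 * g ^ 2 * c * (g ^ 2 * g ^ 2)⁻¹ = g ^ 2 * (g ^ 2 * c * (g ^ 2)⁻¹) * (g ^ 2)⁻¹ by group,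
    sq_comm_Z h C hz hzs hgz hc, sq_comm_Z h C hz hzs hgz hc]

variable {g x : S} (hgN : g ∈ normalizer ((P : Subgroup S) : Set S)) (hg8 : g ^ 8 = 1)
  (hg4 : g ^ 4 ≠ 1) (hgz : g * z * g⁻¹ = z⁻¹) (hx : x ∈ (P : Subgroup S)) (hxz : x ∉ zpowers z)

include hgN hg8 hg4 hgz hx hxz

omit hz hzs hgz hx hxz in
theorem orderOf_four : orderOf (g ^ 4) = 2 := orderOf_eq_prime (by rw [← pow_mul]; exact hg8) hg4

/-- The commutator of `x` and `gxg⁻¹` is not trivial. -/
theorem commutator_ne : x⁻¹ * (g * x * g⁻¹)⁻¹ * x * (g * x * g⁻¹) ≠ 1 := by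
  intro e
  set y := g * x * g⁻¹ with hy
  have hcomm : y * x = x * y := by
    calc y * x = y * x * (x⁻¹ * y⁻¹ * x * y) := by rw [e, mul_one]
      _ = x * y := by group
  obtain ⟨k, w, hk, hw, hyk⟩ := cent_form h C hz hzs hx hxz hcomm
  have hk0 : k ≠ 0 := fun e0 => hxz (by
    rw [e0, pow_zero, one_mul] at hyk
    have h1 := conj_mem_Z h C hz hzs (inv_mem hgN) hw
    rwa [← hyk, hy, show g⁻¹ * (g * x * g⁻¹) * g⁻¹⁻¹ = x by group] at h1)
  have key : ∀ n : ℕ, ∃ d ∈ zpowers z, g ^ n * x * (g ^ n)⁻¹ = x ^ (k ^ n) * d := by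
    intro n
    induction n with
    | zero => exact ⟨1, one_mem _, by simp⟩
    | succ n ih =>
      obtain ⟨d, hd, hn⟩ := ih
      refine ⟨w ^ (k ^ n) * (g * d * g⁻¹), mul_mem (pow_mem hw _) (conj_mem_Z h C hz hzs hgN hd), ?_⟩
      rw [pow_succ' g, show g * g ^ n * x * (g * g ^ n)⁻¹ = g * (g ^ n * x * (g ^ n)⁻¹) * g⁻¹ by group,
        hn, show g * (x ^ k ^ n * d) * g⁻¹ = (g * x ^ k ^ n * g⁻¹) * (g * d * g⁻¹) by group, ← conj_pow,
        ← hy, hyk, (Zcomm h C hz hzs (pow_mem hx k) hw).mul_pow, ← pow_mul, mul_assoc, pow_succ' k]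
  obtain ⟨d, hd, h4⟩ := key 4
  refine invol_no_fixed h C hz hzs (pow_mem hgN 4) (orderOf_four h hgN hg8 hg4) hx hxz ?_
  rw [h4, pow_eq_pow_mod _ (cube_eq_one h hx)]
  rcases (show k = 1 ∨ k = 2 by omega) with rfl | rfl <;> norm_num <;> exact hd

theorem coord_base : ∃ c : S, c ∈ zpowers z ∧ Special C c ∧ zpowers c = zpowers z ∧
    Heis x (g * x * g⁻¹) c ∧ Function.Injective (coord x (g * x * g⁻¹) c) ∧
    (∀ v, coord x (g * x * g⁻¹) c v ∈ (P : Subgroup S)) ∧
    (∀ p ∈ (P : Subgroup S), ∃ v, coord x (g * x * g⁻¹) c v = p) := by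
  set y := g * x * g⁻¹ with hy
  have hyP : y ∈ (P : Subgroup S) := conj_mem_P h C hz hzs hgN hx
  set c := x⁻¹ * y⁻¹ * x * y with hc
  have hcz : c ∈ zpowers z := comm_mem h C hz hzs hx hyP
  have hc1 : c ≠ 1 := commutator_ne h C hz hzs hgN hg8 hg4 hgz hx hxz
  have hcP : c ∈ (P : Subgroup S) := zpowers_le.2 hz hcz
  have hoc : orderOf c = 3 := orderOf_three h (card_sylow_three_eq h P) hcP hc1
  have hzc : zpowers c = zpowers z :=
    eq_of_le_of_card_ge (zpowers_le.2 hcz) (by rw [Nat.card_zpowers, Nat.card_zpowers, hzs.1, hoc])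
  have hcs : Special C c := by
    obtain ⟨i, hi⟩ := mem_zpowers_iff.1 hcz
    have h3 : z ^ (3 : ℤ) = 1 := by
      have : z ^ 3 = 1 := hzs.1 ▸ pow_orderOf_eq_one z
      exact_mod_cast this
    have hi' : z ^ (i % 3) = c := by
      conv_rhs => rw [← hi, ← Int.emod_add_mul_ediv i 3, zpow_add, zpow_mul, h3, one_zpow, mul_one]
    rcases (show i % 3 = 0 ∨ i % 3 = 1 ∨ i % 3 = 2 by omega) with e | e | e <;> rw [e] at hi'
    · exact absurd (by rw [← hi', zpow_zero]) hc1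
    · rw [← hi', zpow_one]; exact hzs
    · rw [← hi', show z ^ (2 : ℤ) = z⁻¹ by
        refine eq_inv_of_mul_eq_one_left ?_
        rw [← h3, ← zpow_add_one]; norm_num]
      exact hzs.inv
  have H : Heis x y c :=
    { x3 := cube_eq_one h hx, y3 := cube_eq_one h hyP, z3 := cube_eq_one h hcP
      zx := (Zcomm h C hz hzs hx hcz).symm, zy := (Zcomm h C hz hzs hyP hcz).symm
      yx := by rw [hc]; group }
  have hinj := H.coord_injective hoc (hzc ▸ hxz)
  have hmem : ∀ v, coord x y c v ∈ (P : Subgroup S) := fun v =>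
    mul_mem (mul_mem (pow_mem hx _) (pow_mem hyP _)) (pow_mem hcP _)
  refine ⟨c, hcz, hcs, hzc, H, hinj, hmem, fun p hp => ?_⟩
  let f : V → (P : Subgroup S) := fun v => ⟨coord x y c v, hmem v⟩
  obtain ⟨v, hv⟩ := ((Nat.bijective_iff_injective_and_card f).2
    ⟨fun a b e => hinj (congrArg Subtype.val e), by
      rw [card_sylow_three_eq h P]; simp [V, Nat.card_prod, Nat.card_eq_fintype_card, ZMod.card]⟩).2 ⟨p, hp⟩
  exact ⟨v, congrArg Subtype.val hv⟩

/-- The image of `gxg⁻¹` is `x (gxg⁻¹)^{±1}` modulo `⟨z⟩`. -/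
theorem image_mod : ∃ d ∈ zpowers z,
    g * (g * x * g⁻¹) * g⁻¹ = x * (g * x * g⁻¹) * d ∨
    g * (g * x * g⁻¹) * g⁻¹ = x * (g * x * g⁻¹) * (g * x * g⁻¹) * d := by
  obtain ⟨c, hcz, -, -, H, hinj, -, hsurj⟩ := coord_base h C hz hzs hgN hg8 hg4 hgz hx hxz
  set y := g * x * g⁻¹ with hy
  have hyP : y ∈ (P : Subgroup S) := conj_mem_P h C hz hzs hgN hx
  obtain ⟨⟨a, b, e⟩, hv⟩ := hsurj _ (conj_mem_P h C hz hzs hgN hyP)
  have ha : a = 1 := by
    have eY : coord x y c (0, 1, 0) = y := by simp [coord, ZMod.val_one]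
    have eZ : coord x y c (0, 0, 1) = c := by simp [coord, ZMod.val_one]
    refine gam_heis (a, b, e) (hinj ?_)
    rw [← H.coord_mul, ← H.coord_mul, ← H.coord_mul, eY, eZ, hv]
    calc g * y * g⁻¹ * y = g * (y * x) * g⁻¹ := by rw [hy]; group
      _ = g * (x * y * c⁻¹) * g⁻¹ := by rw [H.yx]
      _ = (g * x * g⁻¹) * (g * y * g⁻¹) * (g * c * g⁻¹)⁻¹ := by group
      _ = y * (g * y * g⁻¹) * c := by rw [conj_Z_inv h C hz hzs hgz hcz, inv_inv, ← hy]
  subst ha
  have hb : b = 0 ∨ b = 1 ∨ b = 2 := zmod3_cases b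
  have hpow : c ^ e.val ∈ zpowers z := pow_mem hcz _
  simp only [coord, ZMod.val_one, pow_one] at hv
  rcases hb with rfl | rfl | rfl
  · exfalso
    rw [ZMod.val_zero, pow_zero, mul_one] at hv
    have h2 : g ^ 2 * x * (g ^ 2)⁻¹ = x * c ^ e.val := by
      rw [hv, hy, pow_two]; group
    refine invol_no_fixed h C hz hzs (pow_mem hgN 4) (orderOf_four h hgN hg8 hg4) hx hxz ?_
    have h4 : g ^ 4 * x * (g ^ 4)⁻¹ = x * (c ^ e.val * c ^ e.val) := by
      rw [show g ^ 4 = g ^ 2 * g ^ 2 by rw [← pow_add],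
        show g ^ 2 * g ^ 2 * x * (g ^ 2 * g ^ 2)⁻¹ = g ^ 2 * (g ^ 2 * x * (g ^ 2)⁻¹) * (g ^ 2)⁻¹ by group,
        h2, show g ^ 2 * (x * c ^ e.val) * (g ^ 2)⁻¹ =
          (g ^ 2 * x * (g ^ 2)⁻¹) * (g ^ 2 * c ^ e.val * (g ^ 2)⁻¹) by group, h2,
        sq_comm_Z h C hz hzs hgz hpow, mul_assoc]
    rw [h4, inv_mul_cancel_left]
    exact mul_mem hpow hpow
  · rw [ZMod.val_one, pow_one] at hv
    exact ⟨_, hpow, Or.inl hv.symm⟩
  · rw [show ((2 : ZMod 3)).val = 2 from rfl, pow_two, ← mul_assoc] at hv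
    exact ⟨_, hpow, Or.inr hv.symm⟩

omit hg4 in
/-- Passing from `g` to `g⁵` in the second case. -/
theorem image_flip {d : S} (hd : d ∈ zpowers z)
    (hu2 : orderOf (g ^ 4) = 2)
    (hv : g * (g * x * g⁻¹) * g⁻¹ = x * (g * x * g⁻¹) * (g * x * g⁻¹) * d) :
    ∃ d' ∈ zpowers z, g ^ 5 * (g ^ 5 * x * (g ^ 5)⁻¹) * (g ^ 5)⁻¹ =
      x * (g ^ 5 * x * (g ^ 5)⁻¹) * d' := by
  set y := g * x * g⁻¹ with hy
  have hyP : y ∈ (P : Subgroup S) := conj_mem_P h C hz hzs hgN hx
  set u := g ^ 4 with hu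
  have huN : u ∈ normalizer ((P : Subgroup S) : Set S) := pow_mem hgN 4
  set a := u * x * u⁻¹ * x with ha
  have haz : a ∈ zpowers z := invol_inverts h C hz hzs huN hu2 hx
  set b := u * y * u⁻¹ * y with hb
  have hbz : b ∈ zpowers z := invol_inverts h C hz hzs huN hu2 hyP
  have h5 : g ^ 5 = g * u := by rw [hu, ← pow_succ']
  set a' := g * a * g⁻¹ with ha'
  have ha'z : a' ∈ zpowers z := conj_mem_Z h C hz hzs hgN haz
  have hua : u * a' * u⁻¹ = a' := four_comm_Z h C hz hzs hgz ha'z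
  have hy' : g ^ 5 * x * (g ^ 5)⁻¹ = y⁻¹ * a' := by
    have e1 : g ^ 5 * x * (g ^ 5)⁻¹ = a' * y⁻¹ := by rw [h5, ha', ha, hy]; group
    rw [e1]
    exact (Zcomm h C hz hzs (inv_mem hyP) ha'z).eq.symm
  set D := g * (b⁻¹ * a') * g⁻¹ with hD
  have hDz : D ∈ zpowers z := conj_mem_Z h C hz hzs hgN (mul_mem (inv_mem hbz) ha'z)
  have hconj : g ^ 5 * (g ^ 5 * x * (g ^ 5)⁻¹) * (g ^ 5)⁻¹ = (g * y * g⁻¹) * D := by
    calc g ^ 5 * (g ^ 5 * x * (g ^ 5)⁻¹) * (g ^ 5)⁻¹ = g * (u * (y⁻¹ * a') * u⁻¹) * g⁻¹ := by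
          rw [hy', h5]; group
      _ = g * ((y * b⁻¹) * (u * a' * u⁻¹)) * g⁻¹ := by rw [hb]; group
      _ = _ := by rw [hua, hD]; group
  refine ⟨a'⁻¹ * (d * D), mul_mem (inv_mem ha'z) (mul_mem hd hDz), ?_⟩
  rw [hconj, hv, hy']
  have hy2 : y * y = y⁻¹ := eq_inv_of_mul_eq_one_left (by
    rw [← cube_eq_one h hyP]; simp [pow_succ, mul_assoc])
  rw [show x * y * y = x * (y * y) by group, hy2]
  group

end Build

/-- A base: all the data but the involution `w`. -/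
theorem exists_base (h : Hyp S) : ∃ (y₀ : S) (C : Chars S y₀) (P : Sylow 3 S) (x y z g : S),
    z ∈ (P : Subgroup S) ∧ Special C z ∧ x ∈ (P : Subgroup S) ∧
    g ∈ normalizer ((P : Subgroup S) : Set S) ∧ g ^ 8 = 1 ∧ g ^ 4 ≠ 1 ∧
    g * x * g⁻¹ = y ∧ g * y * g⁻¹ = x * y ∧ g * z * g⁻¹ = z⁻¹ ∧ Heis x y z ∧
    Function.Injective (coord x y z) ∧ (∀ v, coord x y z v ∈ (P : Subgroup S)) ∧
    (∀ p ∈ (P : Subgroup S), ∃ v, coord x y z v = p) := by
  obtain ⟨y₀, -, ⟨C⟩⟩ := exists_chars h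
  obtain ⟨P⟩ : Nonempty (Sylow 3 S) := inferInstance
  obtain ⟨z, hz, hzs, -⟩ := exists_special h C (card_sylow_three_eq h P)
  obtain ⟨g₀, hgN₀, hg8₀, hg4₀, hgz₀⟩ := exists_inverting h C hz hzs
  obtain ⟨x₀, hx₀, hxz₀⟩ := exists_not_mem h C hz hzs
  obtain ⟨g, hgN, hg8, hg4, hgz, d, hd, hgy⟩ : ∃ g : S, g ∈ normalizer ((P : Subgroup S) : Set S) ∧
      g ^ 8 = 1 ∧ g ^ 4 ≠ 1 ∧ g * z * g⁻¹ = z⁻¹ ∧ ∃ d ∈ zpowers z,
        g * (g * x₀ * g⁻¹) * g⁻¹ = x₀ * (g * x₀ * g⁻¹) * d := by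
    obtain ⟨d, hd, e | e⟩ := image_mod h C hz hzs hgN₀ hg8₀ hg4₀ hgz₀ hx₀ hxz₀
    · exact ⟨g₀, hgN₀, hg8₀, hg4₀, hgz₀, d, hd, e⟩
    · refine ⟨g₀ ^ 5, pow_mem hgN₀ 5, ?_, ?_, ?_, image_flip h C hz hzs hgN₀ hg8₀ hgz₀ hx₀ hxz₀ hd
        (orderOf_four h hgN₀ hg8₀ hg4₀) e⟩
      · rw [← pow_mul, mul_comm, pow_mul, hg8₀, one_pow]
      · rw [← pow_mul, show 5 * 4 = 8 * 2 + 4 from rfl, pow_add, pow_mul, hg8₀, one_pow, one_mul]
        exact hg4₀
      · rw [show g₀ ^ 5 = g₀ * g₀ ^ 4 from pow_succ' _ _,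
          show g₀ * g₀ ^ 4 * z * (g₀ * g₀ ^ 4)⁻¹ = g₀ * (g₀ ^ 4 * z * (g₀ ^ 4)⁻¹) * g₀⁻¹ by group,
          four_comm_Z h C hz hzs hgz₀ (mem_zpowers z), hgz₀]
  set x := x₀ * d⁻¹ with hxdef
  have hdP : d ∈ (P : Subgroup S) := zpowers_le.2 hz hd
  have hx : x ∈ (P : Subgroup S) := mul_mem hx₀ (inv_mem hdP)
  have hxz : x ∉ zpowers z := fun e => hxz₀ (by simpa [hxdef] using mul_mem e hd)
  obtain ⟨c, hcz, hcs, hzc, H, hinj, hmem, hsurj⟩ := coord_base h C hz hzs hgN hg8 hg4 hgz hx hxz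
  have hgy' : g * (g * x * g⁻¹) * g⁻¹ = x * (g * x * g⁻¹) := by
    set y := g * x₀ * g⁻¹ with hy
    have e1 : g * x * g⁻¹ = y * d := by
      rw [hxdef, show g * (x₀ * d⁻¹) * g⁻¹ = (g * x₀ * g⁻¹) * (g * d * g⁻¹)⁻¹ by group,
        conj_Z_inv h C hz hzs hgz hd, inv_inv]
    have hyP : y ∈ (P : Subgroup S) := conj_mem_P h C hz hzs hgN hx₀
    rw [e1, show g * (y * d) * g⁻¹ = (g * y * g⁻¹) * (g * d * g⁻¹) by group, hgy,
      conj_Z_inv h C hz hzs hgz hd, hxdef,
      show x₀ * d⁻¹ * (y * d) = x₀ * (d⁻¹ * y) * d by group,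
      ← (Zcomm h C hz hzs hyP (inv_mem hd)).eq]
    group
  exact ⟨y₀, C, P, x, g * x * g⁻¹, c, g, zpowers_le.2 hz hcz, hcs, hx, hgN, hg8, hg4, rfl, hgy',
    conj_Z_inv h C hz hzs hgz hcz, H, hinj, hmem, hsurj⟩

theorem coord_z (x y z : S) : coord x y z (0, 0, 1) = z ∧ coord x y z (0, 0, 2) = z * z := by
  constructor
  · simp [coord, ZMod.val_one]
  · simp [coord, show ((2 : ZMod 3)).val = 2 from rfl, pow_two]

theorem exists_frame (h : Hyp S) : Nonempty (Frame S) := by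
  obtain ⟨y₀, C, P, x, y, z, g, hz, hzs, hx, hgN, hg8, hg4, gx, gy, gz, H, hinj, hmem, hsurj⟩ :=
    exists_base h
  set u := g ^ 4 with hu
  have hu2 : orderOf u = 2 := orderOf_four h hgN hg8 hg4
  have huN : u ∈ normalizer ((P : Subgroup S) : Set S) := pow_mem hgN 4
  have hgP : g • P = P := Sylow.smul_eq_iff_mem_normalizer.2 hgN
  have huP : u • P = P := Sylow.smul_eq_iff_mem_normalizer.2 huN
  -- the point `q`
  obtain ⟨q₀, hq₀, huq₀⟩ := exists_second_fixed h hu2 P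
  obtain ⟨q, hq, huq, hgq⟩ : ∃ q : Sylow 3 S, q ≠ P ∧ u • q = q ∧ g • q = q := by
    have hgq₀ : g • q₀ ≠ P := fun e => hq₀ (smul_left_cancel g (e.trans hgP.symm))
    obtain ⟨c, hcP, hc⟩ := exists_mem_smul_eq h hq₀ hgq₀
    have hcz : c ∈ zpowers z := (fixed_of_invol h C hz hzs huN hu2 hq₀ huq₀ hcP).1 (by
      rw [hc, ← mul_smul, hu, ← pow_succ, pow_succ', mul_smul, huq₀])
    have hccP : c * c ∈ (P : Subgroup S) := mul_mem hcP hcP
    refine ⟨(c * c) • q₀, fun e => hq₀ (smul_left_cancel (c * c) (e.trans (smul_self_of_mem hccP).symm)),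
      (fixed_of_invol h C hz hzs huN hu2 hq₀ huq₀ hccP).2 (mul_mem hcz hcz), ?_⟩
    calc g • (c * c) • q₀ = ((g * c * g⁻¹) * (g * c * g⁻¹)) • g • q₀ := by
          rw [← mul_smul, ← mul_smul]; congr 1; group
      _ = (c⁻¹ * c⁻¹ * c) • q₀ := by rw [conj_Z_inv h C hz hzs gz hcz, ← hc, ← mul_smul]
      _ = (c * c) • q₀ := by
          congr 1
          calc c⁻¹ * c⁻¹ * c = c⁻¹ * 1 := by group
            _ = c⁻¹ * c ^ 3 := by rw [cube_eq_one h hcP]
            _ = c * c := by simp [pow_succ, mul_assoc]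
  -- the two-point stabiliser
  have stab : ∀ s : S, s • P = P → s • q = q → ∃ k : ℕ, k < 8 ∧ g ^ k = s := by
    intro s hsP hsq
    let K : Subgroup S := stabilizer S P ⊓ stabilizer S q
    let f : ↥(P : Subgroup S) × K → stabilizer S P := fun o => ⟨(o.1 : S) * o.2, mul_mem
      (show (o.1 : S) ∈ stabilizer S P from smul_self_of_mem o.1.2) o.2.2.1⟩
    have hf : Function.Injective f := by
      rintro ⟨a, b⟩ ⟨a', b'⟩ he
      have he' : (a : S) * b = (a' : S) * b' := congrArg Subtype.val he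
      have e1 : (a : S) • q = (a' : S) • q := by
        have := congrArg (fun t : S => t • q) he'
        simpa [mul_smul, (show (b : S) • q = q from b.2.2), (show (b' : S) • q = q from b'.2.2)] using this
      have := eq_one_of_smul_eq h hq (mul_mem (inv_mem a'.2) a.2) (by rw [mul_smul, e1, inv_smul_smul])
      have e2 : a = a' := Subtype.ext (inv_mul_eq_one.1 this).symm
      subst e2
      exact Prod.ext rfl (Subtype.ext (mul_left_cancel he'))
    have hK : Nat.card K ≤ 8 := by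
      have := Nat.card_le_card_of_injective f hf
      rw [Nat.card_prod, card_sylow_three_eq h P, Sylow.stabilizer_eq_normalizer,
        show Nat.card (normalizer (P : Set S)) = 216 from card_normalizer_three h P] at this
      omega
    have hog : orderOf g = 8 := orderOf_eq_prime_pow (p := 2) (n := 2) hg4 hg8
    have hle : zpowers g ≤ K := zpowers_le.2 ⟨hgP, hgq⟩
    have heq : zpowers g = K := eq_of_le_of_card_ge hle (by rw [Nat.card_zpowers, hog]; exact hK)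
    have hs : s ∈ zpowers g := heq ▸ (⟨hsP, hsq⟩ : s ∈ K)
    obtain ⟨n, hn⟩ := mem_powers_iff_mem_zpowers.2 hs
    refine ⟨n % 8, Nat.mod_lt _ (by norm_num), ?_⟩
    rw [← hog, pow_mod_orderOf]; exact hn
  -- an involution interchanging `P` and `q`
  obtain ⟨w, hwP, hwq, hw2⟩ : ∃ w : S, w • P = q ∧ w • q = P ∧ orderOf w = 2 := by
    obtain ⟨R, hR⟩ : ∃ R : Sylow 3 S, u • R ≠ R := by
      by_contra! hall
      have := card_fixedBy_eq_four h hu2
      rw [show fixedBy (Sylow 3 S) u = Set.univ from Set.eq_univ_of_forall hall,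
        Nat.card_congr (Equiv.Set.univ _), card_sylow_three h] at this
      norm_num at this
    obtain ⟨s, hs, hs'⟩ := exists_smul_pair h (A := R) (B := u • R) (C := P) (D := q) hR.symm hq.symm
    have huu : u * u = 1 := by rw [← pow_two, ← hu2, pow_orderOf_eq_one]
    refine ⟨s * u * s⁻¹, ?_, ?_, ?_⟩
    · rw [← hs, ← hs', ← mul_smul, ← mul_smul]; congr 1; group
    · rw [← hs, ← hs', ← mul_smul, ← mul_smul]; congr 1
      calc s * u * s⁻¹ * s * u = s * (u * u) := by group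
        _ = s := by rw [huu, mul_one]
    · rw [show s * u * s⁻¹ = MulAut.conj s u from rfl, MulEquiv.orderOf_eq, hu2]
  have hww : w * w = 1 := by rw [← pow_two, ← hw2, pow_orderOf_eq_one]
  have hwinv : w⁻¹ = w := inv_eq_of_mul_eq_one_right hww
  obtain ⟨k, hk, hgk⟩ := stab (w * g * w⁻¹) (by rw [hwinv, mul_smul, mul_smul, hwP, hgq, hwq])
    (by rw [hwinv, mul_smul, mul_smul, hwq, hgP, hwP])
  have hcu : ∀ n : ℕ, w * g ^ n * w⁻¹ = g ^ (k * n) := fun n => by rw [← conj_pow, ← hgk, pow_mul]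
  have hkodd : k % 2 = 1 := by
    by_contra hev
    have h1 := hcu 4
    rw [show k * 4 = 8 * (k / 2) by omega, pow_mul, hg8, one_pow, mul_inv_eq_one, mul_eq_left] at h1
    exact hg4 h1
  have hwu : w * u = u * w := by
    have h1 := hcu 4
    rw [show k * 4 = 8 * (k / 2) + 4 by omega, pow_add, pow_mul, hg8, one_pow, one_mul] at h1
    exact mul_inv_eq_iff_eq_mul.1 h1
  have hg2z : ∀ c ∈ zpowers z, Commute (g ^ 2) c := fun c hc =>
    mul_inv_eq_iff_eq_mul.1 (sq_comm_Z h C hz hzs gz hc)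
  -- `w` centralises `g²`
  have hw_g2 : Commute w (g ^ 2) := by
    by_contra hnc
    have hinv : w * g ^ 2 * w⁻¹ = (g ^ 2)⁻¹ := by
      rcases (show k = 1 ∨ k = 5 ∨ k = 3 ∨ k = 7 by omega) with rfl | rfl | rfl | rfl
      · exact absurd (mul_inv_eq_iff_eq_mul.1 (by rw [hcu 2])) hnc
      · refine absurd (mul_inv_eq_iff_eq_mul.1 ?_) hnc
        rw [hcu 2, show 5 * 2 = 8 + 2 from rfl, pow_add, hg8, one_mul]
      · rw [hcu 2, eq_inv_iff_mul_eq_one, ← pow_add, ← hg8]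
      · rw [hcu 2, eq_inv_iff_mul_eq_one, ← pow_add, show 7 * 2 + 2 = 8 * 2 from rfl, pow_mul, hg8,
          one_pow]
    set v := w * z * w with hvdef
    have hzP : z • P = P := smul_self_of_mem hz
    have hvq : v • q = q := by rw [hvdef, mul_smul, mul_smul, hwq, hzP, hwP]
    have hvP : v • P ≠ P := fun e => by
      rw [hvdef, mul_smul, mul_smul, hwP, ← hwq] at e
      have hz1 := eq_one_of_smul_eq h hq hz (smul_left_cancel w e)
      have := hzs.1
      rw [hz1, orderOf_one] at this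
      norm_num at this
    have hinv' : w * (g ^ 2)⁻¹ * w⁻¹ = g ^ 2 := by
      rw [show w * (g ^ 2)⁻¹ * w⁻¹ = (w * g ^ 2 * w⁻¹)⁻¹ by group, hinv, inv_inv]
    have hvg : Commute v (g ^ 2) := by
      refine mul_inv_eq_iff_eq_mul.1 ?_
      calc v * g ^ 2 * v⁻¹ = w * (z * (w * g ^ 2 * w⁻¹) * z⁻¹) * w⁻¹ := by rw [hvdef]; group
        _ = w * (g ^ 2)⁻¹ * w⁻¹ := by
            rw [hinv, ((hg2z z (mem_zpowers z)).symm.inv_right).eq, mul_inv_cancel_right]
        _ = g ^ 2 := hinv'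
    have hvu : Commute v u := by rw [hu, show (4 : ℕ) = 2 * 2 from rfl, pow_mul]; exact hvg.pow_right 2
    have huvP : u • v • P = v • P := by rw [← mul_smul, ← hvu.eq, mul_smul, huP]
    obtain ⟨c, hcP, hc⟩ := exists_mem_smul_eq h hq hvP
    have hcz : c ∈ zpowers z := (fixed_of_invol h C hz hzs huN hu2 hq huq hcP).1 (by rw [hc, huvP])
    set d := c⁻¹ * v with hddef
    have hdP : d • P = q := by rw [hddef, mul_smul, ← hc, inv_smul_smul]
    have hdg : Commute d (g ^ 2) := ((hg2z c hcz).symm.inv_left).mul_left hvg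
    have hdu : Commute d u := by rw [hu, show (4 : ℕ) = 2 * 2 from rfl, pow_mul]; exact hdg.pow_right 2
    set b := w * d with hb
    have hbP : b • P = P := by rw [hb, mul_smul, hdP, hwq]
    have hbu : Commute b u := (show Commute w u from hwu).mul_left hdu
    have hbq : b • q ≠ P := fun e => hq (smul_left_cancel b (e.trans hbP.symm))
    obtain ⟨p, hp, hpq⟩ := exists_mem_smul_eq h hq hbq
    have hpz : p ∈ zpowers z := (fixed_of_invol h C hz hzs huN hu2 hq huq hp).1 (by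
      rw [hpq, ← mul_smul, ← hbu.eq, mul_smul, huq])
    obtain ⟨i, -, hi⟩ := stab (p⁻¹ * b)
      (by rw [mul_smul, hbP, inv_smul_eq_iff, smul_self_of_mem hp])
      (by rw [mul_smul, ← hpq, inv_smul_smul])
    have hbg : Commute b (g ^ 2) := by
      rw [show b = p * g ^ i by rw [hi]; group]
      exact ((hg2z p hpz).symm).mul_left ((Commute.refl g).pow_pow i 2)
    exact hnc (by
      have := hbg.mul_left hdg.inv_left
      rwa [hb, mul_inv_cancel_right] at this)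
  -- the fixed points of `w`
  obtain ⟨v₀, hv₀, hwv₀⟩ : ∃ v : V, ¬(v.1 = 0 ∧ v.2.1 = 0) ∧
      w • (coord x y z v • q) = coord x y z v • q := by
    by_contra! hall
    let f : fixedBy (Sylow 3 S) w → fixedBy (Sylow 3 S) u := fun R => ⟨R.1, by
      by_cases hRP : R.1 = P
      · rw [mem_fixedBy, hRP, huP]
      obtain ⟨p, hp, hpR⟩ := exists_mem_smul_eq h hq hRP
      obtain ⟨v, rfl⟩ := hsurj p hp
      by_cases hv : v.1 = 0 ∧ v.2.1 = 0
      · rw [← hpR]
        refine (fixed_of_invol h C hz hzs huN hu2 hq huq (hmem v)).2 ?_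
        obtain ⟨a, b, c⟩ := v
        obtain ⟨rfl, rfl⟩ := hv
        simp only [coord, ZMod.val_zero, pow_zero, one_mul]
        exact pow_mem (mem_zpowers z) _
      · exact absurd (show w • (coord x y z v • q) = _ by rw [hpR]; exact R.2) (hall v (fun a b => hv ⟨a, b⟩))⟩
    have hf : Function.Bijective f := (Nat.bijective_iff_injective_and_card f).2
      ⟨fun a b e => Subtype.ext (congrArg (fun o : fixedBy (Sylow 3 S) u => o.1) e), by
        rw [card_fixedBy_eq_four h hw2, card_fixedBy_eq_four h hu2]⟩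
    obtain ⟨R, hR⟩ := hf.2 ⟨P, huP⟩
    have hRP : R.1 = P := congrArg Subtype.val hR
    have h1 : w • R.1 = R.1 := R.2
    rw [hRP, hwP] at h1
    exact hq h1
  have hmove : ∀ (n : ℕ) (v : V), g ^ n • coord x y z v • q = coord x y z (gam^[n] v) • q := by
    intro n v
    have hgn : ∀ m : ℕ, g ^ m • q = q := fun m => by
      induction m with
      | zero => rw [pow_zero, one_smul]
      | succ m ih => rw [pow_succ, mul_smul, hgq, ih]
    rw [← mul_smul, ← conj_coord_pow H gx gy gz v n, mul_smul _ (g ^ n)⁻¹, inv_smul_eq_iff.2 (hgn n).symm,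
      mul_smul]
  -- exactly the four translates of `v₀`
  have horb : ∀ i : Fin 4, w • (coord x y z (gam^[2 * i.val] v₀) • q) = coord x y z (gam^[2 * i.val] v₀) • q := by
    intro i
    rw [← hmove, pow_mul, ← mul_smul, (hw_g2.pow_right _).eq, mul_smul, hwv₀]
  have hptinj : ∀ a b : V, coord x y z a • q = coord x y z b • q → a = b := fun a b e => by
    refine hinj (inv_mul_eq_one.1 (eq_one_of_smul_eq h hq (mul_mem (inv_mem (hmem b)) (hmem a)) ?_)).symm
    rw [mul_smul, e, inv_smul_smul]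
  let F : Fin 4 → fixedBy (Sylow 3 S) w := fun i => ⟨_, horb i⟩
  have hF : Function.Bijective F := (Nat.bijective_iff_injective_and_card F).2
    ⟨fun i j e => gam_four_orbit v₀ hv₀ i j (hptinj _ _ (congrArg Subtype.val e)),
      by rw [card_fixedBy_eq_four h hw2, Nat.card_eq_fintype_card, Fintype.card_fin]⟩
  have hk5 : k = 5 := by
    have h12 : k = 1 ∨ k = 5 := by
      rcases (show k = 1 ∨ k = 5 ∨ k = 3 ∨ k = 7 by omega) with e | e | e | e
      · exact Or.inl e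
      · exact Or.inr e
      · exfalso
        have h1 := hcu 2
        rw [hw_g2.eq, mul_inv_cancel_right, e, show 3 * 2 = 2 + 4 from rfl, pow_add, left_eq_mul] at h1
        exact hg4 h1
      · exfalso
        have h1 := hcu 2
        rw [hw_g2.eq, mul_inv_cancel_right, e, show 7 * 2 = 2 + 4 + 8 from rfl, pow_add _ (2 + 4), hg8,
          mul_one, pow_add, left_eq_mul] at h1
        exact hg4 h1
    rcases h12 with rfl | rfl
    · exfalso
      have hcg : Commute w g := by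
        have := mul_inv_eq_iff_eq_mul.1 hgk.symm
        rwa [pow_one] at this
      have h1 : w • (coord x y z (gam v₀) • q) = coord x y z (gam v₀) • q := by
        rw [show gam v₀ = gam^[1] v₀ from rfl, ← hmove, pow_one, ← mul_smul, hcg.eq, mul_smul, hwv₀]
      obtain ⟨i, hi⟩ := hF.2 ⟨_, h1⟩
      exact gam_odd v₀ hv₀ i (hptinj _ _ (congrArg Subtype.val hi))
    · rfl
  subst hk5
  have hwg : w * g = g ^ 5 * w := mul_inv_eq_iff_eq_mul.1 hgk.symm
  obtain ⟨c1, c2⟩ := coord_z x y z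
  have hwz : w • (coord x y z (0, 0, 1) • q) = coord x y z (0, 0, 2) • q := by
    rw [c1, c2]
    have hzq : u • z • q = z • q := (fixed_of_invol h C hz hzs huN hu2 hq huq hz).2 (mem_zpowers z)
    have hwzq : u • w • z • q = w • z • q := by rw [← mul_smul, ← hwu, mul_smul, hzq]
    have hne : w • z • q ≠ P := fun e => by
      rw [← hwq] at e
      have := eq_one_of_smul_eq h hq hz (smul_left_cancel w e)
      have h3 := hzs.1
      rw [this, orderOf_one] at h3
      norm_num at h3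
    obtain ⟨p, hp, hpq⟩ := exists_mem_smul_eq h hq hne
    obtain ⟨⟨a, b, c⟩, rfl⟩ := hsurj p hp
    have hpz : coord x y z (a, b, c) ∈ zpowers z :=
      (fixed_of_invol h C hz hzs huN hu2 hq huq hp).1 (by rw [hpq, hwzq])
    obtain ⟨i, hi⟩ := (mem_powers_iff_mem_zpowers).2 hpz
    have habc : (a, b, c) = ((0 : ZMod 3), (0 : ZMod 3), (i : ZMod 3)) := hinj (by
      rw [← hi]
      simp only [coord, ZMod.val_zero, pow_zero, one_mul]
      exact pow_zmod H.z3 rfl)
    rw [← hpq, habc]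
    obtain ⟨rfl, rfl, rfl⟩ : a = 0 ∧ b = 0 ∧ c = i := by simpa [Prod.ext_iff] using habc
    rcases zmod3_cases (i : ZMod 3) with e | e | e <;> rw [e] at hpq ⊢
    · exfalso
      rw [show coord x y z (0, 0, (0 : ZMod 3)) = 1 from H.coord_zero, one_smul] at hpq
      have e2 : w • P = w • z • q := hwP.trans hpq
      exact hq (smul_left_cancel z ((smul_left_cancel w e2).symm.trans (smul_self_of_mem hz).symm))
    · exfalso
      rw [c1] at hpq
      obtain ⟨j, hj⟩ := hF.2 ⟨z • q, hpq.symm⟩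
      have := hptinj (gam^[2 * j.val] v₀) (0, 0, 1) (by rw [c1]; exact congrArg Subtype.val hj)
      exact gam_special v₀ hv₀ j this
    · rw [c2]
  obtain ⟨r, i, hi⟩ := (gam_orbits v₀).resolve_left hv₀
  have hmod : ∀ n : ℕ, g ^ n = g ^ (n % 8) := fun n => pow_eq_pow_mod n hg8
  have huC : ∀ v : V, u • coord x y z v • q = coord x y z (gam^[4] v) • q := fun v => hmove 4 v
  -- the element fixing a representative
  have hrep : w • (coord x y z (rep r) • q) = coord x y z (rep r) • q ∨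
      (w * u) • (coord x y z (rep r) • q) = coord x y z (rep r) • q := by
    have e0 : g ^ i.val • coord x y z (rep r) • q = coord x y z v₀ • q := by rw [hmove, hi]
    have hback : ∀ m : ℕ, (i.val + 2 * m) % 8 = 0 → w • (coord x y z (rep r) • q) = coord x y z (rep r) • q := by
      intro m hm
      have e1 : (g ^ 2) ^ m • coord x y z v₀ • q = coord x y z (rep r) • q := by
        rw [← e0, ← pow_mul, ← mul_smul, ← pow_add, hmod, show (2 * m + i.val) % 8 = 0 by omega,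
          pow_zero, one_smul]
      rw [← e1, ← mul_smul, (hw_g2.pow_right m).eq, mul_smul, hwv₀]
    rcases Nat.mod_two_eq_zero_or_one i.val with hev | hod
    · exact Or.inl (hback ((8 - i.val) / 2 % 4) (by omega))
    · right
      set m := (8 - (i.val - 1)) / 2 % 4
      have e1 : (g ^ 2) ^ m • coord x y z v₀ • q = g • coord x y z (rep r) • q := by
        rw [← e0, ← pow_mul, ← mul_smul, ← pow_add, hmod, show (2 * m + i.val) % 8 = 1 by omega, pow_one]
      have e2 : w • g • coord x y z (rep r) • q = g • coord x y z (rep r) • q := by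
        rw [← e1, ← mul_smul, (hw_g2.pow_right m).eq, mul_smul, hwv₀]
      rw [← mul_smul, hwg, mul_smul, show g ^ 5 = g * u by rw [hu, ← pow_succ'], mul_smul] at e2
      rw [hwu, mul_smul]
      exact smul_left_cancel g e2
  rcases hrep with e | e
  · exact ⟨⟨P, q, x, y, z, g, w, H, hinj, hmem, hsurj, hq, hgP, hgq, hg8, hg4, gx, gy, gz, hwP, hwq, hww,
      hwg, hwz, r, e⟩⟩
  · refine ⟨⟨P, q, x, y, z, g, w * u, H, hinj, hmem, hsurj, hq, hgP, hgq, hg8, hg4, gx, gy, gz, ?_, ?_, ?_,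
      ?_, ?_, r, e⟩⟩
    · rw [mul_smul, huP, hwP]
    · rw [mul_smul, huq, hwq]
    · calc w * u * (w * u) = w * (u * w) * u := by group
        _ = (w * w) * (u * u) := by rw [← hwu]; group
        _ = 1 := by rw [hww, ← pow_two u, ← hu2, pow_orderOf_eq_one, mul_one]
    · have : Commute u g := (Commute.refl g).pow_left 4
      rw [mul_assoc, this.eq, ← mul_assoc, hwg, mul_assoc]
    · rw [mul_smul, huC, gam_four_z, hwz]

end Cfsg.Agent.G2TwoRecog
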