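import Cfsg.Agent.Lib.SmallSimple.Basic
import Cfsg.Agent.Lib.SmallSimple.CentralizerOrbits

/-!
# Groups whose only primes are 2, 3, 7 without elements of order 14 or 21
-/

set_option autoImplicit false
set_option linter.style.haveILetI false
set_option linter.unusedSectionVars false

namespace Cfsg.Agent.G2TwoRecog

open Subgroup

universe u

variable {X : Type u} [Group X] [Finite X]

/-- The hypotheses on primes and element orders at the prime 7. -/
structure SevenIsolated (X : Type u) [Group X] (m : ℕ) : Prop where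
  card : Nat.card X = 7 * m
  ndvd : ¬ 7 ∣ m
  primes : ∀ r : ℕ, r.Prime → r ∣ m → r = 2 ∨ r = 3
  no14 : ∀ g : X, orderOf g ≠ 14
  no21 : ∀ g : X, orderOf g ≠ 21

variable {m : ℕ} (h : SevenIsolated X m)

theorem seven_prime : Fact (Nat.Prime 7) := ⟨by norm_num⟩

theorem card_centralizer_seven (h : SevenIsolated X m) {y : X} (hy : orderOf y = 7) :
    Nat.card (centralizer ({y} : Set X)) = 7 := by
  have hle : zpowers y ≤ centralizer ({y} : Set X) := by
    rw [zpowers_le, mem_centralizer_singleton_iff]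
  obtain ⟨k, hk⟩ : 7 ∣ Nat.card (centralizer ({y} : Set X)) := by
    rw [← hy, ← Nat.card_zpowers]; exact card_dvd_of_le hle
  have hkm : k ∣ m := by
    have := card_subgroup_dvd_card (centralizer ({y} : Set X))
    rw [hk, h.card] at this
    exact Nat.dvd_of_mul_dvd_mul_left (by norm_num) this
  rcases eq_or_ne k 1 with rfl | hk1
  · rw [hk]
  exfalso
  obtain ⟨r, hr, hrk⟩ := Nat.exists_prime_and_dvd hk1
  haveI := Fact.mk hr
  obtain ⟨⟨c, hc⟩, hoc⟩ := exists_prime_orderOf_dvd_card' r
    (show r ∣ Nat.card (centralizer ({y} : Set X)) from hk ▸ dvd_mul_of_dvd_right hrk 7)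
  rw [orderOf_mk] at hoc
  have hr' := h.primes r hr (hrk.trans hkm)
  have hco : (orderOf y).Coprime (orderOf c) := by
    rw [hy, hoc]; rcases hr' with rfl | rfl <;> norm_num
  have ho := (show Commute y c from (mem_centralizer_singleton_iff.1 hc).symm).orderOf_mul_eq_mul_orderOf_of_coprime hco
  rw [hy, hoc] at ho
  rcases hr' with rfl | rfl
  · exact h.no14 _ ho
  · exact h.no21 _ ho

theorem centralizer_seven (h : SevenIsolated X m) {y : X} (hy : orderOf y = 7) :
    centralizer ({y} : Set X) = zpowers y :=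
  (eq_of_le_of_card_ge (by rw [zpowers_le, mem_centralizer_singleton_iff])
    (by rw [card_centralizer_seven h hy, Nat.card_zpowers, hy])).symm

theorem card_sylow_seven (h : SevenIsolated X m) [Fact (Nat.Prime 7)] (P : Sylow 7 X) :
    Nat.card (P : Subgroup X) = 7 := by
  have h1 : Nat.card X = 7 ^ 1 * m := by rw [pow_one, h.card]
  have hm0 : m ≠ 0 := fun e => h.ndvd (e ▸ dvd_zero 7)
  have hf : (Nat.card X).factorization 7 = 1 := by
    rw [h.card, Nat.factorization_mul (by norm_num) hm0, Finsupp.add_apply,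
      Nat.Prime.factorization_self (by norm_num), Nat.factorization_eq_zero_of_not_dvd h.ndvd]
  rw [P.card_eq_multiplicity, hf, pow_one]

theorem exists_gen_seven (h : SevenIsolated X m) [Fact (Nat.Prime 7)] (P : Sylow 7 X) :
    ∃ y : X, orderOf y = 7 ∧ zpowers y = (P : Subgroup X) := by
  obtain ⟨⟨y, hyP⟩, hy⟩ := exists_prime_orderOf_dvd_card' (G := (P : Subgroup X)) 7
    (by rw [card_sylow_seven h P])
  rw [orderOf_mk] at hy
  exact ⟨y, hy, eq_of_le_of_card_ge (zpowers_le.2 hyP) (by
    rw [card_sylow_seven h P, Nat.card_zpowers, hy])⟩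

theorem centralizer_sylow_seven (h : SevenIsolated X m) [Fact (Nat.Prime 7)] (P : Sylow 7 X) :
    centralizer ((P : Subgroup X) : Set X) = (P : Subgroup X) := by
  obtain ⟨y, hy, hz⟩ := exists_gen_seven h P
  rw [← hz]
  refine le_antisymm ?_ (fun a ha b hb => ?_)
  · exact (centralizer_le (s := {y}) (by simp)).trans_eq (centralizer_seven h hy)
  · obtain ⟨i, rfl⟩ := mem_zpowers_iff.1 ha
    obtain ⟨j, rfl⟩ := mem_zpowers_iff.1 hb
    exact ((Commute.refl y).zpow_zpow j i).eq

/-- `|N(P)| = 7 k` with `k ∣ 6` and `n₇ k = m`. -/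
theorem normalizer_seven (h : SevenIsolated X m) [Fact (Nat.Prime 7)] (P : Sylow 7 X) :
    ∃ k : ℕ, k ∣ 6 ∧ Nat.card (normalizer ((P : Subgroup X) : Set X)) = 7 * k ∧
      Nat.card (Sylow 7 X) * k = m := by
  have hd := SmallSimple.card_normalizer_dvd P (card_sylow_seven h P)
  rw [centralizer_sylow_seven h P, card_sylow_seven h P] at hd
  obtain ⟨k, hk⟩ : 7 ∣ Nat.card (normalizer ((P : Subgroup X) : Set X)) := by
    exact (card_sylow_seven h P).symm.dvd.trans (card_dvd_of_le le_normalizer)
  rw [hk] at hd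
  refine ⟨k, Nat.dvd_of_mul_dvd_mul_left (by norm_num) hd, hk, ?_⟩
  have h2 := SmallSimple.card_sylow_mul_card_normalizer P
  rw [hk, h.card, mul_left_comm] at h2
  exact Nat.eq_of_mul_eq_mul_left (by norm_num) h2

end Cfsg.Agent.G2TwoRecog
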