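import Cfsg.Agent.Lib.G2TwoRecog.Values
import Cfsg.Agent.Lib.G2TwoRecog.Local7
import Cfsg.Agent.Lib.DefectOne.SelfCent
import Cfsg.Agent.Lib.SmallCofactor.Basic
import Cfsg.Agent.Lib.Char.RealChar
import Cfsg.Agent.Lib.SmallSimple.FiveCases
import Cfsg.Agent.Lib.SmallSimple.ExceptionalDegree

/-!
# No simple group of order 12096 without elements of order 14 or 21
-/

set_option autoImplicit false
set_option linter.style.haveILetI false
set_option linter.unusedSectionVars false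

open scoped ComplexConjugate
open Cfsg Cfsg.Agent Subgroup

namespace Cfsg.Agent.G2TwoRecog

universe u

/-- The pairs (value at `y`, degree) that survive the tests at a single character. -/
def degTypes : Finset (ℤ × ℕ) :=
  {(1, 8), (-1, 27), (1, 36), (-1, 48), (1, 64), (2, 9), (-2, 12), (2, 16), (-2, 54), (2, 72), (-2, 96)}

/-- The triples (value at `y`, degree, value at the involution) in the surviving patterns. -/
def valTypes : Finset (ℤ × ℕ × ℤ) :=
  {(1, 8, 0), (-1, 27, 3), (-1, 27, -1), (1, 36, 0), (1, 36, 4), (1, 36, -4), (1, 64, 0), (1, 64, 4),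
    (1, 64, -4), (1, 64, 8), (1, 64, -8), (2, 9, 1), (2, 9, -3)}

/-- The tests at a single character. -/
abbrev SingleOk (v : ℤ) (d : ℕ) (a : ℤ) : Prop :=
  (7 : ℤ) ∣ (d : ℤ) + 6 * v ∧ (4 : ℤ) ∣ (d : ℤ) - a ∧ -(d : ℤ) < a ∧ a < d ∧
    0 ≤ (d : ℤ) + 6 * v + 7 * a ∧ 0 ≤ (d : ℤ) + 6 * v - 7 * a

theorem degTypes_check : ∀ d ∈ Finset.range 110, ∀ v ∈ Finset.Icc (-2 : ℤ) 2, 2 ≤ d → d ∣ 12096 → v ≠ 0 →
    (7 : ℤ) ∣ (d : ℤ) + 6 * v → ∀ a ∈ Finset.Icc (-109 : ℤ) 109, SingleOk v d a → (v, d) ∈ degTypes := by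
  decide +kernel

theorem valTypes_check : ∀ q ∈ ({(1, 8), (-1, 27), (1, 36), (1, 64), (2, 9)} : Finset (ℤ × ℕ)),
    ∀ a ∈ Finset.Icc (-109 : ℤ) 109, SingleOk q.1 q.2 a → (q.1, q.2, a) ∈ valTypes := by
  decide +kernel

variable {G : Type u} [Group G] [Fintype G]

/-- The hypotheses. -/
structure Big (G : Type u) [Group G] : Prop where
  card : Nat.card G = 12096
  no14 : ∀ g : G, orderOf g ≠ 14
  no21 : ∀ g : G, orderOf g ≠ 21

theorem Big.seven (h : Big G) : SevenIsolated G 1728 where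
  card := by rw [h.card]
  ndvd := by norm_num
  primes r hr hd := by
    have : r ∈ (1728 : ℕ).primeFactors := Nat.mem_primeFactors.2 ⟨hr, hd, by norm_num⟩
    rw [show (1728 : ℕ) = 2 ^ 6 * 3 ^ 3 by norm_num, Nat.primeFactors_mul (by norm_num) (by norm_num),
      Nat.primeFactors_pow _ (by norm_num), Nat.primeFactors_pow _ (by norm_num),
      Nat.prime_two.primeFactors, Nat.prime_three.primeFactors] at this
    simpa using this
  no14 := h.no14
  no21 := h.no21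

theorem Big.nonabelian [IsSimpleGroup G] (h : Big G) : ¬ IsMulCommutative G := by
  intro hc
  haveI : Nontrivial G := Finite.one_lt_card_iff_nontrivial.1 (by rw [h.card]; norm_num)
  letI : CommGroup G := { (inferInstance : Group G) with mul_comm := fun a b => hc.is_comm.comm a b }
  have := IsSimpleGroup.prime_card (α := G)
  rw [h.card] at this
  norm_num at this

/-- An element of order seven with an element of its normaliser cubing it. -/
structure Local (G : Type u) [Group G] where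
  y : G
  σ : G
  hy : orderOf y = 7
  σ6 : σ ^ 6 = 1
  hσ : σ * y * σ⁻¹ = y ^ 3

theorem exists_local (h : Big G) : Nonempty (Local G) := by
  classical
  haveI : Fact (Nat.Prime 7) := ⟨by norm_num⟩
  obtain ⟨P⟩ : Nonempty (Sylow 7 G) := inferInstance
  obtain ⟨k, hk, hN, hn⟩ := normalizer_seven h.seven P
  have hk6 : k = 6 := by
    have hmod : Nat.card (Sylow 7 G) % 7 = 1 := card_sylow_modEq_one 7 G
    have key : ∀ k ∈ (6 : ℕ).divisors, k ≠ 6 → (1728 / k) % 7 ≠ 1 := by decide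
    by_contra hne
    refine key k (Nat.mem_divisors.2 ⟨hk, by norm_num⟩) hne ?_
    rwa [← hn, Nat.mul_div_cancel _ (Nat.pos_of_dvd_of_pos hk (by norm_num))]
  subst hk6
  obtain ⟨y, hy, hyP⟩ := exists_gen_seven h.seven P
  set N := normalizer ((P : Subgroup G) : Set G)
  have hyy : ∀ n : N, ∃ i : Fin 6, (n : G) * y * (n : G)⁻¹ = y ^ (i.val + 1) := by
    intro n
    have hm : (n : G) * y * (n : G)⁻¹ ∈ (P : Subgroup G) :=
      (mem_normalizer_iff.1 n.2 y).1 (hyP ▸ mem_zpowers y)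
    rw [← hyP] at hm
    obtain ⟨j, hj⟩ := mem_powers_iff_mem_zpowers.2 hm
    have hj' : y ^ (j % 7) = (n : G) * y * (n : G)⁻¹ := by rw [← hy, pow_mod_orderOf]; exact hj
    have h0 : j % 7 ≠ 0 := fun e => by
      rw [e, pow_zero, eq_comm, mul_inv_eq_one, mul_eq_left] at hj'
      rw [hj', orderOf_one] at hy
      norm_num at hy
    exact ⟨⟨j % 7 - 1, by omega⟩, by rw [← hj']; congr 1; simp only; omega⟩
  choose f hf using hyy
  have hfib : ∀ n n' : N, f n = f n' → ((n' : G)⁻¹ * n) ∈ centralizer ({y} : Set G) := by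
    intro n n' e
    rw [mem_centralizer_singleton_iff]
    have e' : (n : G) * y * (n : G)⁻¹ = (n' : G) * y * (n' : G)⁻¹ := by rw [hf, hf, e]
    calc (n' : G)⁻¹ * n * y = (n' : G)⁻¹ * ((n : G) * y * (n : G)⁻¹) * n := by group
      _ = y * ((n' : G)⁻¹ * n) := by rw [e']; group
  have hle : centralizer ({y} : Set G) ≤ N := by
    rw [centralizer_seven h.seven hy, hyP]; exact le_normalizer
  have hsurj : Function.Surjective f := by
    by_contra hns
    obtain ⟨i, hi⟩ := not_forall.1 hns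
    push Not at hi
    have h5 : (Finset.univ.image f).card ≤ 5 := by
      have : (Finset.univ.image f) ⊆ Finset.univ.erase i := fun j hj => by
        obtain ⟨n, -, rfl⟩ := Finset.mem_image.1 hj
        exact Finset.mem_erase.2 ⟨hi n, Finset.mem_univ _⟩
      exact (Finset.card_le_card this).trans (by simp)
    have h7 : ∀ j ∈ Finset.univ.image f, (Finset.univ.filter fun n : N => f n = j).card ≤ 7 := by
      intro j hj
      obtain ⟨n₀, -, rfl⟩ := Finset.mem_image.1 hj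
      have := Finset.card_le_card_of_injOn (s := Finset.univ.filter fun n : N => f n = f n₀)
        (t := (Finset.univ.filter fun x : G => x ∈ centralizer ({y} : Set G)))
        (fun n => (n₀ : G)⁻¹ * n) (fun n hn => by
          simp only [Finset.coe_filter, Finset.mem_univ, true_and, Set.mem_setOf_eq] at hn ⊢
          exact hfib n n₀ hn)
        (fun a _ b _ e => Subtype.ext (mul_left_cancel e))
      refine this.trans (le_of_eq ?_)
      rw [← Fintype.card_subtype, ← Nat.card_eq_fintype_card]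
      exact card_centralizer_seven h.seven hy
    have := Finset.card_le_mul_card_image (f := f) (Finset.univ : Finset N) 7 h7
    rw [Finset.card_univ, ← Nat.card_eq_fintype_card, hN] at this
    omega
  obtain ⟨n, hn3⟩ := hsurj 2
  have hn : (n : G) * y * (n : G)⁻¹ = y ^ 3 := by rw [hf n, hn3]; rfl
  have hpow : ∀ k : ℕ, (n : G) ^ k * y * ((n : G) ^ k)⁻¹ = y ^ (3 ^ k) := by
    intro k
    induction k with
    | zero => simp
    | succ k ih =>
      calc (n : G) ^ (k + 1) * y * ((n : G) ^ (k + 1))⁻¹ = (n : G) * ((n : G) ^ k * y * ((n : G) ^ k)⁻¹) * (n : G)⁻¹ := by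
            rw [pow_succ']; group
        _ = y ^ (3 ^ (k + 1)) := by rw [ih, ← conj_pow, hn, ← pow_mul, ← pow_succ']
  have hy7 : y ^ 7 = 1 := hy ▸ pow_orderOf_eq_one y
  have hc : (n : G) ^ 6 ∈ centralizer ({y} : Set G) := by
    rw [mem_centralizer_singleton_iff]
    refine mul_inv_eq_iff_eq_mul.1 ?_
    rw [hpow, pow_eq_pow_mod _ hy7]
    norm_num
  rw [centralizer_seven h.seven hy] at hc
  obtain ⟨j, hj⟩ := mem_powers_iff_mem_zpowers.2 hc
  refine ⟨⟨y, (n : G) ^ 7, hy, ?_, ?_⟩⟩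
  · rw [← pow_mul, show 7 * 6 = 6 * 7 from rfl, pow_mul, ← hj, ← pow_mul, mul_comm, pow_mul, hy7, one_pow]
  · rw [hpow, pow_eq_pow_mod _ hy7]; norm_num

namespace Local

variable (L : Local G)

/-- The involution. -/
def w : G := L.σ ^ 3

omit [Fintype G] in
theorem y7 : L.y ^ 7 = 1 := L.hy ▸ pow_orderOf_eq_one L.y

omit [Fintype G] in
theorem conj_pow_y (k : ℕ) : L.σ ^ k * L.y * (L.σ ^ k)⁻¹ = L.y ^ (3 ^ k) := by
  induction k with
  | zero => simp
  | succ k ih =>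
    calc L.σ ^ (k + 1) * L.y * (L.σ ^ (k + 1))⁻¹ = L.σ * (L.σ ^ k * L.y * (L.σ ^ k)⁻¹) * L.σ⁻¹ := by
          rw [pow_succ']; group
      _ = L.y ^ (3 ^ (k + 1)) := by rw [ih, ← conj_pow, L.hσ, ← pow_mul, ← pow_succ']

omit [Fintype G] in
theorem ww : L.w * L.w = 1 := by rw [w, ← pow_add, L.σ6]

omit [Fintype G] in
theorem y_inv : L.y⁻¹ = L.y ^ 6 :=
  inv_eq_of_mul_eq_one_right (by rw [← pow_succ', L.y7])

omit [Fintype G] in
theorem w_inv : L.w * L.y * L.w⁻¹ = L.y⁻¹ := by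
  rw [w, conj_pow_y, L.y_inv, pow_eq_pow_mod _ L.y7]
  norm_num

omit [Fintype G] in
theorem y_ne : L.y ≠ L.y⁻¹ := fun e => by
  have h2 : L.y ^ 2 = 1 := by rw [pow_two]; nth_rewrite 1 [e]; exact inv_mul_cancel _
  have := orderOf_dvd_of_pow_eq_one h2
  rw [L.hy] at this
  norm_num at this

omit [Fintype G] in
theorem w_ne : L.w ≠ 1 := fun e => by
  have := L.w_inv
  rw [e, one_mul, inv_one, mul_one] at this
  exact L.y_ne this

omit [Fintype G] in
theorem orderOf_w : orderOf L.w = 2 := orderOf_eq_prime (by rw [pow_two, L.ww]) L.w_ne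

theorem three_dvd : 3 ∣ Nat.card (centralizer ({L.w} : Set G)) := by
  have ho : orderOf (L.σ ^ 2) = 3 := by
    haveI : Fact (Nat.Prime 3) := ⟨Nat.prime_three⟩
    refine orderOf_eq_prime (by rw [← pow_mul]; exact L.σ6) fun e => ?_
    have := L.conj_pow_y 2
    rw [e, one_mul, inv_one, mul_one, pow_eq_pow_mod _ L.y7] at this
    norm_num at this
    rw [pow_two, left_eq_mul] at this
    have h7 := L.hy
    rw [this, orderOf_one] at h7
    norm_num at h7
  rw [← ho]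
  exact orderOf_dvd_natCard _ (mem_centralizer_singleton_iff.2 ((Commute.refl L.σ).pow_pow 2 3).eq)

end Local

section Count

variable (h : Big G) (L : Local G)

include h in
theorem Local.conj_y (i : ℕ) (hi : ¬ 7 ∣ i) : IsConj L.y (L.y ^ i) := by
  have key : ∀ j ∈ Finset.range 7, j ≠ 0 → ∃ k ∈ Finset.range 6, 3 ^ k % 7 = j := by decide
  obtain ⟨k, -, hk⟩ := key (i % 7) (Finset.mem_range.2 (Nat.mod_lt _ (by norm_num))) (by omega)
  exact isConj_iff.2 ⟨L.σ ^ k, by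
    rw [L.conj_pow_y, pow_eq_pow_mod _ L.y7, hk, ← pow_eq_pow_mod _ L.y7]⟩

include h in
theorem Local.char_y (χ : IrrCharacter G) (i : ℕ) (hi : ¬ 7 ∣ i) : χ.1 (L.y ^ i) = χ.1 L.y := by
  obtain ⟨g, hg⟩ := isConj_iff.1 (L.conj_y h i hi)
  rw [← hg]
  exact Char.IsCharacter.isClassFunction (Char.irr_isCharacter χ) L.y g

include h in
theorem Local.values (χ : IrrCharacter G) : ∃ v a : ℤ, χ.1 L.y = v ∧ χ.1 L.w = a ∧
    (7 : ℤ) ∣ (Char.degree χ : ℤ) + 6 * v ∧ 0 ≤ (Char.degree χ : ℤ) + 6 * v + 7 * a ∧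
    0 ≤ (Char.degree χ : ℤ) + 6 * v - 7 * a := by
  obtain ⟨M, hM⟩ := exists_restriction L.hy L.ww L.w_inv χ (L.char_y h χ) (a := χ.1 L.w) rfl
    (s := 1) (Or.inl rfl)
  obtain ⟨M', hM'⟩ := exists_restriction L.hy L.ww L.w_inv χ (L.char_y h χ) (a := χ.1 L.w) rfl
    (s := -1) (Or.inr rfl)
  rw [Char.apply_one_eq_degree] at hM hM'
  obtain ⟨v, hv⟩ := Char.exists_int_of_isIntegral_mul
    (CharInt.isIntegral_char (Char.irr_isCharacter χ) L.y) (c := 6) (by norm_num)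
    (N := 7 * ((M : ℤ) + M') - Char.degree χ) (by push_cast; linear_combination (hM + hM') / 2)
  have ha : χ.1 L.w = (((M : ℤ) - M' : ℤ) : ℂ) := by push_cast; linear_combination (hM - hM') / 14
  have e : (Char.degree χ : ℤ) + 6 * v + 7 * ((M : ℤ) - M') = 14 * M := by
    have : (((Char.degree χ : ℤ) + 6 * v + 7 * ((M : ℤ) - M') : ℤ) : ℂ) = ((14 * M : ℤ) : ℂ) := by
      push_cast at ha ⊢; rw [hv, ha] at hM; linear_combination hM
    exact_mod_cast this
  exact ⟨v, (M : ℤ) - M', hv, ha, ⟨(M : ℤ) + M', by omega⟩, by omega, by omega⟩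

/-- The integral data attached to the characters. -/
structure Cols (G : Type u) [Group G] [Fintype G] (L : Local G) where
  V : IrrCharacter G → ℤ
  A : IrrCharacter G → ℤ
  hV : ∀ χ, χ.1 L.y = V χ
  hA : ∀ χ, χ.1 L.w = A χ
  h7 : ∀ χ, (7 : ℤ) ∣ (Char.degree χ : ℤ) + 6 * V χ
  hpos : ∀ χ, 0 ≤ (Char.degree χ : ℤ) + 6 * V χ + 7 * A χ
  hneg : ∀ χ, 0 ≤ (Char.degree χ : ℤ) + 6 * V χ - 7 * A χ

variable {L}

/-- The non-trivial characters not vanishing at `y`. -/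
noncomputable def Cols.supp (K : Cols G L) : Finset (IrrCharacter G) := by
  classical exact (Finset.univ.erase (Char.trivialChar G)).filter fun χ => K.V χ ≠ 0

theorem Cols.sum_split (K : Cols G L) (f : IrrCharacter G → ℂ) :
    ∑ χ : IrrCharacter G, (K.V χ : ℂ) * f χ =
      (K.V (Char.trivialChar G) : ℂ) * f (Char.trivialChar G) + ∑ χ ∈ K.supp, (K.V χ : ℂ) * f χ := by
  classical
  rw [← Finset.add_sum_erase _ _ (Finset.mem_univ (Char.trivialChar G)), Cols.supp,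
    Finset.sum_filter_of_ne (p := fun χ => K.V χ ≠ 0) fun χ _ hne e => hne (by simp [e])]

theorem Cols.V_triv (K : Cols G L) : K.V (Char.trivialChar G) = 1 := by
  have := K.hV (Char.trivialChar G)
  rw [Char.trivialChar_apply] at this
  exact_mod_cast this.symm

theorem Cols.D_triv : Char.degree (Char.trivialChar G) = 1 := by
  apply Nat.cast_injective (R := ℂ)
  rw [← Char.apply_one_eq_degree, Char.trivialChar_apply, Nat.cast_one]

/-- Column orthogonality with `y`. -/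
theorem Cols.col (K : Cols G L) {g : G} (f : IrrCharacter G → ℤ) (hf : ∀ χ, χ.1 g = f χ)
    (hg : ¬ IsConj g L.y) : 1 + ∑ χ ∈ K.supp, K.V χ * f χ = 0 := by
  have h1 := Char.sum_irr_mul_conj g L.y
  rw [if_neg hg] at h1
  have h2 : ∑ χ : IrrCharacter G, (K.V χ : ℂ) * (f χ : ℂ) = 0 := by
    rw [← h1]
    refine Finset.sum_congr rfl fun χ _ => ?_
    rw [K.hV, hf, map_intCast, mul_comm]
  rw [K.sum_split, K.V_triv] at h2
  have hT : f (Char.trivialChar G) = 1 := by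
    have := hf (Char.trivialChar G)
    rw [Char.trivialChar_apply] at this
    exact_mod_cast this.symm
  rw [hT] at h2
  have : (((1 + ∑ χ ∈ K.supp, K.V χ * f χ) : ℤ) : ℂ) = ((0 : ℤ) : ℂ) := by
    push_cast at h2 ⊢; linear_combination h2
  exact_mod_cast this

include h

theorem Cols.norm_y (K : Cols G L) : ∑ χ ∈ K.supp, K.V χ * K.V χ = 6 := by
  have h1 := Char.sum_irr_mul_conj L.y L.y
  rw [if_pos (IsConj.refl L.y), card_centralizer_seven h.seven L.hy] at h1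
  have h2 : ∑ χ : IrrCharacter G, (K.V χ : ℂ) * (K.V χ : ℂ) = 7 := by
    have h7 : ∑ χ : IrrCharacter G, χ.1 L.y * conj (χ.1 L.y) = 7 := by exact_mod_cast h1
    rw [← h7]
    refine Finset.sum_congr rfl fun χ _ => ?_
    rw [K.hV, map_intCast]
  rw [K.sum_split, K.V_triv] at h2
  have : (((1 + ∑ χ ∈ K.supp, K.V χ * K.V χ) : ℤ) : ℂ) = ((7 : ℤ) : ℂ) := by
    push_cast at h2 ⊢; linear_combination h2
  have := (Int.cast_inj (α := ℂ)).1 this
  linarith

omit h in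
/-- Degrees. -/
theorem Cols.norm_one (K : Cols G L) :
    1 + ∑ χ ∈ K.supp, Char.degree χ ^ 2 ≤ Nat.card G := by
  classical
  rw [← Char.sum_degree_sq (G := G), ← Finset.add_sum_erase _ _ (Finset.mem_univ (Char.trivialChar G)),
    Cols.D_triv, one_pow]
  exact Nat.add_le_add_left (Finset.sum_le_sum_of_subset (Finset.filter_subset _ _)) _

omit h in
theorem Cols.not_conj_one : ¬ IsConj (1 : G) L.y := fun e => by
  rw [isConj_one_right] at e
  have := L.hy
  rw [e, orderOf_one] at this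
  norm_num at this

/-- Structure constants with `y`. -/
theorem Cols.pairs (K : Cols G L) (a b : G) : (Nat.card (Pairs a b L.y) : ℂ) =
    12096 * (1 + ∑ χ ∈ K.supp, (K.V χ : ℂ) * (χ.1 a * χ.1 b / Char.degree χ)) := by
  rw [card_pairs_eq a b L.y Finset.univ (fun χ hχ => absurd (Finset.mem_univ χ) hχ), h.card]
  have : ∀ χ : IrrCharacter G, χ.1 a * χ.1 b * χ.1 L.y⁻¹ / χ.1 1 =
      (K.V χ : ℂ) * (χ.1 a * χ.1 b / Char.degree χ) := fun χ => by
    rw [L.y_inv, L.char_y h χ 6 (by norm_num), K.hV, Char.apply_one_eq_degree]; ring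
  rw [Finset.sum_congr rfl fun χ _ => this χ, K.sum_split, K.V_triv, Char.trivialChar_apply,
    Char.trivialChar_apply, Cols.D_triv]
  push_cast
  norm_num

omit h in
theorem inverting_eq {a : G} (hinv : a * L.y * a⁻¹ = L.y⁻¹) (h : Big G) :
    ∃ l : ℕ, a = L.y ^ l * L.w := by
  have hm : a * L.w⁻¹ ∈ centralizer ({L.y} : Set G) := by
    rw [mem_centralizer_singleton_iff]
    have e : L.w⁻¹ * L.y * L.w = L.y⁻¹ := by
      have hw : L.w⁻¹ = L.w := inv_eq_of_mul_eq_one_right L.ww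
      rw [hw]; nth_rewrite 2 [← hw]; exact L.w_inv
    calc a * L.w⁻¹ * L.y = a * (L.w⁻¹ * L.y * L.w) * L.w⁻¹ := by group
      _ = (a * L.y * a⁻¹)⁻¹ * (a * L.w⁻¹) := by rw [e]; group
      _ = L.y * (a * L.w⁻¹) := by rw [hinv, inv_inv]
  rw [centralizer_seven h.seven L.hy] at hm
  obtain ⟨l, hl⟩ := mem_powers_iff_mem_zpowers.2 hm
  exact ⟨l, by rw [show L.y ^ l = a * L.w⁻¹ from hl, inv_mul_cancel_right]⟩

omit h in
theorem Local.w_pow (L : Local G) (l : ℕ) : L.w * L.y ^ l = L.y ^ (6 * l) * L.w := by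
  rw [← mul_inv_eq_iff_eq_mul, ← conj_pow, L.w_inv, L.y_inv, ← pow_mul]

omit h in
theorem Local.conj_w (L : Local G) (k : ℕ) : L.y ^ k * L.w * (L.y ^ k)⁻¹ = L.y ^ (2 * k) * L.w := by
  have hi : (L.y ^ k)⁻¹ = L.y ^ (6 * k) := inv_eq_of_mul_eq_one_right (by
    rw [← pow_add, show k + 6 * k = 7 * k by ring, pow_mul, L.y7, one_pow])
  rw [hi, mul_assoc, L.w_pow, ← mul_assoc, ← pow_add, pow_eq_pow_mod _ L.y7,
    pow_eq_pow_mod (2 * k) L.y7]
  congr 2
  omega

omit h in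
theorem Local.half (L : Local G) (l : ℕ) : L.y ^ l * L.w = L.y ^ (4 * l) * L.w * (L.y ^ (4 * l))⁻¹ := by
  rw [L.conj_w, pow_eq_pow_mod _ L.y7, pow_eq_pow_mod (2 * (4 * l)) L.y7]
  congr 2
  omega

omit h in
theorem pair_invert {a b : G} (ha : a * a = 1) (hb : b * b = 1) {p q : G}
    (hpq : p * a * p⁻¹ * (q * b * q⁻¹) = L.y) : p * a * p⁻¹ * L.y * (p * a * p⁻¹)⁻¹ = L.y⁻¹ := by
  have hu : (p * a * p⁻¹)⁻¹ = p * a * p⁻¹ := inv_eq_of_mul_eq_one_right (by
    rw [show p * a * p⁻¹ * (p * a * p⁻¹) = p * (a * a) * p⁻¹ by group, ha]; group)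
  have hv : (q * b * q⁻¹)⁻¹ = q * b * q⁻¹ := inv_eq_of_mul_eq_one_right (by
    rw [show q * b * q⁻¹ * (q * b * q⁻¹) = q * (b * b) * q⁻¹ by group, hb]; group)
  have huu : p * a * p⁻¹ * (p * a * p⁻¹) = 1 := by
    nth_rewrite 1 [← hu]
    exact inv_mul_cancel _
  rw [← hpq, mul_inv_rev (p * a * p⁻¹) (q * b * q⁻¹), hv, hu, ← mul_assoc (p * a * p⁻¹) (p * a * p⁻¹),
    huu, one_mul]

/-- No pairs with a class of involutions other than that of `w`. -/
theorem pairs_empty (a t : G) (ha : a * a = 1) (ht : t * t = 1) (hnc : ¬ IsConj t L.w) :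
    Nat.card (Pairs a t L.y) = 0 := by
  rw [Nat.card_eq_zero]
  left
  refine ⟨fun ⟨⟨p, q⟩, hpq⟩ => hnc ?_⟩
  simp only at hpq
  obtain ⟨l, hl⟩ := inverting_eq (pair_invert ha ht hpq) h
  rw [hl, mul_assoc] at hpq
  have e : q * t * q⁻¹ = L.y ^ (6 * (6 * l + 1)) * L.w := by
    have h2 : L.w * (q * t * q⁻¹) = L.y ^ (6 * l + 1) := by
      rw [pow_succ, eq_inv_mul_iff_mul_eq.2 hpq,
        show (L.y ^ l)⁻¹ = L.y ^ (6 * l) from inv_eq_of_mul_eq_one_right (by
          rw [← pow_add, show l + 6 * l = 7 * l by ring, pow_mul, L.y7, one_pow])]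
    calc q * t * q⁻¹ = (L.w * L.w) * (q * t * q⁻¹) := by rw [L.ww, one_mul]
      _ = L.w * L.y ^ (6 * l + 1) := by rw [mul_assoc, h2]
      _ = _ := L.w_pow _
  have h1 : IsConj t (L.y ^ (6 * (6 * l + 1)) * L.w) := isConj_iff.2 ⟨q, e⟩
  have h2 : IsConj L.w (L.y ^ (6 * (6 * l + 1)) * L.w) := isConj_iff.2 ⟨_, (L.half _).symm⟩
  exact h1.trans h2.symm

/-- The pairs of conjugates of `w` with product `y`. -/
theorem card_pairs_w : Nat.card (Pairs L.w L.w L.y) =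
    7 * (Nat.card (centralizer ({L.w} : Set G)) * Nat.card (centralizer ({L.w} : Set G))) := by
  set C := centralizer ({L.w} : Set G)
  have hcomm : ∀ c : C, ∀ p : G, p * c * L.w * (p * c)⁻¹ = p * L.w * p⁻¹ := fun c p => by
    rw [mul_assoc p, mem_centralizer_singleton_iff.1 c.2]; group
  have hprod : ∀ j : ℕ, L.y ^ j * L.w * (L.y ^ j)⁻¹ * (L.y ^ (j + 3) * L.w * (L.y ^ (j + 3))⁻¹) = L.y := by
    intro j
    calc L.y ^ j * L.w * (L.y ^ j)⁻¹ * (L.y ^ (j + 3) * L.w * (L.y ^ (j + 3))⁻¹)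
        = L.y ^ j * (L.w * L.y ^ 3) * L.w * (L.y ^ (j + 3))⁻¹ := by rw [pow_add]; group
      _ = L.y ^ j * L.y ^ (6 * 3) * (L.w * L.w) * (L.y ^ (j + 3))⁻¹ := by rw [L.w_pow]; group
      _ = L.y := by
          rw [L.ww, mul_one, ← pow_add, mul_inv_eq_iff_eq_mul, ← pow_succ', pow_eq_pow_mod _ L.y7,
            pow_eq_pow_mod (j + 3 + 1) L.y7]
          congr 1
          omega
  let f : Fin 7 × C × C → Pairs L.w L.w L.y := fun o =>
    ⟨(L.y ^ o.1.val * o.2.1, L.y ^ (o.1.val + 3) * o.2.2), by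
      show L.y ^ o.1.val * o.2.1 * L.w * (L.y ^ o.1.val * o.2.1)⁻¹ *
        (L.y ^ (o.1.val + 3) * o.2.2 * L.w * (L.y ^ (o.1.val + 3) * o.2.2)⁻¹) = L.y
      rw [hcomm, hcomm, hprod]⟩
  have hf : Function.Bijective f := by
    constructor
    · rintro ⟨i, c, d⟩ ⟨j, c', d'⟩ e
      have e1 : L.y ^ i.val * (c : G) = L.y ^ j.val * (c' : G) :=
        congrArg (fun o : Pairs L.w L.w L.y => o.1.1) e
      have e2 : L.y ^ (i.val + 3) * (d : G) = L.y ^ (j.val + 3) * (d' : G) :=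
        congrArg (fun o : Pairs L.w L.w L.y => o.1.2) e
      have e3 : L.y ^ i.val * L.w * (L.y ^ i.val)⁻¹ = L.y ^ j.val * L.w * (L.y ^ j.val)⁻¹ := by
        rw [← hcomm c (L.y ^ i.val), ← hcomm c' (L.y ^ j.val), e1]
      rw [L.conj_w, L.conj_w] at e3
      have h7 := mul_right_cancel e3
      rw [pow_eq_pow_mod _ L.y7, pow_eq_pow_mod (2 * j.val) L.y7] at h7
      have h8 : 2 * i.val % 7 = 2 * j.val % 7 := pow_injOn_Iio_orderOf (x := L.y)
        (by rw [L.hy]; exact Nat.mod_lt _ (by norm_num)) (by rw [L.hy]; exact Nat.mod_lt _ (by norm_num)) h7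
      have hij : i = j := Fin.ext (by omega)
      subst hij
      rw [Subtype.ext (mul_left_cancel e1), Subtype.ext (mul_left_cancel e2)]
    · rintro ⟨⟨p, q⟩, hpq⟩
      obtain ⟨l, hl⟩ := inverting_eq (pair_invert L.ww L.ww hpq) h
      set j : Fin 7 := ⟨4 * l % 7, Nat.mod_lt _ (by norm_num)⟩
      have hp : p * L.w * p⁻¹ = L.y ^ j.val * L.w * (L.y ^ j.val)⁻¹ := by
        rw [hl, L.half, pow_eq_pow_mod (4 * l) L.y7]
      have hq : q * L.w * q⁻¹ = L.y ^ (j.val + 3) * L.w * (L.y ^ (j.val + 3))⁻¹ := by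
        have := hprod j.val
        rw [← hp] at this
        exact mul_left_cancel (hpq.trans this.symm)
      have hc : ∀ (p : G) (k : ℕ), p * L.w * p⁻¹ = L.y ^ k * L.w * (L.y ^ k)⁻¹ → (L.y ^ k)⁻¹ * p ∈ C :=
        fun p k e => by
          rw [mem_centralizer_singleton_iff]
          calc (L.y ^ k)⁻¹ * p * L.w = (L.y ^ k)⁻¹ * (p * L.w * p⁻¹) * p := by group
            _ = L.w * ((L.y ^ k)⁻¹ * p) := by rw [e]; group
      exact ⟨(j, ⟨_, hc p _ hp⟩, ⟨_, hc q _ hq⟩),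
        Subtype.ext (Prod.ext (mul_inv_cancel_left _ _) (mul_inv_cancel_left _ _))⟩
  rw [← Nat.card_eq_of_bijective f hf, Nat.card_prod, Nat.card_prod, Nat.card_eq_fintype_card (α := Fin 7),
    Fintype.card_fin]

end Count

/-- Contributions of a single character with value `±2`. -/
def qtab (j : ℕ) : ℤ × ℤ :=
  ([(0, 0), (18, 81), (-24, 144), (32, 256), (-108, 2916), (144, 5184), (-192, 9216)] : List (ℤ × ℤ))[j]!

theorem deg_patterns : ∀ a ∈ Finset.range 7, ∀ b ∈ Finset.range (7 - a), ∀ c ∈ Finset.range (7 - a - b),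
    ∀ d ∈ Finset.range (7 - a - b - c), ∀ j ∈ Finset.range 7,
      a + b + c + d ≤ (if j = 0 then 6 else 2) →
      1 + (8 * (a : ℤ) - 27 * b + 36 * c - 48 * d +
        64 * (((if j = 0 then 6 else 2) - (a + b + c + d) : ℕ) : ℤ) + (qtab j).1) = 0 →
      1 + (64 * (a : ℤ) + 729 * b + 1296 * c + 2304 * d +
        4096 * (((if j = 0 then 6 else 2) - (a + b + c + d) : ℕ) : ℤ) + (qtab j).2) ≤ 12096 →
      (a, b, c, d, (if j = 0 then 6 else 2) - (a + b + c + d), j) ∈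
        ([(2, 3, 0, 0, 1, 0), (1, 3, 2, 0, 0, 0), (1, 1, 0, 0, 0, 1)] : List (ℕ × ℕ × ℕ × ℕ × ℕ × ℕ)) := by
  decide +kernel

theorem exists_indicator (a b c d e f : ℕ) (h : a + b + c + d + e + f ≤ 1) : ∃ j < 7,
    a = (if j = 1 then 1 else 0) ∧ b = (if j = 2 then 1 else 0) ∧ c = (if j = 3 then 1 else 0) ∧
    d = (if j = 4 then 1 else 0) ∧ e = (if j = 5 then 1 else 0) ∧ f = (if j = 6 then 1 else 0) := by
  rcases (show a = 1 ∨ b = 1 ∨ c = 1 ∨ d = 1 ∨ e = 1 ∨ f = 1 ∨ (a + b + c + d + e + f = 0) by omega) with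
    h1 | h1 | h1 | h1 | h1 | h1 | h1
  · exact ⟨1, by norm_num, by simp; omega, by simp; omega, by simp; omega, by simp; omega, by simp; omega, by simp; omega⟩
  · exact ⟨2, by norm_num, by simp; omega, by simp; omega, by simp; omega, by simp; omega, by simp; omega, by simp; omega⟩
  · exact ⟨3, by norm_num, by simp; omega, by simp; omega, by simp; omega, by simp; omega, by simp; omega, by simp; omega⟩
  · exact ⟨4, by norm_num, by simp; omega, by simp; omega, by simp; omega, by simp; omega, by simp; omega, by simp; omega⟩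
  · exact ⟨5, by norm_num, by simp; omega, by simp; omega, by simp; omega, by simp; omega, by simp; omega, by simp; omega⟩
  · exact ⟨6, by norm_num, by simp; omega, by simp; omega, by simp; omega, by simp; omega, by simp; omega, by simp; omega⟩
  · exact ⟨0, by norm_num, by simp; omega, by simp; omega, by simp; omega, by simp; omega, by simp; omega, by simp; omega⟩

theorem patterns_core (a b c d e j : ℕ) (hj : j < 7) (hnat : a + b + c + d + e = (if j = 0 then 6 else 2))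
    (hc : 1 + (8 * (a : ℤ) - 27 * b + 36 * c - 48 * d + 64 * e + (qtab j).1) = 0)
    (hd : 1 + (64 * (a : ℤ) + 729 * b + 1296 * c + 2304 * d + 4096 * e + (qtab j).2) ≤ 12096) :
    (a, b, c, d, e, j) ∈ ([(2, 3, 0, 0, 1, 0), (1, 3, 2, 0, 0, 0), (1, 1, 0, 0, 0, 1)] :
      List (ℕ × ℕ × ℕ × ℕ × ℕ × ℕ)) := by
  have hm : (if j = 0 then 6 else 2) ≤ (6 : ℕ) := by split_ifs <;> norm_num
  have he : e = (if j = 0 then 6 else 2) - (a + b + c + d) := by omega
  have hle : a + b + c + d ≤ (if j = 0 then 6 else 2) := by omega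
  have key := deg_patterns a (Finset.mem_range.2 (by omega)) b (Finset.mem_range.2 (by omega))
    c (Finset.mem_range.2 (by omega)) d (Finset.mem_range.2 (by omega)) j (Finset.mem_range.2 hj) hle
  rw [← he] at key
  exact key hc hd

theorem indicator_sums : ∀ j < 7, ((if j = 1 then 1 else 0) + (if j = 2 then 1 else 0) +
      (if j = 3 then 1 else 0) + (if j = 4 then 1 else 0) + (if j = 5 then 1 else 0) +
      (if j = 6 then 1 else 0) : ℕ) = (if j = 0 then 0 else 1) ∧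
      18 * ((if j = 1 then 1 else 0 : ℕ) : ℤ) - 24 * ((if j = 2 then 1 else 0 : ℕ) : ℤ) +
        32 * ((if j = 3 then 1 else 0 : ℕ) : ℤ) - 108 * ((if j = 4 then 1 else 0 : ℕ) : ℤ) +
        144 * ((if j = 5 then 1 else 0 : ℕ) : ℤ) - 192 * ((if j = 6 then 1 else 0 : ℕ) : ℤ) = (qtab j).1 ∧
      81 * ((if j = 1 then 1 else 0 : ℕ) : ℤ) + 144 * ((if j = 2 then 1 else 0 : ℕ) : ℤ) +
        256 * ((if j = 3 then 1 else 0 : ℕ) : ℤ) + 2916 * ((if j = 4 then 1 else 0 : ℕ) : ℤ) +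
        5184 * ((if j = 5 then 1 else 0 : ℕ) : ℤ) + 9216 * ((if j = 6 then 1 else 0 : ℕ) : ℤ) = (qtab j).2 := by
  decide +kernel

theorem patterns_all (a b c d e n9 n12 n16 n54 n72 n96 : ℕ)
    (hn : (a : ℤ) + b + c + d + e + 4 * (n9 + n12 + n16 + n54 + n72 + n96) = 6)
    (hc : 1 + (8 * (a : ℤ) - 27 * b + 36 * c - 48 * d + 64 * e + 18 * n9 - 24 * n12 + 32 * n16 -
      108 * n54 + 144 * n72 - 192 * n96) = 0)
    (hd : 1 + (64 * (a : ℤ) + 729 * b + 1296 * c + 2304 * d + 4096 * e + 81 * n9 + 144 * n12 + 256 * n16 +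
      2916 * n54 + 5184 * n72 + 9216 * n96) ≤ 12096) :
    ((a, b, c, d, e) = (2, 3, 0, 0, 1) ∧ n9 = 0 ∧ n12 + n16 + n54 + n72 + n96 = 0) ∨
    ((a, b, c, d, e) = (1, 3, 2, 0, 0) ∧ n9 = 0 ∧ n12 + n16 + n54 + n72 + n96 = 0) ∨
    ((a, b, c, d, e) = (1, 1, 0, 0, 0) ∧ n9 = 1 ∧ n12 + n16 + n54 + n72 + n96 = 0) := by
  obtain ⟨j, hj, e1, e2, e3, e4, e5, e6⟩ := exists_indicator n9 n12 n16 n54 n72 n96 (by omega)
  obtain ⟨s1, s2, s3⟩ := indicator_sums j hj
  rw [← e1, ← e2, ← e3, ← e4, ← e5, ← e6] at s1 s2 s3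
  clear e2 e3 e4 e5 e6
  have hnat : a + b + c + d + e = (if j = 0 then 6 else 2) := by
    by_cases h0 : j = 0
    · rw [if_pos h0] at s1 ⊢; clear e1; omega
    · rw [if_neg h0] at s1 ⊢; clear e1; omega
  have hm := patterns_core a b c d e j hj hnat (by linarith) (by linarith)
  simp only [List.mem_cons, List.not_mem_nil, or_false, Prod.mk.injEq] at hm
  rcases hm with ⟨r1, r2, r3, r4, r5, r6⟩ | ⟨r1, r2, r3, r4, r5, r6⟩ | ⟨r1, r2, r3, r4, r5, r6⟩ <;>
    subst r1 r2 r3 r4 r5 r6 <;> norm_num at s1 e1 ⊢ <;> omega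

/-- Allowed values at the involution. -/
abbrev divList : List ℤ := [3, 6, 9, 12, 18, 24, 27, 36, 48, 54, 72, 96]

theorem check₁ : ∀ a ∈ ([3, -1] : List ℤ), ∀ b ∈ ([3, -1] : List ℤ), ∀ c ∈ ([3, -1] : List ℤ),
    ∀ q ∈ ([0, 4, -4, 8, -8] : List ℤ), 1 - (a + b + c) + q = 0 →
      ∀ k ∈ divList, k * k ≠ 1728 - 64 * (a * a + b * b + c * c) + 27 * (q * q) := by decide +kernel

theorem check₂ : ∀ a ∈ ([3, -1] : List ℤ), ∀ b ∈ ([3, -1] : List ℤ), ∀ c ∈ ([3, -1] : List ℤ),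
    ∀ p ∈ ([0, 4, -4] : List ℤ), ∀ q ∈ ([0, 4, -4] : List ℤ), 1 - (a + b + c) + (p + q) = 0 →
      ∀ k ∈ divList, k * k = 1728 - 64 * (a * a + b * b + c * c) + 48 * (p * p + q * q) →
        (k, a, b, c, p, q) ∈ ([(48, -1, -1, -1, 0, -4), (48, -1, -1, -1, -4, 0)] : List (ℤ × ℤ × ℤ × ℤ × ℤ × ℤ)) := by
  decide +kernel

theorem check₃ : ∀ b ∈ ([3, -1] : List ℤ), ∀ g ∈ ([1, -3] : List ℤ), 1 - b + 2 * g = 0 →
      ∀ k ∈ divList, k * k ≠ 1728 - 64 * (b * b) + 384 * (g * g) := by decide +kernel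

section Final

variable [IsSimpleGroup G]

set_option maxHeartbeats 2000000 in
open Classical in
/-- The three possible sets of degrees. -/
theorem Cols.shape (h : Big G) {L : Local G} (K : Cols G L) :
    (∀ χ ∈ K.supp, (K.V χ, Char.degree χ, K.A χ) ∈ valTypes) ∧
    ((∃ (F : Finset (IrrCharacter G)) (u v w : IrrCharacter G), F.card = 3 ∧
        (∀ χ ∈ F, K.V χ = -1 ∧ Char.degree χ = 27) ∧ (K.V u = 1 ∧ Char.degree u = 8) ∧
        (K.V v = 1 ∧ Char.degree v = 8) ∧ (K.V w = 1 ∧ Char.degree w = 64) ∧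
        u ∈ K.supp ∧ v ∈ K.supp ∧ w ∈ K.supp ∧ F ⊆ K.supp ∧
        ∀ f : IrrCharacter G → ℂ, ∑ χ ∈ K.supp, f χ = f u + f v + (∑ χ ∈ F, f χ) + f w) ∨
      (∃ (F : Finset (IrrCharacter G)) (u v w : IrrCharacter G), F.card = 3 ∧
        (∀ χ ∈ F, K.V χ = -1 ∧ Char.degree χ = 27) ∧ (K.V u = 1 ∧ Char.degree u = 8) ∧
        (K.V v = 1 ∧ Char.degree v = 36) ∧ (K.V w = 1 ∧ Char.degree w = 36) ∧
        u ∈ K.supp ∧ v ∈ K.supp ∧ w ∈ K.supp ∧ F ⊆ K.supp ∧
        ∀ f : IrrCharacter G → ℂ, ∑ χ ∈ K.supp, f χ = f u + (∑ χ ∈ F, f χ) + f v + f w) ∨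
      (∃ u v w : IrrCharacter G, (K.V u = 1 ∧ Char.degree u = 8) ∧ (K.V v = -1 ∧ Char.degree v = 27) ∧
        (K.V w = 2 ∧ Char.degree w = 9) ∧ u ∈ K.supp ∧ v ∈ K.supp ∧ w ∈ K.supp ∧
        ∀ f : IrrCharacter G → ℂ, ∑ χ ∈ K.supp, f χ = f u + f v + f w)) := by
  have hnorm := K.norm_y h
  have hdeg := K.norm_one
  rw [h.card] at hdeg
  have hcol : 1 + ∑ χ ∈ K.supp, K.V χ * (Char.degree χ : ℤ) = 0 :=
    K.col (g := 1) (fun χ => (Char.degree χ : ℤ)) (fun χ => by rw [Char.apply_one_eq_degree]; push_cast; rfl)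
      Cols.not_conj_one
  have basic : ∀ χ ∈ K.supp, SingleOk (K.V χ) (Char.degree χ) (K.A χ) ∧
      2 ≤ Char.degree χ ∧ Char.degree χ < 110 ∧ K.V χ ≠ 0 ∧ -2 ≤ K.V χ ∧ K.V χ ≤ 2 := by
    intro χ hχ
    obtain ⟨hm, hv0⟩ := Finset.mem_filter.1 hχ
    have hne := Finset.ne_of_mem_erase hm
    obtain ⟨h1, h2⟩ := abs_lt_degree h.nonabelian hne L.w_ne (K.hA χ)
    have hle : K.V χ * K.V χ ≤ 6 :=
      hnorm ▸ Finset.single_le_sum (f := fun χ => K.V χ * K.V χ) (fun x _ => mul_self_nonneg _) hχ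
    have hd : Char.degree χ ^ 2 ≤ 12096 :=
      (Finset.single_le_sum (f := fun χ => Char.degree χ ^ 2) (fun x _ => Nat.zero_le _) hχ).trans
        (by omega)
    refine ⟨⟨K.h7 χ, dvd_degree_sub h.nonabelian L.ww χ (K.hA χ), h1, h2, K.hpos χ, K.hneg χ⟩, ?_,
      by nlinarith, hv0, by nlinarith, by nlinarith⟩
    by_contra hc
    refine hne (SmallSimple.eq_trivialChar_of_degree_one h.nonabelian χ ?_)
    rw [Char.apply_one_eq_degree, show Char.degree χ = 1 by have := Char.degree_pos χ; omega, Nat.cast_one]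
  have hT : ∀ χ ∈ K.supp, (K.V χ, Char.degree χ) ∈ degTypes := by
    intro χ hχ
    obtain ⟨hok, h2, hlt, hv0, hv1, hv2⟩ := basic χ hχ
    obtain ⟨h7, h4, ha1, ha2, hp, hn⟩ := hok
    refine degTypes_check _ (Finset.mem_range.2 hlt) _ (Finset.mem_Icc.2 ⟨hv1, hv2⟩) h2
      (h.card ▸ Char.degree_dvd_natCard χ) hv0 h7 (K.A χ) (Finset.mem_Icc.2 ⟨by omega, by omega⟩)
      ⟨h7, h4, ha1, ha2, hp, hn⟩
  set n : ℤ × ℕ → ℕ := fun q => (K.supp.filter fun χ => (K.V χ, Char.degree χ) = q).card with hn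
  have hfib : ∀ F : ℤ × ℕ → ℤ, ∑ χ ∈ K.supp, F (K.V χ, Char.degree χ) = ∑ q ∈ degTypes, (n q : ℤ) * F q :=
    fun F => by
      rw [← Finset.sum_fiberwise_of_maps_to hT fun χ => F (K.V χ, Char.degree χ)]
      refine Finset.sum_congr rfl fun q _ => ?_
      rw [Finset.sum_congr rfl fun χ hχ => congrArg F (Finset.mem_filter.1 hχ).2, Finset.sum_const,
        nsmul_eq_mul]
  rw [hfib fun q => q.1 * q.1] at hnorm
  rw [hfib fun q => q.1 * (q.2 : ℤ)] at hcol
  have hdeg' : 1 + ∑ q ∈ degTypes, (n q : ℤ) * ((q.2 : ℤ) * q.2) ≤ 12096 := by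
    rw [← hfib fun q => (q.2 : ℤ) * q.2]
    have : ((1 + ∑ χ ∈ K.supp, Char.degree χ ^ 2 : ℕ) : ℤ) ≤ 12096 := by exact_mod_cast hdeg
    simpa [pow_two] using this
  simp [degTypes] at hnorm hcol hdeg'
  have hpat := patterns_all (n (1, 8)) (n (-1, 27)) (n (1, 36)) (n (-1, 48)) (n (1, 64)) (n (2, 9))
    (n (-2, 12)) (n (2, 16)) (n (-2, 54)) (n (2, 72)) (n (-2, 96)) (by linarith) (by linarith) (by linarith)
  refine ⟨fun χ hχ => ?_, ?_⟩
  · obtain ⟨hok, h2, hlt, hv0, hv1, hv2⟩ := basic χ hχ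
    obtain ⟨h7, h4, ha1, ha2, hp, hn'⟩ := hok
    refine valTypes_check (K.V χ, Char.degree χ) ?_ (K.A χ) (Finset.mem_Icc.2 ⟨by omega, by omega⟩)
      ⟨h7, h4, ha1, ha2, hp, hn'⟩
    have hpos : 0 < n (K.V χ, Char.degree χ) :=
      Finset.card_pos.2 ⟨χ, Finset.mem_filter.2 ⟨hχ, rfl⟩⟩
    have := hT χ hχ
    simp only [degTypes, Finset.mem_insert, Finset.mem_singleton] at this
    rcases this with e | e | e | e | e | e | e | e | e | e | e <;> rw [e] at hpos ⊢ <;>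
      first
        | decide
        | (exfalso; rcases hpat with ⟨p, -, p'⟩ | ⟨p, -, p'⟩ | ⟨p, -, p'⟩ <;>
            simp only [Prod.mk.injEq] at p <;> omega)
  have get : ∀ {q : ℤ × ℕ} {χ : IrrCharacter G},
      χ ∈ K.supp.filter (fun χ => (K.V χ, Char.degree χ) = q) →
      (K.V χ = q.1 ∧ Char.degree χ = q.2) ∧ χ ∈ K.supp := fun hm => by
    rw [← (Finset.mem_filter.1 hm).2]
    exact ⟨⟨rfl, rfl⟩, (Finset.mem_filter.1 hm).1⟩
  have hsum : ∀ f : IrrCharacter G → ℂ, ∑ χ ∈ K.supp, f χ =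
      ∑ q ∈ degTypes, ∑ χ ∈ K.supp.filter (fun χ => (K.V χ, Char.degree χ) = q), f χ := fun f =>
    (Finset.sum_fiberwise_of_maps_to hT f).symm
  rcases hpat with ⟨p, p9, p'⟩ | ⟨p, p9, p'⟩ | ⟨p, p9, p'⟩ <;> simp only [Prod.mk.injEq] at p <;>
    obtain ⟨k8, k27, k36, k48, k64⟩ := p <;>
    obtain ⟨k12, k16, k54, k72, k96⟩ : n (-2, 12) = 0 ∧ n (2, 16) = 0 ∧ n (-2, 54) = 0 ∧ n (2, 72) = 0 ∧
      n (-2, 96) = 0 := by omega
  all_goals simp only [hn] at k8 k27 k36 k48 k64 p9 k12 k16 k54 k72 k96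
  all_goals rw [Finset.card_eq_zero] at k48 k12 k16 k54 k72 k96
  · rw [Finset.card_eq_zero] at k36 p9
    obtain ⟨u, v, huv, he⟩ := Finset.card_eq_two.1 k8
    obtain ⟨w, hw⟩ := Finset.card_eq_one.1 k64
    obtain ⟨hu, hu'⟩ := get (he ▸ Finset.mem_insert_self u _)
    obtain ⟨hv, hv'⟩ := get (he ▸ Finset.mem_insert_of_mem (Finset.mem_singleton_self v))
    obtain ⟨hw₁, hw'⟩ := get (hw ▸ Finset.mem_singleton_self w)
    refine Or.inl ⟨_, u, v, w, k27, fun χ hχ => (get hχ).1, hu, hv, hw₁, hu', hv', hw',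
      Finset.filter_subset _ _, fun f => ?_⟩
    rw [hsum f]
    simp only [degTypes]
    repeat rw [Finset.sum_insert (by decide)]
    rw [Finset.sum_singleton, he, hw, k36, k48, p9, k12, k16, k54, k72, k96, Finset.sum_pair huv]
    simp only [Finset.sum_empty, Finset.sum_singleton]
    ring
  · rw [Finset.card_eq_zero] at k64 p9
    obtain ⟨u, hu0⟩ := Finset.card_eq_one.1 k8
    obtain ⟨v, w, hvw, he⟩ := Finset.card_eq_two.1 k36
    obtain ⟨hv, hv'⟩ := get (he ▸ Finset.mem_insert_self v _)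
    obtain ⟨hw₁, hw'⟩ := get (he ▸ Finset.mem_insert_of_mem (Finset.mem_singleton_self w))
    obtain ⟨hu, hu'⟩ := get (hu0 ▸ Finset.mem_singleton_self u)
    refine Or.inr (Or.inl ⟨_, u, v, w, k27, fun χ hχ => (get hχ).1, hu, hv, hw₁, hu', hv', hw',
      Finset.filter_subset _ _, fun f => ?_⟩)
    rw [hsum f]
    simp only [degTypes]
    repeat rw [Finset.sum_insert (by decide)]
    rw [Finset.sum_singleton, he, hu0, k48, k64, p9, k12, k16, k54, k72, k96, Finset.sum_pair hvw]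
    simp only [Finset.sum_empty, Finset.sum_singleton]
    ring
  · rw [Finset.card_eq_zero] at k36 k64
    obtain ⟨u, hu0⟩ := Finset.card_eq_one.1 k8
    obtain ⟨v, hv0⟩ := Finset.card_eq_one.1 k27
    obtain ⟨w, hw0⟩ := Finset.card_eq_one.1 p9
    obtain ⟨hu, hu'⟩ := get (hu0 ▸ Finset.mem_singleton_self u)
    obtain ⟨hv, hv'⟩ := get (hv0 ▸ Finset.mem_singleton_self v)
    obtain ⟨hw₁, hw'⟩ := get (hw0 ▸ Finset.mem_singleton_self w)
    refine Or.inr (Or.inr ⟨u, v, w, hu, hv, hw₁, hu', hv', hw', fun f => ?_⟩)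
    rw [hsum f]
    simp only [degTypes]
    repeat rw [Finset.sum_insert (by decide)]
    rw [Finset.sum_singleton, hu0, hv0, hw0, k36, k48, k64, k12, k16, k54, k72, k96]
    simp only [Finset.sum_empty, Finset.sum_singleton]
    ring

open Classical in
/-- The configuration at the involution. -/
theorem Cols.config (h : Big G) {L : Local G} (K : Cols G L) :
    Nat.card (centralizer ({L.w} : Set G)) = 48 ∧
    ∃ (F : Finset (IrrCharacter G)) (α β γ : IrrCharacter G), F.card = 3 ∧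
      (∀ χ ∈ F, K.V χ = -1 ∧ Char.degree χ = 27 ∧ K.A χ = -1) ∧
      (K.V α = 1 ∧ Char.degree α = 8 ∧ K.A α = 0) ∧ (K.V β = 1 ∧ Char.degree β = 36 ∧ K.A β = 0) ∧
      (K.V γ = 1 ∧ Char.degree γ = 36 ∧ K.A γ = -4) ∧
      ∀ f : IrrCharacter G → ℂ, ∑ χ ∈ K.supp, f χ = f α + (∑ χ ∈ F, f χ) + f β + f γ := by
  obtain ⟨hT, hshape⟩ := K.shape h
  set c := Nat.card (centralizer ({L.w} : Set G)) with hc
  have hc3 : 3 ∣ c := L.three_dvd
  have hc7 : c ∣ 1728 := by
    have h12 : c ∣ 7 * 1728 := by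
      have := card_subgroup_dvd_card (centralizer ({L.w} : Set G))
      rw [h.card] at this; exact this
    have h7 : ¬ 7 ∣ c := fun h7 => by
      haveI : Fact (Nat.Prime 7) := ⟨by norm_num⟩
      obtain ⟨⟨e, he⟩, hoe⟩ := exists_prime_orderOf_dvd_card' 7 h7
      rw [orderOf_mk] at hoe
      refine h.no14 (L.w * e) ?_
      rw [(show Commute L.w e from (mem_centralizer_singleton_iff.1 he).symm).orderOf_mul_eq_mul_orderOf_of_coprime
        (by rw [L.orderOf_w, hoe]; norm_num), L.orderOf_w, hoe]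
    exact ((Nat.Prime.coprime_iff_not_dvd (by norm_num)).2 h7).symm.dvd_of_dvd_mul_left h12
  have hAmem : ∀ χ ∈ K.supp, ∀ d : ℕ, Char.degree χ = d →
      (d = 8 → K.A χ = 0) ∧ (d = 27 → K.A χ ∈ ([3, -1] : List ℤ)) ∧
      (d = 36 → K.A χ ∈ ([0, 4, -4] : List ℤ)) ∧ (d = 64 → K.A χ ∈ ([0, 4, -4, 8, -8] : List ℤ)) ∧
      (d = 9 → K.A χ ∈ ([1, -3] : List ℤ)) := by
    intro χ hχ d hd
    have hm := hT χ hχ
    rw [hd] at hm
    simp only [valTypes, Finset.mem_insert, Finset.mem_singleton, Prod.mk.injEq] at hm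
    simp only [List.mem_cons, List.not_mem_nil, or_false]
    omega
  have hp := K.pairs h L.w L.w
  rw [card_pairs_w h, ← hc] at hp
  simp only [K.hA] at hp
  have hcolw : 1 + ∑ χ ∈ K.supp, K.V χ * K.A χ = 0 := K.col K.A K.hA fun hc => by
    obtain ⟨g, hg⟩ := isConj_iff.1 hc
    have := MulEquiv.orderOf_eq (MulAut.conj g) L.w
    rw [MulAut.conj_apply, hg, L.hy, L.orderOf_w] at this
    norm_num at this
  have hcolw' : (1 : ℂ) + ∑ χ ∈ K.supp, (K.V χ : ℂ) * (K.A χ : ℂ) = 0 := by exact_mod_cast hcolw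
  have hk : ∀ X : ℤ, X < 10000 → (c : ℤ) * c = X → (c : ℤ) ∈ divList := fun X hX e => by
    have hc100 : c < 100 := by nlinarith
    have hcases : ∀ c ∈ Finset.range 100, 3 ∣ c → c ∣ 1728 → ((c : ℤ)) ∈ divList := by decide +kernel
    exact hcases c (Finset.mem_range.2 hc100) hc3 hc7
  have small : ∀ {a : ℤ}, a ∈ ([3, -1] : List ℤ) ∨ a ∈ ([0, 4, -4, 8, -8] : List ℤ) ∨
      a ∈ ([1, -3] : List ℤ) ∨ a ∈ ([0, 4, -4] : List ℤ) → 0 ≤ a * a ∧ a * a ≤ 64 := fun {a} ha => by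
    simp only [List.mem_cons, List.not_mem_nil, or_false] at ha
    constructor
    · exact mul_self_nonneg a
    · rcases ha with (e | e) | (e | e | e | e | e) | (e | e) | (e | e | e) <;> subst e <;> norm_num
  rcases hshape with ⟨F, u, v, w, hF, hFv, ⟨hu, du⟩, ⟨hv, dv⟩, ⟨hw, dw⟩, mu, mv, mw, mF, hsum⟩ |
    ⟨F, u, v, w, hF, hFv, ⟨hu, du⟩, ⟨hv, dv⟩, ⟨hw, dw⟩, mu, mv, mw, mF, hsum⟩ |
    ⟨u, v, w, ⟨hu, du⟩, ⟨hv, dv⟩, ⟨hw, dw⟩, mu, mv, mw, hsum⟩
  · exfalso
    obtain ⟨i, j, k, hij, hik, hjk, rfl⟩ := Finset.card_eq_three.1 hF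
    have hs : ∀ f : IrrCharacter G → ℂ, ∑ χ ∈ ({i, j, k} : Finset (IrrCharacter G)), f χ = f i + f j + f k :=
      fun f => by
        rw [Finset.sum_insert (by simp [hij, hik]), Finset.sum_pair hjk]; ring
    obtain ⟨vi, di⟩ := hFv i (by simp)
    obtain ⟨vj, dj⟩ := hFv j (by simp)
    obtain ⟨vk, dk⟩ := hFv k (by simp)
    have ai := (hAmem i (mF (by simp)) _ di).2.1 rfl
    have aj := (hAmem j (mF (by simp)) _ dj).2.1 rfl
    have ak := (hAmem k (mF (by simp)) _ dk).2.1 rfl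
    have aw := (hAmem w mw _ dw).2.2.2.1 rfl
    rw [hsum, hs] at hp hcolw'
    rw [hu, hv, hw, vi, vj, vk, du, dv, dw, di, dj, dk, (hAmem u mu _ du).1 rfl,
      (hAmem v mv _ dv).1 rfl] at hp
    rw [hu, hv, hw, vi, vj, vk, (hAmem u mu _ du).1 rfl, (hAmem v mv _ dv).1 rfl] at hcolw'
    have e1 : (((c : ℤ) * c : ℤ) : ℂ) = ((1728 - 64 * (K.A i * K.A i + K.A j * K.A j + K.A k * K.A k)
        + 27 * (K.A w * K.A w) : ℤ) : ℂ) := by
      push_cast at hp ⊢; linear_combination hp / 7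
    have e2 : ((1 - (K.A i + K.A j + K.A k) + K.A w : ℤ) : ℂ) = ((0 : ℤ) : ℂ) := by
      push_cast at hcolw' ⊢; linear_combination hcolw'
    have e1' := (Int.cast_inj (α := ℂ)).1 e1
    have := small (Or.inl ai); have := small (Or.inl aj); have := small (Or.inl ak)
    have := small (Or.inr (Or.inl aw))
    exact check₁ _ ai _ aj _ ak _ aw ((Int.cast_inj (α := ℂ)).1 e2) _ (hk _ (by omega) e1') e1'
  · obtain ⟨i, j, k, hij, hik, hjk, hFeq⟩ := Finset.card_eq_three.1 hF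
    have hs : ∀ f : IrrCharacter G → ℂ, ∑ χ ∈ F, f χ = f i + f j + f k := fun f => by
      rw [hFeq, Finset.sum_insert (by simp [hij, hik]), Finset.sum_pair hjk]; ring
    obtain ⟨vi, di⟩ := hFv i (by simp [hFeq])
    obtain ⟨vj, dj⟩ := hFv j (by simp [hFeq])
    obtain ⟨vk, dk⟩ := hFv k (by simp [hFeq])
    have ai := (hAmem i (mF (by simp [hFeq])) _ di).2.1 rfl
    have aj := (hAmem j (mF (by simp [hFeq])) _ dj).2.1 rfl
    have ak := (hAmem k (mF (by simp [hFeq])) _ dk).2.1 rfl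
    have av := (hAmem v mv _ dv).2.2.1 rfl
    have aw := (hAmem w mw _ dw).2.2.1 rfl
    have au := (hAmem u mu _ du).1 rfl
    rw [hsum, hs] at hp hcolw'
    rw [hu, hv, hw, vi, vj, vk, du, dv, dw, di, dj, dk, au] at hp
    rw [hu, hv, hw, vi, vj, vk, au] at hcolw'
    have e1 : (((c : ℤ) * c : ℤ) : ℂ) = ((1728 - 64 * (K.A i * K.A i + K.A j * K.A j + K.A k * K.A k)
        + 48 * (K.A v * K.A v + K.A w * K.A w) : ℤ) : ℂ) := by
      push_cast at hp ⊢; linear_combination hp / 7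
    have e2 : ((1 - (K.A i + K.A j + K.A k) + (K.A v + K.A w) : ℤ) : ℂ) = ((0 : ℤ) : ℂ) := by
      push_cast at hcolw' ⊢; linear_combination hcolw'
    have e1' := (Int.cast_inj (α := ℂ)).1 e1
    have := small (Or.inl ai); have := small (Or.inl aj); have := small (Or.inl ak)
    have := small (Or.inr (Or.inr (Or.inr av))); have := small (Or.inr (Or.inr (Or.inr aw)))
    have hm := check₂ _ ai _ aj _ ak _ av _ aw ((Int.cast_inj (α := ℂ)).1 e2) _ (hk _ (by omega) e1') e1'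
    simp only [List.mem_cons, List.not_mem_nil, or_false, Prod.mk.injEq] at hm
    obtain ⟨e48, ei, ej, ek, hpq⟩ : (c : ℤ) = 48 ∧ K.A i = -1 ∧ K.A j = -1 ∧ K.A k = -1 ∧
        ((K.A v = 0 ∧ K.A w = -4) ∨ (K.A v = -4 ∧ K.A w = 0)) := by tauto
    refine ⟨by exact_mod_cast e48, ?_⟩
    have hFA : ∀ χ ∈ F, K.V χ = -1 ∧ Char.degree χ = 27 ∧ K.A χ = -1 := fun χ hχ => by
      refine ⟨(hFv χ hχ).1, (hFv χ hχ).2, ?_⟩
      rw [hFeq] at hχ
      simp only [Finset.mem_insert, Finset.mem_singleton] at hχ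
      rcases hχ with e | e | e <;> rw [e] <;> assumption
    rcases hpq with ⟨hp0, hq4⟩ | ⟨hp4, hq0⟩
    · exact ⟨F, u, v, w, hF, hFA, ⟨hu, du, au⟩, ⟨hv, dv, hp0⟩, ⟨hw, dw, hq4⟩, hsum⟩
    · exact ⟨F, u, w, v, hF, hFA, ⟨hu, du, au⟩, ⟨hw, dw, hq0⟩, ⟨hv, dv, hp4⟩,
        fun f => by rw [hsum f]; ring⟩
  · exfalso
    have av := (hAmem v mv _ dv).2.1 rfl
    have aw := (hAmem w mw _ dw).2.2.2.2 rfl
    have au := (hAmem u mu _ du).1 rfl
    rw [hsum] at hp hcolw'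
    rw [hu, hv, hw, du, dv, dw, au] at hp
    rw [hu, hv, hw, au] at hcolw'
    have e1 : (((c : ℤ) * c : ℤ) : ℂ) = ((1728 - 64 * (K.A v * K.A v) + 384 * (K.A w * K.A w) : ℤ) : ℂ) := by
      push_cast at hp ⊢; linear_combination hp / 7
    have e2 : ((1 - K.A v + 2 * K.A w : ℤ) : ℂ) = ((0 : ℤ) : ℂ) := by
      push_cast at hcolw' ⊢; linear_combination hcolw'
    have e1' := (Int.cast_inj (α := ℂ)).1 e1
    have := small (Or.inl av)
    have hw9 : K.A w * K.A w ≤ 9 := by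
      rcases (by simpa using aw : K.A w = 1 ∨ K.A w = -3) with e | e <;> rw [e] <;> norm_num
    exact check₃ _ av _ aw ((Int.cast_inj (α := ℂ)).1 e2) _ (hk _ (by omega) e1') e1'

theorem parity_contra {a k E R S2 : ℤ} (ha : a = -1 ∨ a = 0 ∨ a = 1) (hE : E = 3 * k - 9)
    (hS : S2 = 16 * (E + 2 * R) + 24 * E + 27)
    (heq : 8 * S2 = 216 + 27 * (16 * (a * a)) + 6 * (16 * ((2 * k - a - 7) * (2 * k - a - 7) + k * k))) :
    False := by
  obtain ⟨j, rfl | rfl⟩ := Int.even_or_odd' k <;> rcases ha with rfl | rfl | rfl <;> ring_nf at heq hS hE <;>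
    omega

/-- There is no simple group of order 12096 without elements of order 14 or 21. -/
theorem false_of_big (h : Big G) : False := by
  classical
  obtain ⟨L⟩ := exists_local h
  choose V A hV hA h7 hpos hneg using L.values h
  let K : Cols G L := ⟨V, A, hV, hA, h7, hpos, hneg⟩
  obtain ⟨hc48, F, α, β, γ, hF, hFv, hα, hβ, hγ, hsum⟩ := K.config h
  -- an involution in the centre of a Sylow 2-subgroup
  haveI : Fact (Nat.Prime 2) := ⟨Nat.prime_two⟩
  obtain ⟨Q⟩ : Nonempty (Sylow 2 G) := inferInstance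
  have hQ : Nat.card (Q : Subgroup G) = 64 := by
    rw [Q.card_eq_multiplicity, h.card, show (12096 : ℕ) = 2 ^ 6 * 189 by norm_num,
      Nat.factorization_mul (by norm_num) (by norm_num), Finsupp.add_apply,
      Nat.Prime.factorization_pow (by norm_num), Finsupp.single_eq_same,
      Nat.factorization_eq_zero_of_not_dvd (n := 189) (by norm_num)]
    norm_num
  haveI : Nontrivial (Q : Subgroup G) := Finite.one_lt_card_iff_nontrivial.1 (by rw [hQ]; norm_num)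
  haveI := Q.2.center_nontrivial
  obtain ⟨⟨⟨t, htQ⟩, htc⟩, ht⟩ := exists_prime_orderOf_dvd_card' (G := center (Q : Subgroup G)) 2 (by
    obtain ⟨k, hk, e⟩ : ∃ k, k ≠ 0 ∧ Nat.card (center (Q : Subgroup G)) = 2 ^ k := by
      obtain ⟨k, -, e⟩ := (Nat.dvd_prime_pow Nat.prime_two).1
        (show Nat.card (center (Q : Subgroup G)) ∣ 2 ^ 6 from
          (card_subgroup_dvd_card _).trans (by rw [hQ]; norm_num))
      refine ⟨k, fun e0 => ?_, e⟩
      have := Finite.one_lt_card (α := center (Q : Subgroup G))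
      rw [e, e0] at this
      norm_num at this
    rw [e]; exact dvd_pow_self 2 hk)
  rw [orderOf_mk, orderOf_mk] at ht
  have hct : 64 ∣ Nat.card (centralizer ({t} : Set G)) := by
    rw [← hQ]
    refine card_dvd_of_le fun q hq => mem_centralizer_singleton_iff.2 ?_
    exact congrArg Subtype.val (mem_center_iff.1 htc ⟨q, hq⟩)
  have hnc : ¬ IsConj t L.w := fun hc => by
    obtain ⟨g, hg⟩ := isConj_iff.1 hc
    have e : Nat.card (centralizer ({t} : Set G)) = Nat.card (centralizer ({L.w} : Set G)) := by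
      refine Nat.card_congr ((MulAut.conj g).toEquiv.subtypeEquiv fun x => ?_)
      simp only [mem_centralizer_singleton_iff, MulEquiv.toEquiv_eq_coe, EquivLike.coe_coe,
        MulAut.conj_apply, ← hg]
      constructor
      · intro hx
        calc g * x * g⁻¹ * (g * t * g⁻¹) = g * (x * t) * g⁻¹ := by group
          _ = _ := by rw [hx]; group
      · intro hx
        calc x * t = g⁻¹ * (g * x * g⁻¹ * (g * t * g⁻¹)) * g := by group
          _ = _ := by rw [hx]; group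
    rw [e, hc48] at hct
    norm_num at hct
  have ht1 : t ≠ 1 := fun e => by rw [e, orderOf_one] at ht; norm_num at ht
  have htt : t * t = 1 := by rw [← pow_two, ← ht, pow_orderOf_eq_one]
  have hint : ∀ χ : IrrCharacter G, ∃ b : ℤ, χ.1 t = b := fun χ =>
    let ⟨b, hb, _⟩ := FivePairs.exists_value_parity ht χ
    ⟨b, hb⟩
  choose T hT using hint
  have hcol : 1 + ∑ χ ∈ K.supp, K.V χ * T χ = 0 := K.col T hT fun hc => by
    obtain ⟨g, hg⟩ := isConj_iff.1 hc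
    have := MulEquiv.orderOf_eq (MulAut.conj g) t
    rw [MulAut.conj_apply, hg, L.hy, ht] at this
    norm_num at this
  have hwt := K.pairs h L.w t
  rw [pairs_empty h L.w t L.ww htt hnc, hsum] at hwt
  have htt' := K.pairs h t t
  rw [pairs_empty h t t htt htt hnc, hsum] at htt'
  have hmod : ∀ χ : IrrCharacter G, χ ≠ Char.trivialChar G →
      -(Char.degree χ : ℤ) < T χ ∧ T χ < Char.degree χ ∧ (4 : ℤ) ∣ (Char.degree χ : ℤ) - T χ := fun χ hne =>
    ⟨(abs_lt_degree h.nonabelian hne ht1 (hT χ)).1, (abs_lt_degree h.nonabelian hne ht1 (hT χ)).2,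
      dvd_degree_sub h.nonabelian htt χ (hT χ)⟩
  have hne : ∀ χ : IrrCharacter G, 2 ≤ Char.degree χ → χ ≠ Char.trivialChar G := fun χ h2 e => by
    rw [e, Cols.D_triv] at h2; omega
  obtain ⟨a1, a2, a4⟩ := hmod α (hne α (by rw [hα.2.1]; norm_num))
  obtain ⟨-, -, g4⟩ := hmod γ (hne γ (by rw [hγ.2.1]; norm_num))
  rw [hα.2.1] at a1 a2 a4
  rw [hγ.2.1] at g4
  obtain ⟨a', ha'⟩ : (4 : ℤ) ∣ T α := by omega
  obtain ⟨k, hk⟩ : (4 : ℤ) ∣ T γ := by omega
  have he : ∀ χ ∈ F, ∃ e : ℤ, T χ = 4 * e + 3 := fun χ hχ => by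
    obtain ⟨-, -, h4⟩ := hmod χ (hne χ (by rw [(hFv χ hχ).2.1]; norm_num))
    rw [(hFv χ hχ).2.1] at h4
    exact ⟨(T χ - 3) / 4, by omega⟩
  choose! e he using he
  obtain ⟨R, hR⟩ : (2 : ℤ) ∣ (∑ χ ∈ F, (e χ * e χ - e χ)) := Finset.dvd_sum fun χ _ => by
    obtain ⟨m, hm | hm⟩ := Int.even_or_odd' (e χ)
    · exact ⟨2 * m * m - m, by rw [hm]; ring⟩
    · exact ⟨2 * m * m + m, by rw [hm]; ring⟩
  rw [Finset.sum_sub_distrib] at hR
  set E := ∑ χ ∈ F, e χ with hE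
  set Q2 := ∑ χ ∈ F, e χ * e χ with hQ2
  have hS1 : ∑ χ ∈ F, T χ = 4 * E + 9 := by
    rw [Finset.sum_congr rfl he, Finset.sum_add_distrib, ← Finset.mul_sum, Finset.sum_const, hF]
    simp; rfl
  have hS2 : ∑ χ ∈ F, T χ * T χ = 16 * Q2 + 24 * E + 27 := by
    rw [Finset.sum_congr rfl fun χ hχ => show T χ * T χ = 16 * (e χ * e χ) + 24 * e χ + 9 by
      rw [he χ hχ]; ring, Finset.sum_add_distrib, Finset.sum_add_distrib, ← Finset.mul_sum,
      ← Finset.mul_sum, Finset.sum_const, hF]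
    simp; rfl
  -- the three equations
  have eq1 : 1 + (T α - (4 * E + 9) + T β + T γ) = 0 := by
    have hcast : (((1 + (T α - (∑ χ ∈ F, T χ) + T β + T γ)) : ℤ) : ℂ) = ((0 : ℤ) : ℂ) := by
      have h1 : ((1 + ∑ χ ∈ K.supp, K.V χ * T χ : ℤ) : ℂ) = ((0 : ℤ) : ℂ) := by rw [hcol]
      push_cast at h1 ⊢
      rw [hsum, hα.1, hβ.1, hγ.1, Finset.sum_congr rfl fun χ hχ => show (K.V χ : ℂ) * (T χ : ℂ) = -(T χ : ℂ) by
        rw [(hFv χ hχ).1]; push_cast; ring, Finset.sum_neg_distrib] at h1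
      push_cast at h1
      linear_combination h1
    rw [hS1] at hcast
    exact_mod_cast hcast
  have eq2 : 27 + (4 * E + 9) - 3 * T γ = 0 := by
    rw [hα.1, hα.2.1, hβ.1, hβ.2.1, hγ.1, hγ.2.1, K.hA α, hα.2.2, K.hA β, hβ.2.2, K.hA γ, hγ.2.2,
      Finset.sum_congr rfl fun χ hχ => show (K.V χ : ℂ) * (χ.1 L.w * χ.1 t / Char.degree χ) =
        (T χ : ℂ) / 27 by rw [(hFv χ hχ).1, (hFv χ hχ).2.1, K.hA, (hFv χ hχ).2.2, hT]; push_cast; ring,
      ← Finset.sum_div, hT γ] at hwt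
    have hcast : (((27 + (∑ χ ∈ F, T χ) - 3 * T γ) : ℤ) : ℂ) = ((0 : ℤ) : ℂ) := by
      push_cast at hwt ⊢
      linear_combination -hwt / 448
    rw [hS1] at hcast
    exact_mod_cast hcast
  have eq3 : 216 + 27 * (T α * T α) - 8 * (16 * Q2 + 24 * E + 27) + 6 * (T β * T β + T γ * T γ) = 0 := by
    rw [hα.1, hα.2.1, hβ.1, hβ.2.1, hγ.1, hγ.2.1, hT α, hT β, hT γ,
      Finset.sum_congr rfl fun χ hχ => show (K.V χ : ℂ) * (χ.1 t * χ.1 t / Char.degree χ) =
        -((T χ * T χ : ℤ) : ℂ) / 27 by rw [(hFv χ hχ).1, (hFv χ hχ).2.1, hT]; push_cast; ring,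
      ← Finset.sum_div, Finset.sum_neg_distrib] at htt'
    have hcast : (((216 + 27 * (T α * T α) - 8 * (∑ χ ∈ F, T χ * T χ) + 6 * (T β * T β + T γ * T γ)) : ℤ) : ℂ) =
        ((0 : ℤ) : ℂ) := by
      push_cast at htt' ⊢
      linear_combination -htt' / 56
    rw [hS2] at hcast
    exact_mod_cast hcast
  have hb : T β = 4 * (2 * k - a' - 7) := by omega
  refine parity_contra (a := a') (k := k) (E := E) (R := R) (by omega) (by omega) rfl ?_
  rw [ha', hb, hk] at eq3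
  have hQ' : Q2 = E + 2 * R := by omega
  rw [hQ'] at eq3
  linarith

end Final

end Cfsg.Agent.G2TwoRecog
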