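import Cfsg.Agent.Lib.G2TwoRecog.Shape
import Cfsg.Agent.Lib.G2TwoRecog.NoSimple12096
import Cfsg.Agent.Lib.SmallSimple.ExceptionalDegree
import Cfsg.Agent.Lib.LocalStructure.Basic
import Cfsg.Agent.Lib.Balance.CharP

/-!
# Groups of order 12096 without elements of order 9, 14 or 21 are almost simple
-/

set_option autoImplicit false
set_option linter.style.haveILetI false
set_option linter.unusedSectionVars false

open Cfsg Cfsg.Agent Subgroup

namespace Cfsg.Agent.G2TwoRecog

universe u

variable {X : Type u} [Group X] [Finite X] {m : ℕ}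

/-- An element of order seven normalising `R` fixes only the identity of `R`. -/
theorem card_modEq_one (h : SevenIsolated X m) {y : X} (hy : orderOf y = 7) (R : Subgroup X)
    (hR : ∀ r ∈ R, y * r * y⁻¹ ∈ R) (h7 : ¬ 7 ∣ Nat.card R) : Nat.card R % 7 = 1 := by
  classical
  haveI : Fact (Nat.Prime 7) := ⟨by norm_num⟩
  letI := Fintype.ofFinite R
  have hy7 : y ^ 7 = 1 := hy ▸ pow_orderOf_eq_one y
  let σ : Equiv.Perm R :=
    { toFun := fun r => ⟨y * r * y⁻¹, hR r r.2⟩
      invFun := fun r => ⟨y⁻¹ * r * y, by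
        have key : ∀ n : ℕ, y ^ n * r * (y ^ n)⁻¹ ∈ R := fun n => by
          induction n with
          | zero => simp
          | succ n ih =>
            rw [pow_succ' y n, show y * y ^ n * r * (y * y ^ n)⁻¹ = y * (y ^ n * r * (y ^ n)⁻¹) * y⁻¹ by group]
            exact hR _ ih
        have := key 6
        rw [show y ^ 6 = y⁻¹ from eq_inv_of_mul_eq_one_left (by rw [← pow_succ, hy7]), inv_inv] at this
        exact this⟩
      left_inv := fun r => Subtype.ext (by simp only; group)
      right_inv := fun r => Subtype.ext (by simp only; group) }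
  have hpow : ∀ (n : ℕ) (r : R), ((σ ^ n) r : X) = y ^ n * r * (y ^ n)⁻¹ := fun n => by
    induction n with
    | zero => intro r; simp
    | succ n ih =>
      intro r
      rw [pow_succ', Equiv.Perm.mul_apply]
      show y * ((σ ^ n) r : X) * y⁻¹ = _
      rw [ih, pow_succ' y n]; group
  have hσ : σ ^ 7 ^ 1 = 1 := Equiv.ext fun r => Subtype.ext (by rw [pow_one, hpow, hy7]; simp)
  have hsupp : σ.supportᶜ = {(1 : R)} := by
    ext r
    rw [Finset.mem_compl, Equiv.Perm.notMem_support, Finset.mem_singleton]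
    refine ⟨fun e => ?_, fun e => Subtype.ext (by subst e; show y * (1 : X) * y⁻¹ = _; simp)⟩
    have e' : y * r * y⁻¹ = r := congrArg Subtype.val e
    have hm : (r : X) ∈ centralizer ({y} : Set X) :=
      mem_centralizer_singleton_iff.2 (mul_inv_eq_iff_eq_mul.1 e').symm
    rw [centralizer_seven h hy] at hm
    by_contra hr
    have hd := orderOf_dvd_natCard _ hm
    rw [Nat.card_zpowers, hy] at hd
    rcases (Nat.dvd_prime (by norm_num : Nat.Prime 7)).1 hd with e1 | e1
    · exact hr (Subtype.ext (orderOf_eq_one_iff.1 e1))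
    · exact h7 (e1 ▸ orderOf_dvd_natCard _ r.2)
  have := Equiv.Perm.card_compl_support_modEq hσ
  rw [hsupp, Finset.card_singleton, ← Nat.card_eq_fintype_card] at this
  exact this.symm

theorem exists_seven (h : SevenIsolated X m) : ∃ y : X, orderOf y = 7 := by
  haveI : Fact (Nat.Prime 7) := ⟨by norm_num⟩
  exact exists_prime_orderOf_dvd_card' 7 (by rw [h.card]; exact dvd_mul_right 7 m)

theorem check_three : ∀ i ∈ Finset.range 6, 3 ^ i % 7 = 1 → i = 0 := by decide

/-- A normal subgroup of order prime to seven is a 2-group of order `≡ 1 (mod 7)`. -/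
theorem normal_two (h : SevenIsolated X m) (hm : ¬ 3 ^ 6 ∣ m) (R : Subgroup X) [R.Normal]
    (h7 : ¬ 7 ∣ Nat.card R) : IsPGroup 2 R ∧ Nat.card R % 7 = 1 := by
  classical
  obtain ⟨y, hy⟩ := exists_seven h
  refine ⟨?_, card_modEq_one h hy R (fun r hr => Normal.conj_mem inferInstance r hr y) h7⟩
  have hdiv : Nat.card R ∣ m := by
    have := card_subgroup_dvd_card R
    rw [h.card] at this
    exact ((Nat.Prime.coprime_iff_not_dvd (by norm_num : Nat.Prime 7)).2 h7).symm.dvd_of_dvd_mul_left this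
  have h3 : ¬ 3 ∣ Nat.card R := by
    intro h3
    haveI : Fact (Nat.Prime 3) := ⟨Nat.prime_three⟩
    haveI : Fact (Nat.Prime 7) := ⟨by norm_num⟩
    obtain ⟨Q⟩ : Nonempty (Sylow 3 R) := inferInstance
    set Q' := (Q : Subgroup R).map R.subtype
    have hsup : normalizer (Q' : Set X) ⊔ R = ⊤ := Sylow.normalizer_sup_eq_top Q
    have hd : Nat.card (X ⧸ R) ∣ Nat.card (normalizer (Q' : Set X)) := by
      refine card_dvd_of_surjective ((QuotientGroup.mk' R).comp (normalizer (Q' : Set X)).subtype) ?_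
      rw [← MonoidHom.range_eq_top, MonoidHom.range_comp, range_subtype, eq_top_iff]
      intro a _
      obtain ⟨a, rfl⟩ := QuotientGroup.mk'_surjective R a
      have ha : a ∈ normalizer (Q' : Set X) ⊔ R := hsup ▸ mem_top a
      obtain ⟨b, hb, c, hc, rfl⟩ := mem_sup_of_normal_right.1 ha
      refine ⟨b, hb, ?_⟩
      rw [map_mul]
      simp [(QuotientGroup.eq_one_iff c).2 hc]
    have h7q : 7 ∣ Nat.card (normalizer (Q' : Set X)) := by
      refine Dvd.dvd.trans ?_ hd
      have := card_eq_card_quotient_mul_card_subgroup R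
      rw [h.card] at this
      exact ((Nat.Prime.dvd_mul (by norm_num)).1 (this ▸ dvd_mul_right 7 m)).resolve_right h7
    obtain ⟨⟨y', hy'N⟩, hy'⟩ := exists_prime_orderOf_dvd_card' 7 h7q
    rw [orderOf_mk] at hy'
    have hQ : Nat.card Q' = 3 ^ (Nat.card R).factorization 3 := by
      rw [card_map_of_injective R.subtype_injective, Q.card_eq_multiplicity]
    have h7Q : ¬ 7 ∣ Nat.card Q' := fun e => by
      rw [hQ] at e
      exact absurd ((Nat.prime_dvd_prime_iff_eq (by norm_num) Nat.prime_three).1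
        ((by norm_num : Nat.Prime 7).dvd_of_dvd_pow e)) (by norm_num)
    have hmod := card_modEq_one h hy' Q' (fun r hr => (mem_normalizer_iff.1 hy'N r).1 hr) h7Q
    rw [hQ] at hmod
    set i := (Nat.card R).factorization 3 with hi
    have hi0 : i ≠ 0 := by
      rw [hi]; exact (Nat.Prime.factorization_pos_of_dvd Nat.prime_three Nat.card_pos.ne' h3).ne'
    have hi6 : i < 6 := by
      by_contra hc
      exact hm ((pow_dvd_pow 3 (by omega : 6 ≤ i)).trans ((Nat.ordProj_dvd _ 3).trans hdiv))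
    exact hi0 (check_three i (Finset.mem_range.2 hi6) hmod)
  exact IsPGroup.of_card (Nat.eq_prime_pow_of_unique_prime_dvd Nat.card_pos.ne' fun {r} hr hrd => by
    rcases h.primes r hr (hrd.trans hdiv) with e | e
    · exact e
    · exact absurd (e ▸ hrd) h3)

section Ambient

variable {G : Type u} [Group G] [Fintype G]

/-- No normal subgroup of order eight, abelian case. -/
theorem false_of_eight (h : Big G) (R : Subgroup G) [R.Normal] (hR : Nat.card R = 8)
    (hcomm : ∀ a ∈ R, ∀ b ∈ R, a * b = b * a) : False := by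
  classical
  obtain ⟨L⟩ := exists_local h
  haveI : Fact (Nat.Prime 2) := ⟨Nat.prime_two⟩
  letI := Fintype.ofFinite R
  have hinv : L.w⁻¹ = L.w := inv_eq_of_mul_eq_one_right L.ww
  let τ : Equiv.Perm R :=
    { toFun := fun r => ⟨L.w * r * L.w⁻¹, Normal.conj_mem inferInstance _ r.2 _⟩
      invFun := fun r => ⟨L.w * r * L.w⁻¹, Normal.conj_mem inferInstance _ r.2 _⟩
      left_inv := fun r => Subtype.ext (by
        show L.w * (L.w * r * L.w⁻¹) * L.w⁻¹ = r
        rw [hinv, show L.w * (L.w * r * L.w) * L.w = L.w * L.w * r * (L.w * L.w) by group, L.ww]; group)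
      right_inv := fun r => Subtype.ext (by
        show L.w * (L.w * r * L.w⁻¹) * L.w⁻¹ = r
        rw [hinv, show L.w * (L.w * r * L.w) * L.w = L.w * L.w * r * (L.w * L.w) by group, L.ww]; group) }
  have hτ : τ ^ 2 ^ 1 = 1 := by
    rw [pow_one, pow_two]
    exact Equiv.ext fun r => τ.left_inv r
  obtain ⟨a, hfix, ha1⟩ := Equiv.Perm.exists_fixed_point_of_prime' (p := 2)
    (by rw [← Nat.card_eq_fintype_card, hR]; norm_num) hτ (a := (1 : R))
    (Subtype.ext (by show L.w * (1 : G) * L.w⁻¹ = _; simp))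
  have hfix' : L.w * a * L.w⁻¹ = a := congrArg Subtype.val hfix
  let A : ℕ → G := fun i => L.y ^ i * a * (L.y ^ i)⁻¹
  have hA : ∀ i, A i ∈ R := fun i => Normal.conj_mem inferInstance _ a.2 _
  have hmod : ∀ i, A i = A (i % 7) := fun i => by simp only [A]; rw [pow_eq_pow_mod i L.y7]
  have hshift : ∀ i j, L.y ^ i * A j * (L.y ^ i)⁻¹ = A (i + j) := fun i j => by
    simp only [A, pow_add]; group
  have hwA : ∀ i, L.w * A i * L.w⁻¹ = A (6 * i) := fun i => by
    simp only [A]
    calc L.w * (L.y ^ i * a * (L.y ^ i)⁻¹) * L.w⁻¹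
        = (L.w * L.y ^ i * L.w⁻¹) * (L.w * a * L.w⁻¹) * (L.w * L.y ^ i * L.w⁻¹)⁻¹ := by group
      _ = _ := by rw [hfix', ← conj_pow, L.w_inv, L.y_inv, ← pow_mul]
  have hnf : ∀ i, i % 7 ≠ 0 → A i ≠ (a : G) := fun i hi e => by
    have hc : (a : G) ∈ centralizer ({L.y ^ i} : Set G) :=
      mem_centralizer_singleton_iff.2 (mul_inv_eq_iff_eq_mul.1 e).symm
    have ho : orderOf (L.y ^ i) = 7 := by
      haveI : Fact (Nat.Prime 7) := ⟨by norm_num⟩
      refine orderOf_eq_prime (by rw [← pow_mul, mul_comm, pow_mul, L.y7, one_pow]) fun e1 => hi ?_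
      have := orderOf_dvd_of_pow_eq_one e1
      rw [L.hy] at this
      omega
    rw [centralizer_seven h.seven ho] at hc
    have hd := orderOf_dvd_natCard _ hc
    have hd' := orderOf_dvd_natCard _ a.2
    rw [Nat.card_zpowers, ho] at hd
    rw [hR] at hd'
    have h1 := Nat.dvd_gcd hd hd'
    norm_num at h1
    exact ha1 h1
  let f : Fin 7 → R := fun i => ⟨A i.val, hA _⟩
  have hf : Function.Injective f := fun i j e => by
    have e' : A i.val = A j.val := congrArg Subtype.val e
    by_contra hij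
    refine hnf (i.val + (7 - j.val)) (by have := Fin.val_ne_of_ne hij; omega) ?_
    have h1 : L.y ^ (7 - j.val) * A i.val * (L.y ^ (7 - j.val))⁻¹ =
        L.y ^ (7 - j.val) * A j.val * (L.y ^ (7 - j.val))⁻¹ := by rw [e']
    rw [hshift, hshift] at h1
    rw [show i.val + (7 - j.val) = 7 - j.val + i.val by omega, h1, hmod,
      show (7 - j.val + j.val) % 7 = 0 by omega]
    simp [A]
  have hne : ∀ i, (f i : R) ≠ 1 := fun i e => ha1 (Subtype.ext (by
    have e' : L.y ^ i.val * a * (L.y ^ i.val)⁻¹ = 1 := congrArg Subtype.val e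
    simpa using e'))
  have himage : Finset.univ.image f = Finset.univ.erase (1 : R) := by
    refine Finset.eq_of_subset_of_card_le (fun r hr => ?_) ?_
    · obtain ⟨i, -, rfl⟩ := Finset.mem_image.1 hr
      exact Finset.mem_erase.2 ⟨hne i, Finset.mem_univ _⟩
    · rw [Finset.card_image_of_injective _ hf, Finset.card_erase_of_mem (Finset.mem_univ _),
        Finset.card_univ, Finset.card_univ, ← Nat.card_eq_fintype_card, hR, Fintype.card_fin]
  have hinj : ∀ i j, A i = A j → i % 7 = j % 7 := fun i j e => by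
    rw [hmod i, hmod j] at e
    have := hf (a₁ := ⟨i % 7, Nat.mod_lt _ (by norm_num)⟩) (a₂ := ⟨j % 7, Nat.mod_lt _ (by norm_num)⟩)
      (Subtype.ext e)
    exact congrArg Fin.val this
  have h01 : (⟨A 0 * A 1, mul_mem (hA 0) (hA 1)⟩ : R) ≠ 1 := fun e => by
    have e' : A 0 * A 1 = 1 := congrArg Subtype.val e
    have h1 : L.y ^ 1 * (A 0 * A 1) * (L.y ^ 1)⁻¹ = 1 := by rw [e']; group
    rw [show L.y ^ 1 * (A 0 * A 1) * (L.y ^ 1)⁻¹ =
      (L.y ^ 1 * A 0 * (L.y ^ 1)⁻¹) * (L.y ^ 1 * A 1 * (L.y ^ 1)⁻¹) by group, hshift, hshift] at h1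
    have := hinj (1 + 1) 0 ((eq_inv_of_mul_eq_one_right h1).trans (eq_inv_of_mul_eq_one_left e').symm)
    omega
  obtain ⟨j, -, hj⟩ := Finset.mem_image.1 (himage.symm ▸ Finset.mem_erase.2 ⟨h01, Finset.mem_univ _⟩ :
    (⟨A 0 * A 1, mul_mem (hA 0) (hA 1)⟩ : R) ∈ Finset.univ.image f)
  have hj' : A 0 * A 1 = A j.val := (congrArg Subtype.val hj).symm
  have hmul : ∀ i, A i * A (i + 1) = A (i + j.val) := fun i => by
    have := congrArg (fun t => L.y ^ i * t * (L.y ^ i)⁻¹) hj'
    rw [show L.y ^ i * (A 0 * A 1) * (L.y ^ i)⁻¹ =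
      (L.y ^ i * A 0 * (L.y ^ i)⁻¹) * (L.y ^ i * A 1 * (L.y ^ i)⁻¹) by group, hshift, hshift, hshift] at this
    exact this
  have h6 : A 0 * A 6 = A (6 * j.val) := by
    have := congrArg (fun t => L.w * t * L.w⁻¹) hj'
    rw [show L.w * (A 0 * A 1) * L.w⁻¹ = (L.w * A 0 * L.w⁻¹) * (L.w * A 1 * L.w⁻¹) by group,
      hwA, hwA, hwA] at this
    exact this
  have hj4 : j.val = 4 := by
    have h1 := hmul 6
    rw [hmod (6 + 1), hcomm _ (hA 6) _ (hA _), show (6 + 1) % 7 = 0 from rfl, h6] at h1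
    have := hinj _ _ h1
    have := j.isLt
    omega
  have h4 := hmul 4
  rw [hj4, hmod (4 + 4), show (4 + 4) % 7 = 1 from rfl] at h4
  have h0 := hmul 0
  rw [hj4, show (0 + 4) = 4 from rfl, show 0 + 1 = 1 from rfl] at h0
  rw [← h0, mul_assoc, hcomm _ (hA 1) _ (hA 5), ← mul_assoc, mul_eq_right] at h4
  have h5 : L.y ^ 5 * (A 0 * A 5) * (L.y ^ 5)⁻¹ = 1 := by rw [h4]; group
  rw [show L.y ^ 5 * (A 0 * A 5) * (L.y ^ 5)⁻¹ =
    (L.y ^ 5 * A 0 * (L.y ^ 5)⁻¹) * (L.y ^ 5 * A 5 * (L.y ^ 5)⁻¹) by group, hshift, hshift] at h5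
  have := hinj (5 + 5) 0 ((eq_inv_of_mul_eq_one_right h5).trans (eq_inv_of_mul_eq_one_left h4).symm)
  omega

/-- Every non-trivial normal subgroup has order divisible by seven. -/
theorem seven_dvd_normal (h : Big G) (R : Subgroup G) [R.Normal] (hne : R ≠ ⊥) : 7 ∣ Nat.card R := by
  by_contra h7
  obtain ⟨hp, -⟩ := normal_two h.seven (by norm_num) R h7
  have key : ∀ (T : Subgroup G), T.Normal → IsPGroup 2 T → T ≠ ⊥ → Nat.card T = 8 := by
    intro T hT hp hne
    have h7T : ¬ 7 ∣ Nat.card T := fun e => by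
      obtain ⟨k, hk⟩ := IsPGroup.iff_card.1 hp
      rw [hk] at e
      exact absurd ((Nat.prime_dvd_prime_iff_eq (by norm_num) Nat.prime_two).1
        ((by norm_num : Nat.Prime 7).dvd_of_dvd_pow e)) (by norm_num)
    obtain ⟨-, hmod⟩ := normal_two h.seven (by norm_num) T h7T
    obtain ⟨L⟩ := exists_local h
    haveI : Fact (Nat.Prime 7) := ⟨by norm_num⟩
    obtain ⟨k, hk⟩ := IsPGroup.iff_card.1 hp
    have hk1 : Nat.card T ≠ 1 := fun e => hne (card_eq_one.1 e)
    -- the subgroup `⟨y, σ⟩` of order 42 meets `T` trivially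
    set N := normalizer (zpowers L.y : Set G) with hN
    have hNT : ∀ n ∈ N, n ∈ T → n = 1 := by
      intro n hn hnT
      have hc : n * L.y * n⁻¹ * L.y⁻¹ ∈ T := by
        rw [show n * L.y * n⁻¹ * L.y⁻¹ = n * (L.y * n⁻¹ * L.y⁻¹) by group]
        exact mul_mem hnT (hT.conj_mem _ (inv_mem hnT) _)
      have hc' : n * L.y * n⁻¹ * L.y⁻¹ ∈ zpowers L.y :=
        mul_mem ((mem_normalizer_iff.1 hn L.y).1 (mem_zpowers _)) (inv_mem (mem_zpowers _))
      have hd := Nat.dvd_gcd (orderOf_dvd_natCard _ hc) (orderOf_dvd_natCard _ hc')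
      rw [Nat.card_zpowers, L.hy, Nat.gcd_comm,
        (Nat.Prime.coprime_iff_not_dvd (by norm_num : Nat.Prime 7)).2 h7T, Nat.dvd_one,
        orderOf_eq_one_iff, mul_inv_eq_one, mul_inv_eq_iff_eq_mul] at hd
      have hm : n ∈ centralizer ({L.y} : Set G) := mem_centralizer_singleton_iff.2 hd
      rw [centralizer_seven h.seven L.hy] at hm
      have hd := Nat.dvd_gcd (orderOf_dvd_natCard _ hnT) (orderOf_dvd_natCard _ hm)
      rw [Nat.card_zpowers, L.hy, Nat.gcd_comm,
        (Nat.Prime.coprime_iff_not_dvd (by norm_num : Nat.Prime 7)).2 h7T, Nat.dvd_one,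
        orderOf_eq_one_iff] at hd
      exact hd
    have hd : Nat.card N ∣ Nat.card (G ⧸ T) :=
      card_dvd_of_injective ((QuotientGroup.mk' T).comp N.subtype) (by
        rw [← MonoidHom.ker_eq_bot_iff, eq_bot_iff]
        intro n hn
        rw [MonoidHom.mem_ker] at hn
        exact mem_bot.2 (Subtype.ext (hNT n n.2 ((QuotientGroup.eq_one_iff _).1 hn))))
    obtain ⟨P, hP⟩ := (IsPGroup.of_card (G := zpowers L.y) (p := 7) (n := 1)
      (by rw [Nat.card_zpowers, L.hy, pow_one])).exists_le_sylow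
    have hPe : (P : Subgroup G) = zpowers L.y :=
      (eq_of_le_of_card_ge hP (by rw [card_sylow_seven h.seven P, Nat.card_zpowers, L.hy])).symm
    obtain ⟨k6, hk6, hcN, hn6⟩ := normalizer_seven h.seven P
    rw [hPe] at hcN
    have hk6' : k6 = 6 := by
      have hmod : Nat.card (Sylow 7 G) % 7 = 1 := card_sylow_modEq_one 7 G
      have key : ∀ k ∈ (6 : ℕ).divisors, k ≠ 6 → (1728 / k) % 7 ≠ 1 := by decide
      by_contra hne
      refine key k6 (Nat.mem_divisors.2 ⟨hk6, by norm_num⟩) hne ?_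
      rwa [← hn6, Nat.mul_div_cancel _ (Nat.pos_of_dvd_of_pos hk6 (by norm_num))]
    subst hk6'
    have htot := card_eq_card_quotient_mul_card_subgroup T
    rw [h.card] at htot
    rw [hN, hcN] at hd
    obtain ⟨q, hq⟩ := hd
    rw [hq, hk, mul_assoc] at htot
    have hkd : 2 ^ k ∣ 288 := ⟨q, by nlinarith⟩
    have hk5 : k ≤ 5 := by
      by_contra hc
      have : 2 ^ 6 ∣ 288 := (pow_dvd_pow 2 (by omega)).trans hkd
      norm_num at this
    rw [hk] at hmod hk1 ⊢
    interval_cases k <;> revert hmod hk1 <;> norm_num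
  haveI : Fact (Nat.Prime 2) := ⟨Nat.prime_two⟩
  haveI : Nontrivial R := (nontrivial_iff_ne_bot R).2 hne
  haveI := hp.center_nontrivial
  set Z := (center R).map R.subtype with hZ
  haveI : Z.Normal := ⟨fun c hc g => by
    obtain ⟨c, hcc, rfl⟩ := hc
    refine ⟨⟨g * c * g⁻¹, Normal.conj_mem inferInstance _ c.2 g⟩, ?_, rfl⟩
    have hcc' : c ∈ center R := hcc
    refine mem_center_iff.2 fun r => Subtype.ext ?_
    have hr := congrArg Subtype.val
      (mem_center_iff.1 hcc' ⟨g⁻¹ * r * g⁻¹⁻¹, Normal.conj_mem inferInstance _ r.2 g⁻¹⟩)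
    simp only [coe_mul] at hr ⊢
    calc (r : G) * (g * c * g⁻¹) = g * (g⁻¹ * r * g⁻¹⁻¹ * c) * g⁻¹ := by group
      _ = g * c * g⁻¹ * r := by rw [hr]; group⟩
  have hZne : Z ≠ ⊥ := fun e => by
    rw [hZ, map_eq_bot_iff_of_injective _ R.subtype_injective] at e
    exact (nontrivial_iff_ne_bot (center R)).1 inferInstance e
  have hZ8 := key Z inferInstance (hp.to_subgroup _ |>.map _) hZne
  refine false_of_eight h Z hZ8 ?_
  rintro _ ⟨a, ha, rfl⟩ _ ⟨b, -, rfl⟩
  exact (congrArg Subtype.val (mem_center_iff.1 (show a ∈ center R from ha) b)).symm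

theorem k_check : ∀ d ∈ (576 : ℕ).divisors, 2 ≤ d →
    ((((d : ℤ) - 1) % 7 = 0 ∧ ((d : ℤ) + 1).natAbs ∣ 7 * 576 →
        Nat.sqrt (576 * (d * (d + 1))) * Nat.sqrt (576 * (d * (d + 1))) ≠ 576 * (d * (d + 1))) ∧
      ((-(d : ℤ) - 1) % 7 = 0 ∧ (-(d : ℤ) + 1).natAbs ∣ 7 * 576 →
        Nat.sqrt (576 * (d * (d - 1))) * Nat.sqrt (576 * (d * (d - 1))) ≠ 576 * (d * (d - 1)))) := by
  decide +kernel

/-- The simple subgroup of index two. -/
theorem exists_hyp_normal (h : Big G) (h9 : ∀ g : G, orderOf g ≠ 9) :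
    ∃ K : Subgroup G, K.Normal ∧ Hyp K ∧ centralizer (K : Set G) = ⊥ := by
  classical
  haveI : Fact (Nat.Prime 7) := ⟨by norm_num⟩
  obtain ⟨P⟩ : Nonempty (Sylow 7 G) := inferInstance
  set K := normalClosure ((P : Subgroup G) : Set G) with hKdef
  have hPK : ∀ Q : Sylow 7 G, (Q : Subgroup G) ≤ K := fun Q a ha => by
    obtain ⟨g, rfl⟩ := MulAction.exists_smul_eq G P Q
    rw [Sylow.coe_subgroup_smul] at ha
    obtain ⟨b, hb, rfl⟩ := ha
    exact normalClosure_normal.conj_mem _ (subset_normalClosure hb) g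
  have hKmin : ∀ R : Subgroup G, R.Normal → R ≠ ⊥ → K ≤ R := by
    intro R hR hne
    obtain ⟨⟨r, hrR⟩, hr⟩ := exists_prime_orderOf_dvd_card' 7 (seven_dvd_normal h R hne)
    rw [orderOf_mk] at hr
    obtain ⟨Q, hQ⟩ := (IsPGroup.of_card (G := zpowers r) (p := 7) (n := 1)
      (by rw [Nat.card_zpowers, hr, pow_one])).exists_le_sylow
    have hQe : (Q : Subgroup G) = zpowers r :=
      (eq_of_le_of_card_ge hQ (by rw [card_sylow_seven h.seven Q, Nat.card_zpowers, hr])).symm
    refine normalClosure_le_normal fun a ha => ?_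
    obtain ⟨g, hg⟩ := MulAction.exists_smul_eq G Q P
    have ha' : a ∈ ((g • Q : Sylow 7 G) : Subgroup G) := by rw [hg]; exact ha
    rw [Sylow.coe_subgroup_smul] at ha'
    obtain ⟨b, hb, rfl⟩ := ha'
    exact hR.conj_mem _ (zpowers_le.2 hrR (hQe ▸ hb)) g
  have hKne : K ≠ ⊥ := fun e => by
    have h1 := card_le_of_le (hPK P)
    rw [e, card_sylow_seven h.seven P, card_bot] at h1
    omega
  -- cardinalities
  obtain ⟨m', hm'⟩ : 7 ∣ Nat.card K := by
    rw [← card_sylow_seven h.seven P]; exact card_dvd_of_le (hPK P)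
  have hm'd : m' ∣ 1728 := by
    have := card_subgroup_dvd_card K
    rw [hm', h.card, show 12096 = 7 * 1728 from rfl] at this
    exact Nat.dvd_of_mul_dvd_mul_left (by norm_num) this
  have sK : SevenIsolated K m' :=
    { card := hm'
      ndvd := fun e => absurd (e.trans hm'd) (by norm_num)
      primes := fun r hr hd => h.seven.primes r hr (hd.trans hm'd)
      no14 := fun g => by rw [← orderOf_coe]; exact h.no14 g
      no21 := fun g => by rw [← orderOf_coe]; exact h.no21 g }
  let f : Sylow 7 K → Sylow 7 G := fun Q => Sylow.ofCard ((Q : Subgroup K).map K.subtype) (by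
    rw [card_map_of_injective K.subtype_injective, card_sylow_seven sK Q, h.card,
      show (12096 : ℕ) = 7 * 1728 from rfl, Nat.factorization_mul (by norm_num) (by norm_num),
      Finsupp.add_apply, Nat.Prime.factorization_self (by norm_num),
      Nat.factorization_eq_zero_of_not_dvd (n := 1728) (by norm_num)]
    rfl)
  have hf : Function.Bijective f := by
    constructor
    · intro A B e
      refine Sylow.ext (map_injective K.subtype_injective ?_)
      simpa [f] using congrArg (fun T : Sylow 7 G => (T : Subgroup G)) e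
    · intro Q
      refine ⟨Sylow.ofCard ((Q : Subgroup G).subgroupOf K) ?_, Sylow.ext ?_⟩
      · rw [Nat.card_congr (subgroupOfEquivOfLe (hPK Q)).toEquiv, card_sylow_seven h.seven Q, hm',
          Nat.factorization_mul (by norm_num) (fun e => sK.ndvd (by rw [e]; exact dvd_zero 7)), Finsupp.add_apply,
          Nat.Prime.factorization_self (by norm_num), Nat.factorization_eq_zero_of_not_dvd sK.ndvd]
        rfl
      · simp only [f, Sylow.coe_ofCard]
        exact map_subgroupOf_eq_of_le (hPK Q)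
  have hn288 : Nat.card (Sylow 7 K) = 288 := by
    rw [Nat.card_eq_of_bijective f hf]
    obtain ⟨k, hk, -, hn⟩ := normalizer_seven h.seven P
    have hmod : Nat.card (Sylow 7 G) % 7 = 1 := card_sylow_modEq_one 7 G
    have key : ∀ k ∈ (6 : ℕ).divisors, k ≠ 6 → (1728 / k) % 7 ≠ 1 := by decide
    have : k = 6 := by
      by_contra hne
      refine key k (Nat.mem_divisors.2 ⟨hk, by norm_num⟩) hne ?_
      rwa [← hn, Nat.mul_div_cancel _ (Nat.pos_of_dvd_of_pos hk (by norm_num))]
    subst this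
    omega
  haveI hsimple : IsSimpleGroup K := by
    haveI : Nontrivial K := (nontrivial_iff_ne_bot K).2 hKne
    refine ⟨fun R hR => ?_⟩
    by_contra hRR
    push Not at hRR
    obtain ⟨hRbot, hRtop⟩ := hRR
    by_cases h7 : 7 ∣ Nat.card R
    · refine hRtop (eq_top_iff.2 fun k _ => ?_)
      have hsub : ∀ Q : Sylow 7 K, (Q : Subgroup K) ≤ R := by
        obtain ⟨⟨r, hrR⟩, hr⟩ := exists_prime_orderOf_dvd_card' 7 h7
        rw [orderOf_mk] at hr
        obtain ⟨Q₀, hQ₀⟩ := (IsPGroup.of_card (G := zpowers r) (p := 7) (n := 1)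
          (by rw [Nat.card_zpowers, hr, pow_one])).exists_le_sylow
        have hQe : (Q₀ : Subgroup K) = zpowers r :=
          (eq_of_le_of_card_ge hQ₀ (by rw [card_sylow_seven sK Q₀, Nat.card_zpowers, hr])).symm
        intro Q a ha
        obtain ⟨g, rfl⟩ := MulAction.exists_smul_eq K Q₀ Q
        rw [Sylow.coe_subgroup_smul] at ha
        obtain ⟨b, hb, rfl⟩ := ha
        exact hR.conj_mem _ (zpowers_le.2 hrR (hQe ▸ hb)) g
      have hle : K ≤ R.map K.subtype := by
        refine (closure_le _).2 ?_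
        intro a ha
        obtain ⟨b, hb, hab⟩ := Group.mem_conjugatesOfSet_iff.1 ha
        obtain ⟨g, rfl⟩ := isConj_iff.1 hab
        obtain ⟨Q, hQ⟩ := hf.2 (g • P)
        have : g * b * g⁻¹ ∈ ((g • P : Sylow 7 G) : Subgroup G) := by
          rw [Sylow.coe_subgroup_smul]; exact ⟨b, hb, rfl⟩
        rw [← hQ] at this
        obtain ⟨c, hc, hce⟩ := this
        exact ⟨c, hsub Q hc, hce⟩
      obtain ⟨c, hc, hce⟩ := hle k.2
      exact (K.subtype_injective hce) ▸ hc
    · obtain ⟨hp, -⟩ := normal_two sK (fun e => absurd (e.trans hm'd) (by norm_num)) R h7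
      have hle := LocalStructure.le_pCore hR hp
      set O := (pCore 2 K).map K.subtype
      haveI : O.Normal := by
        haveI : K.Normal := normalClosure_normal
        exact ConjAct.normal_of_characteristic_of_normal
      have hOne : O ≠ ⊥ := fun e => hRbot (le_bot_iff.1 (hle.trans_eq
        ((map_eq_bot_iff_of_injective _ K.subtype_injective).1 e)))
      have h7O := seven_dvd_normal h O hOne
      rw [card_map_of_injective K.subtype_injective] at h7O
      obtain ⟨j, hj⟩ := IsPGroup.iff_card.1 (LocalStructure.isPGroup_pCore (G := K) 2)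
      rw [hj] at h7O
      exact absurd ((Nat.prime_dvd_prime_iff_eq (by norm_num) Nat.prime_two).1
        ((by norm_num : Nat.Prime 7).dvd_of_dvd_pow h7O)) (by norm_num)
  have hna : ¬ IsMulCommutative K := by
    intro hc
    letI : CommGroup K := { (inferInstance : Group K) with mul_comm := fun a b => hc.is_comm.comm a b }
    have hp := IsSimpleGroup.prime_card (α := K)
    rw [hm'] at hp
    have h1 : m' = 1 := by
      rcases hp.eq_one_or_self_of_dvd 7 (dvd_mul_right 7 m') with e | e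
      · omega
      · omega
    have h2 : Nat.card (Sylow 7 K) ∣ Nat.card K := Sylow.card_dvd_index default |>.trans (index_dvd_card _)
    rw [hn288, hm', h1] at h2
    norm_num at h2
  obtain ⟨Q⟩ : Nonempty (Sylow 7 K) := inferInstance
  obtain ⟨k, hk, hN, hn⟩ := normalizer_seven sK Q
  rw [hn288] at hn
  have hk6 : k = 2 ∨ k = 3 ∨ k = 6 := by
    have hm := Nat.mem_divisors.2 ⟨hk, show 6 ≠ 0 by norm_num⟩
    rw [show (6 : ℕ).divisors = {1, 2, 3, 6} by decide] at hm
    simp only [Finset.mem_insert, Finset.mem_singleton] at hm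
    rcases hm with e | e
    · exfalso
      subst e
      have hle : normalizer ((Q : Subgroup K) : Set K) ≤ centralizer ((Q : Subgroup K) : Set K) := by
        rw [centralizer_sylow_seven sK Q]
        exact (eq_of_le_of_card_ge le_normalizer (by rw [hN, card_sylow_seven sK Q])).ge
      have hc := MonoidHom.ker_transferSylow_isComplement' Q hle
      have hc' := hc.card_mul
      rw [card_sylow_seven sK Q, hm'] at hc'
      rcases (MonoidHom.transferSylow Q hle).normal_ker.eq_bot_or_eq_top with e | e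
      · rw [e, card_bot] at hc'; omega
      · rw [e, card_top, hm'] at hc'; omega
    · exact e
  have hcard : Nat.card K = 7 * (288 * k) := by rw [hm', hn]
  refine ⟨K, normalClosure_normal, ?_, ?_⟩
  · rcases hk6 with rfl | rfl | rfl
    · exfalso
      refine SmallSimple.false_of_square_check hna (p := 7) (m := 576) (by rw [hcard]) (by norm_num)
        le_rfl Q (by rw [hN]) k_check
    · exact ⟨hsimple, hcard, fun g => by rw [← orderOf_coe]; exact h9 g,
        fun g => sK.no14 g, fun g => sK.no21 g⟩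
    · exfalso
      letI := Fintype.ofFinite K
      exact false_of_big (G := K) ⟨hcard, sK.no14, sK.no21⟩
  · by_contra hne
    haveI : K.Normal := normalClosure_normal
    have hle := hKmin _ inferInstance hne
    exact hna ⟨⟨fun a b => Subtype.ext ((mem_centralizer_iff.1 (hle b.2) a a.2))⟩⟩

end Ambient

end Cfsg.Agent.G2TwoRecog
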