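import Cfsg.Agent.Lib.G2TwoRecog.Table
import Cfsg.Agent.Lib.G2TwoRecog.Order12096
import Cfsg.Agent.Lib.G2Two.Main
import Cfsg.Agent.Lib.AutPSU.Out
import Cfsg.Agent.Lib.AutPSp.Card
import Cfsg.Agent.S2366

/-!
# Recognition of `G₂(2)` by order and element orders
-/

set_option autoImplicit false
set_option linter.style.haveILetI false
set_option linter.unusedSectionVars false

open Cfsg Cfsg.Agent Subgroup Cfsg.Lie
open scoped Matrix

namespace Cfsg.Agent.G2TwoRecog

universe u v

theorem Hyp.of_equiv {A : Type u} [Group A] {B : Type v} [Group B] (e : A ≃* B) (h : Hyp A) : Hyp B := by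
  haveI := h.simple
  refine ⟨?_, by rw [← Nat.card_congr e.toEquiv, h.card], fun g => ?_, fun g => ?_, fun g => ?_⟩
  · haveI : Nontrivial B := e.symm.toEquiv.nontrivial
    exact IsSimpleGroup.isSimpleGroup_of_surjective e.toMonoidHom e.surjective
  · rw [← e.symm.orderOf_eq]; exact h.no9 _
  · rw [← e.symm.orderOf_eq]; exact h.no14 _
  · rw [← e.symm.orderOf_eq]; exact h.no21 _

/-- The field with nine elements. -/
abbrev F9 : Type := GaloisField 3 2

noncomputable instance : Fintype F9 := Fintype.ofFinite F9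

/-- The model `PSU₃(3)`. -/
abbrev U : Type := Cfsg.PSU 3 F9 3

theorem card_K9 : Fintype.card F9 = 3 ^ 2 := by
  rw [← Nat.card_eq_fintype_card]; exact GaloisField.card 3 2 (by norm_num)

theorem hyp_U : Hyp U := by
  haveI : Fact (Nat.Prime 3) := ⟨Nat.prime_three⟩
  haveI : CharP F9 3 := charP_of_card_eq_prime_pow (f := 2) card_K9
  have hspec := S2366.result (F := F9) 3 (by norm_num) 3 card_K9
  have hno : ∀ k : ℕ, ¬ k ∣ 12 → ¬ k ∣ 8 → ¬ k ∣ 7 → ¬ k ∣ 4 → ∀ g : U, orderOf g ≠ k := by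
    intro k h12 h8 h7 h4 g e
    have hmem : k ∈ Set.range (orderOf : U → ℕ) := ⟨g, e⟩
    rw [hspec] at hmem
    norm_num at hmem
    tauto
  refine ⟨ClassicalSimple.PSU_isSimpleGroup card_K9 (n := 3) le_rfl (by norm_num), ?_,
    hno 9 (by norm_num) (by norm_num) (by norm_num) (by norm_num),
    hno 14 (by norm_num) (by norm_num) (by norm_num) (by norm_num),
    hno 21 (by norm_num) (by norm_num) (by norm_num) (by norm_num)⟩
  rw [← Nat.card_congr (MulEquiv.ofBijective _ (U33.mk_bijective card_K9)).toEquiv, U33.card_G card_K9]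

theorem card_aut_U : Nat.card (MulAut U) = 12096 := by
  haveI : Fact (Nat.Prime 3) := ⟨Nat.prime_three⟩
  rw [AutPSU.card_aut card_K9 le_rfl (by norm_num), AutPSU.card_inndiag card_K9 le_rfl, hyp_U.card,
    AutPSp.card_fieldAut (p := 3) (f := 2) (by norm_num) card_K9]
  norm_num

/-- A group of order 12096 without elements of order 9, 14 or 21 is `Aut PSU₃(3)`. -/
theorem nonempty_mulEquiv_aut {G : Type u} [Group G] [Finite G] (h : Big G)
    (h9 : ∀ g : G, orderOf g ≠ 9) : Nonempty (G ≃* MulAut U) := by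
  letI := Fintype.ofFinite G
  obtain ⟨K, hK, hH, hC⟩ := exists_hyp_normal h h9
  obtain ⟨e⟩ := nonempty_mulEquiv hH hyp_U
  let φ : G →* MulAut U := (MulAut.congr e).toMonoidHom.comp (MulAut.conjNormal (H := K))
  have hφ : Function.Injective φ := by
    refine (MulAut.congr e).injective.comp ?_
    rw [← MonoidHom.ker_eq_bot_iff, eq_bot_iff]
    intro g hg
    rw [← hC, mem_centralizer_iff]
    intro k hk
    have := congrArg Subtype.val (DFunLike.congr_fun (MonoidHom.mem_ker.1 hg) ⟨k, hk⟩)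
    rw [MulAut.conjNormal_apply] at this
    exact (mul_inv_eq_iff_eq_mul.1 this).symm
  haveI : Finite (MulAut U) := Nat.finite_of_card_ne_zero (by rw [card_aut_U]; norm_num)
  exact ⟨MulEquiv.ofBijective φ ((Nat.bijective_iff_injective_and_card φ).2
    ⟨hφ, by rw [h.card, card_aut_U]⟩)⟩

/-! ### The group `G₂(2)` over the field of two elements -/

/-- `G₂(2)`. -/
abbrev M2 : Type := ↥(chevG2.group G2Two.K2)

instance : Finite M2 :=
  haveI : Finite (GL chevG2.Idx G2Two.K2) := Finite.of_injective _ Units.val_injective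
  inferInstance

theorem card_M2 : Nat.card M2 = 12096 := by
  rw [S1059.result (F := G2Two.K2) (q := 2) (ZMod.card 2)]
  norm_num

theorem hyp_derived : Hyp (commutator M2) := by
  obtain ⟨e⟩ := G2Two.psu_equiv (K := G2Two.K2) (L := F9) (ZMod.card 2) card_K9
  exact hyp_U.of_equiv e.symm

theorem index_derived : (commutator M2).index = 2 := by
  have h := card_mul_index (commutator M2)
  rw [hyp_derived.card, card_M2] at h
  omega

/-- The element given by a word in the root elements. -/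
def wordElt (w : List (Fin 12)) : M2 :=
  (w.map fun r => (⟨G2Two.rootUnit r, G2Two.rootUnit_mem r⟩ : M2)).prod

theorem wordElt_coe : ∀ w : List (Fin 12),
    ((wordElt w : GL chevG2.Idx G2Two.K2) : Matrix chevG2.Idx chevG2.Idx G2Two.K2) =
      (w.map G2Two.rootMat).prod
  | [] => rfl
  | r :: w => by
    rw [List.map_cons, List.prod_cons, ← wordElt_coe w]
    rfl

theorem wordElt_append (v w : List (Fin 12)) : wordElt (v ++ w) = wordElt v * wordElt w := by
  simp [wordElt]

theorem wordElt_eq_one {w : List (Fin 12)} (h : ∀ i, G2Two.wordPerm w i = i) : wordElt w = 1 := by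
  refine Subtype.ext (Units.ext ?_)
  rw [wordElt_coe, Subgroup.coe_one, Units.val_one]
  have key : ∀ i, (w.map G2Two.rootMat).prod *ᵥ G2Two.psi i = G2Two.psi i := fun i => by
    rw [G2Two.word_psi, h i]
  have hB : (w.map G2Two.rootMat).prod * G2Two.basisMat = G2Two.basisMat := Matrix.ext fun a b =>
    congrFun (key (Fin.ofNat 63 (G2Two.entry G2Two.Data.basisIdx 8 (G2Two.idxNat b)))) a
  have := congrArg (· * G2Two.basisInvMat) hB
  simpa only [Matrix.mul_assoc, G2Two.basisMat_inv, Matrix.mul_one] using this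

theorem wordElt_ne_one {w : List (Fin 12)} {i : Fin 63} (h : G2Two.wordPerm w i ≠ i) : wordElt w ≠ 1 := by
  intro e
  refine h (G2Two.psi_injective ?_)
  rw [← G2Two.word_psi, ← wordElt_coe, e]
  exact Matrix.one_mulVec _

/-- The word of the element of order seven. -/
def wy : List (Fin 12) := [9, 4, 0]

/-- The word of the inverting involution. -/
def wt : List (Fin 12) := [9]

theorem wy_check : ∀ i, G2Two.wordPerm (wy ++ wy ++ wy ++ wy ++ wy ++ wy ++ wy) i = i := by decide +kernel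

theorem wy_moves : ∃ i, G2Two.wordPerm wy i ≠ i := by decide +kernel

theorem wt_check : ∀ i, G2Two.wordPerm (wt ++ wy ++ wt ++ wy) i = i := by decide +kernel

theorem wt_invol : ∀ i, G2Two.wordPerm (wt ++ wt) i = i := by decide +kernel

theorem exists_inverting_pair : ∃ y t : M2, orderOf y = 7 ∧ t * y * t⁻¹ = y⁻¹ := by
  haveI : Fact (Nat.Prime 7) := ⟨by norm_num⟩
  refine ⟨wordElt wy, wordElt wt, ?_, ?_⟩
  · obtain ⟨i, hi⟩ := wy_moves
    refine orderOf_eq_prime ?_ (wordElt_ne_one hi)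
    have h := wordElt_eq_one wy_check
    simp only [wordElt_append] at h
    simpa [pow_succ] using h
  · have h1 : wordElt wt * wordElt wt = 1 := by rw [← wordElt_append]; exact wordElt_eq_one wt_invol
    have h2 := wordElt_eq_one wt_check
    simp only [wordElt_append] at h2
    rw [inv_eq_of_mul_eq_one_right h1]
    exact eq_inv_of_mul_eq_one_left h2

theorem sq_root_mem {g : M2} {n : ℕ} (hn : g ^ n = 1) (hodd : n % 2 = 1) : g ∈ commutator M2 := by
  have : g = (g ^ (n / 2 + 1)) ^ 2 := by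
    rw [← pow_mul, show (n / 2 + 1) * 2 = n + 1 by omega, pow_succ, hn, one_mul]
  rw [this]
  exact sq_mem_of_index_two index_derived _

/-- No element of the derived group inverts an element of order seven. -/
theorem not_inverted {y s : M2} (hy : orderOf y = 7) (hs : s ∈ commutator M2) (hinv : s * y * s⁻¹ = y⁻¹) :
    False := by
  haveI : Fact (Nat.Prime 7) := ⟨by norm_num⟩
  have hyD : y ∈ commutator M2 := sq_root_mem (n := 7) (hy ▸ pow_orderOf_eq_one y) (by norm_num)
  letI := Fintype.ofFinite (commutator M2)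
  set y' : commutator M2 := ⟨y, hyD⟩
  set s' : commutator M2 := ⟨s, hs⟩
  have hy' : orderOf y' = 7 := by rw [← hy, ← orderOf_coe]
  have hinv' : s' * y' * s'⁻¹ = y'⁻¹ := Subtype.ext hinv
  obtain ⟨Q, hQ⟩ := (IsPGroup.of_card (G := zpowers y') (p := 7) (n := 1)
    (by rw [Nat.card_zpowers, hy', pow_one])).exists_le_sylow
  have hQe : (Q : Subgroup (commutator M2)) = zpowers y' :=
    (eq_of_le_of_card_ge hQ (by rw [card_sylow_seven hyp_derived.seven Q, Nat.card_zpowers, hy'])).symm
  have hsN : s' ∈ normalizer ((Q : Subgroup (commutator M2)) : Set (commutator M2)) := by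
    rw [hQe]
    refine mem_normalizer_iff_map_conj_eq.2 ?_
    rw [MonoidHom.map_zpowers]
    show zpowers (s' * y' * s'⁻¹) = _
    rw [hinv', zpowers_inv]
  have hd := orderOf_dvd_natCard _ hsN
  rw [hyp_derived.card_normalizer Q] at hd
  have key : ∀ k : ℕ, s' ^ (2 * k + 1) * y' * (s' ^ (2 * k + 1))⁻¹ = y'⁻¹ := by
    intro k
    induction k with
    | zero => simpa using hinv'
    | succ k ih =>
      rw [show 2 * (k + 1) + 1 = 1 + (1 + (2 * k + 1)) by ring, pow_add, pow_add, pow_one,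
        show s' * (s' * s' ^ (2 * k + 1)) * y' * (s' * (s' * s' ^ (2 * k + 1)))⁻¹ =
          s' * (s' * (s' ^ (2 * k + 1) * y' * (s' ^ (2 * k + 1))⁻¹) * s'⁻¹) * s'⁻¹ by group, ih,
        show s' * y'⁻¹ * s'⁻¹ = (s' * y' * s'⁻¹)⁻¹ by group, hinv', inv_inv, hinv']
  have h21 := key 10
  rw [show 2 * 10 + 1 = 21 from rfl, orderOf_dvd_iff_pow_eq_one.1 hd, one_mul, inv_one, mul_one] at h21
  have h2 : y' ^ 2 = 1 := by rw [pow_two]; nth_rewrite 1 [h21]; exact inv_mul_cancel _
  have := orderOf_dvd_of_pow_eq_one h2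
  rw [hy'] at this
  norm_num at this

theorem no14_M2 : ∀ g : M2, orderOf g ≠ 14 := by
  intro g hg
  haveI : Fact (Nat.Prime 7) := ⟨by norm_num⟩
  obtain ⟨y, t, hy, hinv⟩ := exists_inverting_pair
  have hg2 : orderOf (g ^ 2) = 7 := by
    rw [orderOf_pow_of_dvd (by norm_num) (by rw [hg]; norm_num), hg]
  -- conjugate `⟨g²⟩` to `⟨y⟩`
  have hfac : (Nat.card M2).factorization 7 = 1 := by
    rw [card_M2, show (12096 : ℕ) = 7 * 1728 from rfl, Nat.factorization_mul (by norm_num) (by norm_num),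
      Finsupp.add_apply, Nat.Prime.factorization_self (by norm_num),
      Nat.factorization_eq_zero_of_not_dvd (n := 1728) (by norm_num)]
  let A : Sylow 7 M2 := Sylow.ofCard (zpowers (g ^ 2)) (by rw [Nat.card_zpowers, hg2, hfac, pow_one])
  let B : Sylow 7 M2 := Sylow.ofCard (zpowers y) (by rw [Nat.card_zpowers, hy, hfac, pow_one])
  obtain ⟨r, hr⟩ := MulAction.exists_smul_eq M2 A B
  have hmem : y ∈ ((r • A : Sylow 7 M2) : Subgroup M2) := by rw [hr]; exact mem_zpowers y
  rw [Sylow.coe_subgroup_smul] at hmem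
  obtain ⟨b, hb, hby⟩ := hmem
  obtain ⟨i, rfl⟩ := mem_zpowers_iff.1 hb
  set c := r * g ^ 7 * r⁻¹ with hc
  have hby' : r * (g ^ 2) ^ i * r⁻¹ = y := hby
  have hcy : Commute c y := by
    rw [hc, ← hby']
    exact (((Commute.refl g).pow_pow 7 2).zpow_right i).map (MulAut.conj r).toMonoidHom
  have hcc : c ∉ commutator M2 := by
    intro hm
    have hm' : g ^ 7 ∈ commutator M2 := by
      have := (inferInstance : (commutator M2).Normal).conj_mem c hm r⁻¹
      rwa [hc, show r⁻¹ * (r * g ^ 7 * r⁻¹) * r⁻¹⁻¹ = g ^ 7 by group] at this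
    have hgm : g ∈ commutator M2 := by
      have h1 := mul_mem hm' (inv_mem (pow_mem (sq_mem_of_index_two index_derived g) 3))
      rwa [← pow_mul, show g ^ 7 * (g ^ (2 * 3))⁻¹ = g by group] at h1
    exact hyp_derived.no14 ⟨g, hgm⟩ (by rw [← hg, ← orderOf_coe])
  have htD : t ∉ commutator M2 := fun hm => not_inverted hy hm hinv
  refine not_inverted hy ((mul_mem_iff_of_index_two index_derived).2 (iff_of_false htD hcc) :
    t * c ∈ commutator M2) ?_
  rw [show t * c * y * (t * c)⁻¹ = t * (c * y * c⁻¹) * t⁻¹ by group, hcy.eq, mul_inv_cancel_right, hinv]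

theorem big_M2 : Big M2 := ⟨card_M2, no14_M2, fun g e =>
  hyp_derived.no21 ⟨g, sq_root_mem (n := 21) (orderOf_dvd_iff_pow_eq_one.1 e.dvd) (by norm_num)⟩
    ((orderOf_mk g _).trans e)⟩

theorem no9_M2 : ∀ g : M2, orderOf g ≠ 9 := fun g e =>
  hyp_derived.no9 ⟨g, sq_root_mem (n := 9) (orderOf_dvd_iff_pow_eq_one.1 e.dvd) (by norm_num)⟩
    ((orderOf_mk g _).trans e)

/-- Recognition. -/
theorem recognition {G : Type u} [Group G] [Finite G] {F : Type v} [Field F] [Fintype F]
    (hF : Fintype.card F = 2) :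
    Nonempty (G ≃* ↥(chevG2.group F)) ↔
      (Set.range (orderOf : G → ℕ) = Set.range (orderOf : ↥(chevG2.group F) → ℕ) ∧
        Nat.card G = Nat.card ↥(chevG2.group F)) := by
  haveI : CharP F 2 := charP_of_card_eq_prime hF
  have hbij : Function.Bijective (ZMod.castHom (dvd_refl 2) F : G2Two.K2 →+* F) :=
    (Fintype.bijective_iff_injective_and_card _).2
      ⟨(ZMod.castHom (dvd_refl 2) F).injective, by rw [ZMod.card, hF]⟩
  let E : M2 ≃* chevG2.group F := G2Four.groupEquiv (RingEquiv.ofBijective _ hbij)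
  constructor
  · rintro ⟨e⟩
    refine ⟨Set.ext fun k => ⟨?_, ?_⟩, Nat.card_congr e.toEquiv⟩
    · rintro ⟨g, rfl⟩; exact ⟨e g, e.orderOf_eq g⟩
    · rintro ⟨g, rfl⟩; exact ⟨e.symm g, e.symm.orderOf_eq g⟩
  · rintro ⟨hrange, hcard⟩
    have hne : ∀ k : ℕ, (∀ g : M2, orderOf g ≠ k) → ∀ g : G, orderOf g ≠ k := fun k hk g e => by
      obtain ⟨x, hx⟩ := (hrange ▸ ⟨g, e⟩ : k ∈ Set.range (orderOf : ↥(chevG2.group F) → ℕ))
      exact hk (E.symm x) ((E.symm.orderOf_eq x).trans hx)
    obtain ⟨a⟩ := nonempty_mulEquiv_aut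
      (⟨by rw [hcard, ← Nat.card_congr E.toEquiv, card_M2], hne 14 big_M2.no14, hne 21 big_M2.no21⟩ : Big G)
      (hne 9 no9_M2)
    obtain ⟨b⟩ := nonempty_mulEquiv_aut big_M2 no9_M2
    exact ⟨(a.trans b.symm).trans E⟩

end Cfsg.Agent.G2TwoRecog
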