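import Cfsg.Agent.Lib.G2TwoRecog.SylowThree
import Cfsg.Agent.Lib.Char.PermChar

/-!
# The action on the 28 Sylow 3-subgroups
-/

set_option autoImplicit false
set_option linter.style.haveILetI false
set_option linter.unusedSectionVars false

open scoped ComplexConjugate
open Cfsg Cfsg.Agent Subgroup MulAction

namespace Cfsg.Agent.G2TwoRecog

universe u v

/-- The permutation character of a doubly transitive action, minus one, is irreducible. -/
theorem isIrrCharacter_fixedBy_sub {G : Type u} [Group G] [Fintype G] {X : Type v} [MulAction G X]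
    [Finite X] (h1 : ∀ a b : X, ∃ g : G, g • a = b)
    (h2 : ∀ a b c d : X, a ≠ b → c ≠ d → ∃ g : G, g • a = c ∧ g • b = d) (hne : ∃ a b : X, a ≠ b) :
    IsIrrCharacter G (fun g => (Nat.card (fixedBy X g) : ℂ) - 1) := by
  classical
  obtain ⟨a, b, hab⟩ := hne
  set F : G → ℂ := fun g => (Nat.card (fixedBy X g) : ℂ) with hFdef
  have hF : IsCharacter G F := Char.isCharacter_fixedBy X
  have ho1 : Nat.card (Quotient (orbitRel G X)) = 1 := by
    rw [Nat.card_eq_one_iff_unique]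
    refine ⟨⟨fun p q => ?_⟩, ⟨Quotient.mk _ a⟩⟩
    induction p using Quotient.inductionOn with
    | _ x =>
      induction q using Quotient.inductionOn with
      | _ y => exact Quotient.sound (h1 y x)
  have ho2 : Nat.card (Quotient (orbitRel G (X × X))) = 2 := by
    let f : Quotient (orbitRel G (X × X)) → Bool := Quotient.lift (fun p => decide (p.1 = p.2))
      (by
        rintro p q ⟨g, hg⟩
        subst hg
        simp only [Prod.smul_fst, Prod.smul_snd, smul_left_cancel_iff])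
    rw [Nat.card_eq_of_bijective f ⟨?_, ?_⟩, Nat.card_eq_fintype_card, Fintype.card_bool]
    · intro p q
      induction p using Quotient.inductionOn with
      | _ p =>
        induction q using Quotient.inductionOn with
        | _ q =>
          intro he
          have he' : decide (p.1 = p.2) = decide (q.1 = q.2) := he
          refine Quotient.sound ?_
          by_cases hp : p.1 = p.2
          · have hq : q.1 = q.2 := by simpa [hp] using he'
            obtain ⟨g, hg⟩ := h1 q.1 p.1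
            exact ⟨g, Prod.ext hg (by rw [Prod.smul_snd, ← hq, hg, hp])⟩
          · have hq : q.1 ≠ q.2 := fun e => by simp [hp, e] at he'
            obtain ⟨g, hg1, hg2⟩ := h2 q.1 q.2 p.1 p.2 hq hp
            exact ⟨g, Prod.ext hg1 hg2⟩
    · rintro (_ | _)
      · exact ⟨Quotient.mk _ (a, b), decide_eq_false hab⟩
      · exact ⟨Quotient.mk _ (a, a), decide_eq_true rfl⟩
  have hone : (fun _ : G => (1 : ℂ)) = (Char.trivialChar G).1 := rfl
  have hc1 : classInner F (fun _ : G => (1 : ℂ)) = 1 := by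
    rw [hFdef, Char.classInner_fixedBy_one, ho1, Nat.cast_one]
  have hcc : classInner F F = 2 := by
    rw [hFdef, Char.classInner_fixedBy_self, ho2]; norm_num
  have hsub : (fun g => (Nat.card (fixedBy X g) : ℂ) - 1) = F - fun _ => (1 : ℂ) := rfl
  rw [hsub]
  have hcl : IsClassFunction G (F - fun _ => (1 : ℂ)) := fun g x => by
    simp only [Pi.sub_apply, Char.IsCharacter.isClassFunction hF g x]
  refine Char.isIrrCharacter_iff.2 ⟨Char.isCharacter_iff.2 ⟨hcl, fun ψ => ?_⟩, ?_⟩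
  · obtain ⟨m, hm⟩ := Char.IsCharacter.exists_nat_classInner hF (Char.irr_isCharacter ψ)
    rw [Char.classInner_sub_left, hm]
    by_cases hψ : ψ = Char.trivialChar G
    · subst hψ
      refine ⟨0, ?_⟩
      rw [← hm, ← hone, hc1, Char.classInner_irr_self Char.isIrrCharacter_one, sub_self,
        Nat.cast_zero]
    · refine ⟨m, ?_⟩
      rw [hone, Char.classInner_irr, if_neg (Ne.symm hψ), sub_zero]
  · have h11 : classInner (fun _ : G => (1 : ℂ)) (fun _ => 1) = 1 :=
      Char.classInner_irr_self Char.isIrrCharacter_one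
    simp only [classInner] at hc1 hcc h11 ⊢
    simp only [Pi.sub_apply, hFdef, map_sub, map_natCast, map_one, mul_one] at hc1 hcc h11 ⊢
    simp only [sub_mul, mul_sub, one_mul, mul_one, Finset.sum_sub_distrib]
    linear_combination hcc - 2 * hc1 + h11

variable {S : Type u} [Group S] [Fintype S] [Fact (Nat.Prime 3)]

theorem card_sylow_three_eq (h : Hyp S) (P : Sylow 3 S) : Nat.card (P : Subgroup S) = 27 := by
  rw [P.card_eq_multiplicity, h.card, show (6048 : ℕ) = 3 ^ 3 * 224 by norm_num,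
    Nat.factorization_mul (by norm_num) (by norm_num), Finsupp.add_apply,
    Nat.Prime.factorization_pow (by norm_num), Finsupp.single_eq_same,
    Nat.factorization_eq_zero_of_not_dvd (n := 224) (by norm_num)]
  norm_num

theorem card_normalizer_three (h : Hyp S) (P : Sylow 3 S) :
    Nat.card (normalizer ((P : Subgroup S) : Set S)) = 216 := by
  have h1 := SmallSimple.card_sylow_mul_card_normalizer P
  rw [card_sylow_three h, h.card] at h1
  omega

/-- A Sylow 3-subgroup acts freely on the other ones. -/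
theorem eq_one_of_smul_eq (h : Hyp S) {P Q : Sylow 3 S} (hne : Q ≠ P) {p : S}
    (hp : p ∈ (P : Subgroup S)) (hpQ : p • Q = Q) : p = 1 := by
  have hzp : zpowers p ≤ normalizer (Q : Set S) :=
    zpowers_le.2 (Sylow.smul_eq_iff_mem_normalizer.1 hpQ)
  have hpg : IsPGroup 3 (zpowers p) := P.2.to_le (zpowers_le.2 hp)
  have h1 : zpowers p ≤ zpowers p ⊓ normalizer (Q : Set S) := le_inf le_rfl hzp
  rw [hpg.inf_normalizer_sylow Q] at h1
  have h2 : p ∈ (P : Subgroup S) ⊓ (Q : Subgroup S) := ⟨hp, (h1 (mem_zpowers p)).2⟩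
  rw [inf_eq_bot h (card_sylow_three_eq h P) (card_sylow_three_eq h Q)
    fun e => hne (Sylow.ext e).symm] at h2
  exact mem_bot.1 h2

theorem smul_self_of_mem {P : Sylow 3 S} {p : S} (hp : p ∈ (P : Subgroup S)) : p • P = P :=
  Sylow.smul_eq_iff_mem_normalizer.2 (le_normalizer hp)

/-- A Sylow 3-subgroup is transitive on the other ones. -/
theorem exists_mem_smul_eq (h : Hyp S) {P Q R : Sylow 3 S} (hQ : Q ≠ P) (hR : R ≠ P) :
    ∃ p ∈ (P : Subgroup S), p • Q = R := by
  let f : ↥(P : Subgroup S) → {R : Sylow 3 S // R ≠ P} := fun p =>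
    ⟨(p : S) • Q, fun e => hQ (smul_left_cancel (p : S) (e.trans (smul_self_of_mem p.2).symm))⟩
  have hf : Function.Injective f := by
    intro p q he
    have he' : (p : S) • Q = (q : S) • Q := congrArg Subtype.val he
    have := eq_one_of_smul_eq h hQ (mul_mem (inv_mem q.2) p.2) (by
      rw [mul_smul, he', inv_smul_smul])
    exact Subtype.ext (inv_mul_eq_one.1 this).symm
  have hcard : Nat.card {R : Sylow 3 S // R ≠ P} = Nat.card (P : Subgroup S) := by
    haveI := Fintype.ofFinite (Sylow 3 S)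
    classical
    rw [card_sylow_three_eq h P, Nat.card_eq_fintype_card, Fintype.card_subtype_compl,
      ← Nat.card_eq_fintype_card, card_sylow_three h, Fintype.card_subtype_eq]
  obtain ⟨p, hp⟩ := ((Nat.bijective_iff_injective_and_card f).2 ⟨hf, hcard.symm⟩).2 ⟨R, hR⟩
  exact ⟨p, p.2, congrArg Subtype.val hp⟩

/-- Double transitivity on the Sylow 3-subgroups. -/
theorem exists_smul_pair (h : Hyp S) {A B C D : Sylow 3 S} (hAB : A ≠ B) (hCD : C ≠ D) :
    ∃ s : S, s • A = C ∧ s • B = D := by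
  obtain ⟨r, hr⟩ := MulAction.exists_smul_eq S A C
  have hne : r • B ≠ C := fun e => hAB (smul_left_cancel r (hr.trans e.symm))
  obtain ⟨p, hp, hpB⟩ := exists_mem_smul_eq h hne hCD.symm
  exact ⟨p * r, by rw [mul_smul, hr, smul_self_of_mem hp], by rw [mul_smul, hpB]⟩

/-- An involution fixes 4 or 16 Sylow 3-subgroups. -/
theorem card_fixedBy_invol (h : Hyp S) {t : S} (ht : orderOf t = 2) :
    Nat.card (fixedBy (Sylow 3 S) t) = 4 ∨ Nat.card (fixedBy (Sylow 3 S) t) = 16 := by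
  obtain ⟨y, hy, ⟨C⟩⟩ := exists_chars h
  have hne : ∃ a b : Sylow 3 S, a ≠ b := by
    haveI : Nontrivial (Sylow 3 S) := Finite.one_lt_card_iff_nontrivial.1 (by rw [card_sylow_three h]; norm_num)
    exact exists_pair_ne _
  let χ : IrrCharacter S := ⟨_, isIrrCharacter_fixedBy_sub (MulAction.exists_smul_eq S)
    (fun _ _ _ _ => exists_smul_pair h) hne⟩
  have hd : Char.degree χ = 27 := by
    apply Nat.cast_injective (R := ℂ)
    rw [← Char.apply_one_eq_degree]
    show (Nat.card (fixedBy (Sylow 3 S) (1 : S)) : ℂ) - 1 = _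
    rw [fixedBy_one_eq_univ, Nat.card_congr (Equiv.Set.univ _), card_sylow_three h]
    norm_num
  have hy0 : Nat.card (fixedBy (Sylow 3 S) y) = 0 := by
    rw [Nat.card_eq_zero]
    left
    refine ⟨fun ⟨Q, hQ⟩ => ?_⟩
    have := orderOf_dvd_natCard _ (Sylow.smul_eq_iff_mem_normalizer.1 hQ)
    rw [hy, show Nat.card (normalizer (Q : Set S)) = 216 from card_normalizer_three h Q] at this
    norm_num at this
  have hy' : χ.1 y ≠ 0 := by
    show (Nat.card (fixedBy (Sylow 3 S) y) : ℂ) - 1 ≠ 0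
    rw [hy0]; norm_num
  have htw := C.uniq χ hd hy'
  have hval : (Nat.card (fixedBy (Sylow 3 S) t) : ℂ) - 1 = C.tw.1 t :=
    congrArg (fun ψ : IrrCharacter S => ψ.1 t) htw
  rcases C.tw_invol h hy ht with e | e <;> rw [e, sub_eq_iff_eq_add] at hval
  · left
    exact_mod_cast (show (Nat.card (fixedBy (Sylow 3 S) t) : ℂ) = 4 by rw [hval]; norm_num)
  · right
    exact_mod_cast (show (Nat.card (fixedBy (Sylow 3 S) t) : ℂ) = 16 by rw [hval]; norm_num)

theorem cube_eq_one (h : Hyp S) {P : Sylow 3 S} {p : S} (hp : p ∈ (P : Subgroup S)) : p ^ 3 = 1 := by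
  by_cases h1 : p = 1
  · rw [h1, one_pow]
  · rw [← orderOf_three h (card_sylow_three_eq h P) hp h1]; exact pow_orderOf_eq_one p

section Local

variable (h : Hyp S) {y : S} (C : Chars S y) {P : Sylow 3 S} {z : S}
  (hz : z ∈ (P : Subgroup S)) (hzs : Special C z)

include h hz hzs

theorem z_comm {p : S} (hp : p ∈ (P : Subgroup S)) : p * z = z * p :=
  special_comm h C (card_sylow_three_eq h P) hz hzs hp

theorem Zcomm {p c : S} (hp : p ∈ (P : Subgroup S)) (hc : c ∈ zpowers z) : Commute p c := by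
  obtain ⟨i, rfl⟩ := mem_zpowers_iff.1 hc
  exact (show Commute p z from z_comm h C hz hzs hp).zpow_right i

theorem nonspecial {x : S} (hx : x ∈ (P : Subgroup S)) (hxz : x ∉ zpowers z) :
    x ≠ 1 ∧ ¬ Special C x :=
  ⟨fun e => hxz (e ▸ one_mem _),
    fun hs => hxz (special_mem_zpowers h C (card_sylow_three_eq h P) hz hzs hx hs)⟩

theorem card_cent {x : S} (hx : x ∈ (P : Subgroup S)) (hxz : x ∉ zpowers z) :
    Nat.card (centralizer ({x} : Set S)) = 9 ∧ centralizer ({x} : Set S) ≤ P :=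
  centralizer_nonspecial h C (card_sylow_three_eq h P) hx (nonspecial h C hz hzs hx hxz).1
    (nonspecial h C hz hzs hx hxz).2

theorem zpowers_le_P : zpowers z ≤ (P : Subgroup S) := zpowers_le.2 hz

theorem exists_not_mem : ∃ x ∈ (P : Subgroup S), x ∉ zpowers z := by
  by_contra! hall
  have := card_le_of_le (K := zpowers z) hall
  rw [card_sylow_three_eq h P, Nat.card_zpowers, hzs.1] at this
  omega

/-- `P` is abelian modulo `⟨z⟩`. -/
theorem comm_mem {a b : S} (ha : a ∈ (P : Subgroup S)) (hb : b ∈ (P : Subgroup S)) :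
    a⁻¹ * b⁻¹ * a * b ∈ zpowers z := by
  haveI : ((zpowers z).subgroupOf (P : Subgroup S)).Normal := ⟨fun c hc q => by
    rw [mem_subgroupOf] at hc ⊢
    push_cast
    rw [(Zcomm h C hz hzs q.2 hc).eq, mul_inv_cancel_right]
    exact hc⟩
  have hQ : Nat.card ((P : Subgroup S) ⧸ (zpowers z).subgroupOf (P : Subgroup S)) = 3 ^ 2 := by
    have := card_eq_card_quotient_mul_card_subgroup ((zpowers z).subgroupOf (P : Subgroup S))
    rw [card_sylow_three_eq h P,
      Nat.card_congr (subgroupOfEquivOfLe (zpowers_le_P h C hz hzs)).toEquiv,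
      Nat.card_zpowers, hzs.1] at this
    omega
  have hc := IsPGroup.commutative_of_card_eq_prime_sq hQ
    (QuotientGroup.mk (⟨b, hb⟩ : (P : Subgroup S))) (QuotientGroup.mk (⟨a, ha⟩ : (P : Subgroup S)))
  rw [← QuotientGroup.mk_mul, ← QuotientGroup.mk_mul, QuotientGroup.eq, mem_subgroupOf] at hc
  push_cast at hc
  simpa [mul_assoc] using hc

theorem sq_mem {x : S} (hx : x ∈ (P : Subgroup S)) (hx2 : x * x ∈ zpowers z) : x ∈ zpowers z := by
  have : x = (x * x)⁻¹ := eq_inv_of_mul_eq_one_left (by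
    rw [← cube_eq_one h hx]; simp [pow_succ, mul_assoc])
  rw [this]; exact inv_mem hx2

theorem conj_mem_P {b x : S} (hb : b ∈ normalizer ((P : Subgroup S) : Set S))
    (hx : x ∈ (P : Subgroup S)) : b * x * b⁻¹ ∈ (P : Subgroup S) :=
  (mem_normalizer_iff.1 hb x).1 hx

theorem conj_z {b : S} (hb : b ∈ normalizer ((P : Subgroup S) : Set S)) :
    b * z * b⁻¹ = z ∨ b * z * b⁻¹ = z⁻¹ := by
  obtain ⟨a, -, -, hall⟩ := exists_special h C (card_sylow_three_eq h P)
  rcases hall z hz hzs with e | e <;>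
    rcases hall _ (conj_mem_P h C hz hzs hb hz) (hzs.conj b) with e' | e'
  · exact Or.inl (by rw [e', e])
  · exact Or.inr (by rw [e', e])
  · exact Or.inr (by rw [e', e, inv_inv])
  · exact Or.inl (by rw [e', e])

theorem conj_mem_Z {b c : S} (hb : b ∈ normalizer ((P : Subgroup S) : Set S))
    (hc : c ∈ zpowers z) : b * c * b⁻¹ ∈ zpowers z := by
  obtain ⟨i, rfl⟩ := mem_zpowers_iff.1 hc
  rw [show b * z ^ i * b⁻¹ = (b * z * b⁻¹) ^ i from (map_zpow (MulAut.conj b) z i)]
  rcases conj_z h C hz hzs hb with e | e <;> rw [e]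
  · exact zpow_mem_zpowers z i
  · exact zpow_mem (inv_mem (mem_zpowers z)) i

/-- An involution of the normaliser does not fix a coset of `⟨z⟩` other than `⟨z⟩`. -/
theorem invol_no_fixed {v x : S} (hv : v ∈ normalizer ((P : Subgroup S) : Set S)) (hv2 : orderOf v = 2)
    (hx : x ∈ (P : Subgroup S)) (hxz : x ∉ zpowers z) : x⁻¹ * (v * x * v⁻¹) ∉ zpowers z := by
  intro hc
  set c := x⁻¹ * (v * x * v⁻¹) with hcdef
  have hvx : v * x * v⁻¹ = x * c := by rw [hcdef, mul_inv_cancel_left]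
  have hfix : ∀ x' ∈ (P : Subgroup S), x' ∉ zpowers z → v * x' * v⁻¹ ≠ x' := by
    intro x' hx' hxz' e
    have hvP := (card_cent h C hz hzs hx' hxz').2
      (mem_centralizer_singleton_iff.2 (mul_inv_eq_iff_eq_mul.1 e))
    have hd := orderOf_dvd_natCard _ hvP
    rw [hv2, card_sylow_three_eq h P] at hd
    norm_num at hd
  have hc3 : c ^ 3 = 1 := cube_eq_one h (zpowers_le_P h C hz hzs hc)
  have hvv : v * v = 1 := by rw [← pow_two, ← hv2, pow_orderOf_eq_one]
  have hvc : v * c * v⁻¹ = c ∨ v * c * v⁻¹ = c⁻¹ := by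
    obtain ⟨i, hi⟩ := mem_zpowers_iff.1 hc
    rcases conj_z h C hz hzs hv with e | e
    · left; rw [← hi, show v * z ^ i * v⁻¹ = (v * z * v⁻¹) ^ i from map_zpow (MulAut.conj v) z i, e]
    · right
      rw [← hi, show v * z ^ i * v⁻¹ = (v * z * v⁻¹) ^ i from map_zpow (MulAut.conj v) z i, e, inv_zpow]
  have hsq : c * (v * c * v⁻¹) = 1 := by
    have h1 : v * (v * x * v⁻¹) * v⁻¹ = x := by
      rw [show v * (v * x * v⁻¹) * v⁻¹ = (v * v) * x * (v * v)⁻¹ by group, hvv]; group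
    rw [hvx, show v * (x * c) * v⁻¹ = (v * x * v⁻¹) * (v * c * v⁻¹) by group, hvx, mul_assoc] at h1
    exact mul_eq_left.1 h1
  rcases hvc with e | e
  · rw [e] at hsq
    have hc1 : c = 1 := by
      have : c ^ 3 = c * (c * c) := by simp [pow_succ, mul_assoc]
      rw [this, hsq, mul_one] at hc3; exact hc3
    exact hfix x hx hxz (by rw [hvx, hc1, mul_one])
  · refine hfix (x * (c * c)) (mul_mem hx (zpowers_le_P h C hz hzs (mul_mem hc hc)))
      (fun hm => hxz (by simpa only [mul_inv_cancel_right] using mul_mem hm (inv_mem (mul_mem hc hc)))) ?_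
    rw [show v * (x * (c * c)) * v⁻¹ = (v * x * v⁻¹) * ((v * c * v⁻¹) * (v * c * v⁻¹)) by group,
      hvx, e, show x * c * (c⁻¹ * c⁻¹) = x * (c ^ 3 * c⁻¹) * (c ^ 3)⁻¹ * (c * c) * (c⁻¹ * c⁻¹) by group,
      hc3]
    calc x * (1 * c⁻¹) * 1⁻¹ * (c * c) * (c⁻¹ * c⁻¹) = x * c⁻¹ := by group
      _ = x * (c ^ 3 * c⁻¹) := by rw [hc3, one_mul]
      _ = x * (c * c) := by simp [pow_succ, mul_assoc]

/-- An involution of the normaliser inverts `P` modulo `⟨z⟩`. -/
theorem invol_inverts {v x : S} (hv : v ∈ normalizer ((P : Subgroup S) : Set S)) (hv2 : orderOf v = 2)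
    (hx : x ∈ (P : Subgroup S)) : v * x * v⁻¹ * x ∈ zpowers z := by
  by_contra hw
  set a := v * x * v⁻¹ with ha
  have haP : a ∈ (P : Subgroup S) := conj_mem_P h C hz hzs hv hx
  refine invol_no_fixed h C hz hzs hv hv2 (mul_mem haP hx) hw ?_
  have hva : v * a * v⁻¹ = x := by
    have hvv : v * v = 1 := by rw [← pow_two, ← hv2, pow_orderOf_eq_one]
    rw [ha, show v * (v * x * v⁻¹) * v⁻¹ = (v * v) * x * (v * v)⁻¹ by group, hvv]; group
  rw [show v * (a * x) * v⁻¹ = (v * a * v⁻¹) * a by rw [ha]; group, hva,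
    show (a * x)⁻¹ * (x * a) = x⁻¹ * a⁻¹ * x * a by group]
  exact comm_mem h C hz hzs hx haP

/-- `P` is not abelian, so two elements have a commutator generating `⟨z⟩`. -/
theorem exists_comm_ne {x : S} (hx : x ∈ (P : Subgroup S)) (hxz : x ∉ zpowers z) :
    ∃ b ∈ (P : Subgroup S), x⁻¹ * b⁻¹ * x * b ≠ 1 := by
  by_contra! hall
  have hle : (P : Subgroup S) ≤ centralizer ({x} : Set S) := fun b hb => by
    rw [mem_centralizer_singleton_iff]
    calc b * x = b * x * (x⁻¹ * b⁻¹ * x * b) := by rw [hall b hb, mul_one]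
      _ = x * b := by group
  have := card_le_of_le hle
  rw [card_sylow_three_eq h P, (card_cent h C hz hzs hx hxz).1] at this
  omega

/-- Commutators are unchanged by a map which inverts modulo `⟨z⟩`. -/
theorem comm_inv {a b c d : S} (ha : a ∈ (P : Subgroup S)) (hb : b ∈ (P : Subgroup S))
    (hc : c ∈ zpowers z) (hd : d ∈ zpowers z) :
    (a⁻¹ * c)⁻¹ * (b⁻¹ * d)⁻¹ * (a⁻¹ * c) * (b⁻¹ * d) = a⁻¹ * b⁻¹ * a * b := by
  have hcP := zpowers_le_P h C hz hzs hc
  have c1 : ∀ p ∈ (P : Subgroup S), c * p = p * c := fun p hp => (Zcomm h C hz hzs hp hc).eq.symm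
  have d1 : ∀ p ∈ (P : Subgroup S), d * p = p * d := fun p hp => (Zcomm h C hz hzs hp hd).eq.symm
  have key : (a⁻¹ * c)⁻¹ * (b⁻¹ * d)⁻¹ * (a⁻¹ * c) * (b⁻¹ * d) = a * b * a⁻¹ * b⁻¹ := by
    calc _ = c⁻¹ * (a * d⁻¹) * b * a⁻¹ * c * b⁻¹ * d := by group
      _ = c⁻¹ * (d⁻¹ * a) * b * a⁻¹ * c * b⁻¹ * d := by
          rw [(Zcomm h C hz hzs ha (inv_mem hd)).eq]
      _ = c⁻¹ * d⁻¹ * (a * b * a⁻¹) * (c * b⁻¹) * d := by group
      _ = c⁻¹ * d⁻¹ * (a * b * a⁻¹) * (b⁻¹ * c) * d := by rw [c1 _ (inv_mem hb)]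
      _ = c⁻¹ * d⁻¹ * ((a * b * a⁻¹ * b⁻¹) * (c * d)) := by group
      _ = c⁻¹ * d⁻¹ * ((c * d) * (a * b * a⁻¹ * b⁻¹)) := by
          rw [(Zcomm h C hz hzs (mul_mem (mul_mem (mul_mem ha hb) (inv_mem ha)) (inv_mem hb))
            (mul_mem hc hd)).eq]
      _ = c⁻¹ * (d⁻¹ * c) * d * (a * b * a⁻¹ * b⁻¹) := by group
      _ = c⁻¹ * (c * d⁻¹) * d * (a * b * a⁻¹ * b⁻¹) := by rw [c1 _ (inv_mem (zpowers_le_P h C hz hzs hd))]
      _ = _ := by group
  rw [key]
  have h1 := (Zcomm h C hz hzs (mul_mem ha hb) (comm_mem h C hz hzs ha hb)).eq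
  calc a * b * a⁻¹ * b⁻¹ = a * b * (a⁻¹ * b⁻¹ * a * b) * (a * b)⁻¹ * 1 := by group
    _ = _ := by rw [h1]; group

/-- An involution of the normaliser centralises `z`. -/
theorem invol_comm {v : S} (hv : v ∈ normalizer ((P : Subgroup S) : Set S)) (hv2 : orderOf v = 2) :
    v * z * v⁻¹ = z := by
  obtain ⟨x, hx, hxz⟩ := exists_not_mem h C hz hzs
  obtain ⟨b, hb, hne⟩ := exists_comm_ne h C hz hzs hx hxz
  set c := x⁻¹ * b⁻¹ * x * b with hc
  have hcz : c ∈ zpowers z := comm_mem h C hz hzs hx hb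
  have e1 : v * x * v⁻¹ = x⁻¹ * (x * (v * x * v⁻¹)) := (inv_mul_cancel_left _ _).symm
  have e2 : v * b * v⁻¹ = b⁻¹ * (b * (v * b * v⁻¹)) := (inv_mul_cancel_left _ _).symm
  have hm : ∀ p ∈ (P : Subgroup S), p * (v * p * v⁻¹) ∈ zpowers z := fun p hp => by
    have h1 := invol_inverts h C hz hzs hv hv2 hp
    have h2 : p * (v * p * v⁻¹) = (v * p * v⁻¹ * p) * ((v * p * v⁻¹ * p)⁻¹ * (p * (v * p * v⁻¹))) := by group
    rw [h2]
    refine mul_mem h1 ?_
    rw [show (v * p * v⁻¹ * p)⁻¹ * (p * (v * p * v⁻¹)) = p⁻¹ * (v * p * v⁻¹)⁻¹ * p * (v * p * v⁻¹) by group]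
    exact comm_mem h C hz hzs hp (conj_mem_P h C hz hzs hv hp)
  have hvc : v * c * v⁻¹ = c := by
    rw [hc, show v * (x⁻¹ * b⁻¹ * x * b) * v⁻¹ =
      (v * x * v⁻¹)⁻¹ * (v * b * v⁻¹)⁻¹ * (v * x * v⁻¹) * (v * b * v⁻¹) by group, e1, e2]
    exact comm_inv h C hz hzs hx hb (hm x hx) (hm b hb)
  rcases conj_z h C hz hzs hv with e | e
  · exact e
  exfalso
  obtain ⟨i, hi⟩ := mem_zpowers_iff.1 hcz
  rw [← hi, show v * z ^ i * v⁻¹ = (v * z * v⁻¹) ^ i from map_zpow (MulAut.conj v) z i, e, inv_zpow,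
    hi] at hvc
  have h3 : c ^ 3 = 1 := cube_eq_one h (zpowers_le_P h C hz hzs hcz)
  refine hne ?_
  calc c = c ^ 3 * (c * c)⁻¹ := by group
    _ = 1 * (c * c⁻¹)⁻¹ := by rw [h3, hvc]
    _ = 1 := by group

/-- An involution of the normaliser fixing a second point fixes exactly its translates by `⟨z⟩`. -/
theorem fixed_of_invol {v : S} (hv : v ∈ normalizer ((P : Subgroup S) : Set S)) (hv2 : orderOf v = 2)
    {Q : Sylow 3 S} (hQ : Q ≠ P) (hvQ : v • Q = Q) {p : S} (hp : p ∈ (P : Subgroup S)) :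
    v • p • Q = p • Q ↔ p ∈ zpowers z := by
  constructor
  · intro e
    by_contra hpz
    have hq : v * p * v⁻¹ ∈ (P : Subgroup S) := conj_mem_P h C hz hzs hv hp
    have h1 : (p⁻¹ * (v * p * v⁻¹)) • Q = Q := by
      have hv' : v⁻¹ • Q = Q := by rw [inv_smul_eq_iff, hvQ]
      rw [mul_smul, mul_smul, mul_smul, hv', e, inv_smul_smul]
    have h2 := eq_one_of_smul_eq h hQ (mul_mem (inv_mem hp) hq) h1
    exact invol_no_fixed h C hz hzs hv hv2 hp hpz (h2 ▸ one_mem _)
  · intro hpz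
    obtain ⟨i, rfl⟩ := mem_zpowers_iff.1 hpz
    have hcomm : Commute v z := mul_inv_eq_iff_eq_mul.1 (invol_comm h C hz hzs hv hv2)
    rw [← mul_smul, (hcomm.zpow_right i).eq, mul_smul, hvQ]

end Local

/-- An involution fixes exactly four Sylow 3-subgroups. -/
theorem card_fixedBy_eq_four (h : Hyp S) {v : S} (hv2 : orderOf v = 2) :
    Nat.card (fixedBy (Sylow 3 S) v) = 4 := by
  have h4 : 4 ≤ Nat.card (fixedBy (Sylow 3 S) v) := by
    rcases card_fixedBy_invol h hv2 with e | e <;> omega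
  haveI : Nontrivial (fixedBy (Sylow 3 S) v) := Finite.one_lt_card_iff_nontrivial.1 (by omega)
  obtain ⟨⟨P, hP⟩, ⟨Q, hQv⟩, hne⟩ := exists_pair_ne (fixedBy (Sylow 3 S) v)
  have hQ : Q ≠ P := fun e => hne (Subtype.ext e.symm)
  obtain ⟨y, -, ⟨C⟩⟩ := exists_chars h
  obtain ⟨z, hz, hzs, -⟩ := exists_special h C (card_sylow_three_eq h P)
  have hv : v ∈ normalizer ((P : Subgroup S) : Set S) := Sylow.smul_eq_iff_mem_normalizer.1 hP
  let f : Option (zpowers z) → fixedBy (Sylow 3 S) v := fun o => o.elim ⟨P, hP⟩ fun c =>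
    ⟨(c : S) • Q, (fixed_of_invol h C hz hzs hv hv2 hQ hQv (zpowers_le.2 hz c.2)).2 c.2⟩
  have hne' : ∀ p ∈ (P : Subgroup S), p • Q ≠ P := fun p hp e =>
    hQ (smul_left_cancel p (e.trans (smul_self_of_mem hp).symm))
  have hf : Function.Bijective f := by
    constructor
    · rintro (_ | a) (_ | b) he
      · rfl
      · exact absurd (congrArg Subtype.val he).symm (hne' _ (zpowers_le.2 hz b.2))
      · exact absurd (congrArg Subtype.val he) (hne' _ (zpowers_le.2 hz a.2))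
      · have he' : (a : S) • Q = (b : S) • Q := congrArg Subtype.val he
        have := eq_one_of_smul_eq h hQ (mul_mem (inv_mem (zpowers_le.2 hz b.2)) (zpowers_le.2 hz a.2))
          (by rw [mul_smul, he', inv_smul_smul])
        exact congrArg some (Subtype.ext (inv_mul_eq_one.1 this).symm)
    · rintro ⟨R, hR⟩
      by_cases hRP : R = P
      · exact ⟨none, Subtype.ext hRP.symm⟩
      obtain ⟨p, hp, rfl⟩ := exists_mem_smul_eq h hQ hRP
      exact ⟨some ⟨p, (fixed_of_invol h C hz hzs hv hv2 hQ hQv hp).1 hR⟩, rfl⟩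
  rw [← Nat.card_eq_of_bijective f hf, Finite.card_option, Nat.card_zpowers, hzs.1]

/-- The second fixed points of an involution of a normaliser. -/
theorem exists_second_fixed (h : Hyp S) {v : S} (hv2 : orderOf v = 2) (P : Sylow 3 S) :
    ∃ Q : Sylow 3 S, Q ≠ P ∧ v • Q = Q := by
  haveI : Nontrivial (fixedBy (Sylow 3 S) v) :=
    Finite.one_lt_card_iff_nontrivial.1 (by rw [card_fixedBy_eq_four h hv2]; norm_num)
  obtain ⟨a, b, hab⟩ := exists_pair_ne (fixedBy (Sylow 3 S) v)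
  by_cases ha : a.1 = P
  · exact ⟨b.1, fun e => hab (Subtype.ext (ha.trans e.symm)), b.2⟩
  · exact ⟨a.1, ha, a.2⟩

/-- The centraliser of an element outside `⟨z⟩`. -/
theorem cent_form (h : Hyp S) {y : S} (C : Chars S y) {P : Sylow 3 S} {z x p : S}
    (hz : z ∈ (P : Subgroup S)) (hzs : Special C z) (hx : x ∈ (P : Subgroup S)) (hxz : x ∉ zpowers z)
    (hcomm : p * x = x * p) : ∃ k : ℕ, ∃ w : S, k < 3 ∧ w ∈ zpowers z ∧ p = x ^ k * w := by
  let f : Fin 3 × zpowers z → centralizer ({x} : Set S) := fun o =>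
    ⟨x ^ (o.1 : ℕ) * o.2, mul_mem (pow_mem (mem_centralizer_singleton_iff.2 rfl) _)
      (mem_centralizer_singleton_iff.2 (Zcomm h C hz hzs hx o.2.2).eq.symm)⟩
  have hf : Function.Injective f := by
    rintro ⟨i, a⟩ ⟨j, b⟩ he
    have he' : x ^ (i : ℕ) * (a : S) = x ^ (j : ℕ) * (b : S) := congrArg Subtype.val he
    have hij : x ^ ((i : ℤ) - j) ∈ zpowers z := by
      have : x ^ ((i : ℤ) - j) = (b : S) * (a : S)⁻¹ := by
        rw [zpow_sub, zpow_natCast, zpow_natCast, eq_mul_inv_iff_mul_eq,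
          (((Commute.refl x).pow_pow (i : ℕ) (j : ℕ)).inv_right).eq, mul_assoc, he',
          inv_mul_cancel_left]
      rw [this]; exact mul_mem b.2 (inv_mem a.2)
    have heq : i = j := by
      rw [Fin.ext_iff]
      by_contra hne
      have h1 : ((i : ℤ) - j = 1 ∨ (i : ℤ) - j = -1) ∨ ((i : ℤ) - j = 2 ∨ (i : ℤ) - j = -2) := by omega
      refine hxz ?_
      rcases h1 with (e | e) | (e | e) <;> rw [e] at hij
      · simpa using hij
      · simpa using hij
      · exact sq_mem h C hz hzs hx (by rwa [zpow_two] at hij)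
      · exact sq_mem h C hz hzs hx (by
          have := inv_mem hij
          rwa [show (x ^ (-2 : ℤ))⁻¹ = x * x by rw [zpow_neg, inv_inv, zpow_two]] at this)
    subst heq
    exact Prod.ext rfl (Subtype.ext (mul_left_cancel he'))
  obtain ⟨⟨k, w⟩, hkw⟩ := ((Nat.bijective_iff_injective_and_card f).2 ⟨hf, by
    rw [(card_cent h C hz hzs hx hxz).1, Nat.card_prod, Nat.card_eq_fintype_card, Fintype.card_fin,
      Nat.card_zpowers, hzs.1]⟩).2 ⟨p, mem_centralizer_singleton_iff.2 hcomm⟩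
  exact ⟨k, w, k.2, w.2, (congrArg Subtype.val hkw).symm⟩

theorem divisors_216_check : ∀ d ∈ Finset.range 217, d ∣ 216 → ¬ 9 ∣ d → d ∣ 24 := by decide +kernel

/-- Some element of order eight in the normaliser inverts `z`. -/
theorem exists_inverting (h : Hyp S) {y : S} (C : Chars S y) {P : Sylow 3 S} {z : S}
    (hz : z ∈ (P : Subgroup S)) (hzs : Special C z) :
    ∃ g ∈ normalizer ((P : Subgroup S) : Set S), g ^ 8 = 1 ∧ g ^ 4 ≠ 1 ∧ g * z * g⁻¹ = z⁻¹ := by
  have hzz : z ≠ z⁻¹ := fun e => by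
    have h2 : z ^ 2 = 1 := by rw [pow_two]; nth_rewrite 1 [e]; exact inv_mul_cancel _
    have := orderOf_dvd_of_pow_eq_one h2
    rw [hzs.1] at this
    norm_num at this
  obtain ⟨x, hx, hxz⟩ := exists_not_mem h C hz hzs
  obtain ⟨b, hb, hbz⟩ : ∃ b ∈ normalizer ((P : Subgroup S) : Set S), b * z * b⁻¹ = z⁻¹ := by
    by_contra! hall
    have hle : normalizer ((P : Subgroup S) : Set S) ≤ centralizer ({z} : Set S) := fun b hb =>
      mem_centralizer_singleton_iff.2
        (mul_inv_eq_iff_eq_mul.1 ((conj_z h C hz hzs hb).resolve_right (hall b hb)))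
    have hd := card_dvd_of_le hle
    rw [card_normalizer_three h] at hd
    have hx3 := orderOf_three h (card_sylow_three_eq h P) hx (nonspecial h C hz hzs hx hxz).1
    have hp := C.pairs z x (by rw [hzs.1]; norm_num) (by rw [hx3]; norm_num)
    rw [(C.six_three h hzs.1).1, hzs.2, (C.six_three h hx3).1,
      (C.six_three h hx3).2.resolve_left fun e => (nonspecial h C hz hzs hx hxz).2 ⟨hx3, e⟩] at hp
    have hcount : Nat.card (Pairs z x y) = 6804 := by
      have : (Nat.card (Pairs z x y) : ℂ) = ((6804 : ℕ) : ℂ) := by rw [hp]; norm_num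
      exact_mod_cast this
    have h2 := (mul_dvd_mul_right hd 9).trans
      ((card_cent h C hz hzs hx hxz).1 ▸ mul_card_centralizer_dvd z x y)
    rw [hcount] at h2
    norm_num at h2
  have hd : orderOf b ∣ 216 := card_normalizer_three h P ▸ orderOf_dvd_natCard _ hb
  have h9 : ¬ 9 ∣ orderOf b := fun h9 => by
    obtain ⟨k, hk⟩ := h9
    have hk0 : k ≠ 0 := fun e => by rw [e, mul_zero] at hk; exact (orderOf_pos b).ne' hk
    refine h.no9 (b ^ k) ?_
    rw [orderOf_pow_of_dvd hk0 (by rw [hk]; exact dvd_mul_left k 9), hk,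
      Nat.mul_div_cancel _ (Nat.pos_of_ne_zero hk0)]
  have h24 := divisors_216_check _ (Finset.mem_range.2 (by have := Nat.le_of_dvd (by norm_num) hd; omega)) hd h9
  set g := b ^ 3 with hg
  have hgN : g ∈ normalizer ((P : Subgroup S) : Set S) := pow_mem hb 3
  have hgz : g * z * g⁻¹ = z⁻¹ := by
    have e2 : b * z⁻¹ * b⁻¹ = z := by
      rw [show b * z⁻¹ * b⁻¹ = (b * z * b⁻¹)⁻¹ by group, hbz, inv_inv]
    calc g * z * g⁻¹ = b * (b * (b * z * b⁻¹) * b⁻¹) * b⁻¹ := by rw [hg]; simp [pow_succ, mul_assoc]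
      _ = z⁻¹ := by rw [hbz, e2, hbz]
  refine ⟨g, hgN, by rw [hg, ← pow_mul]; exact orderOf_dvd_iff_pow_eq_one.1 h24, fun hg4 => ?_, hgz⟩
  have hg1 : g ≠ 1 := fun e => hzz (by rw [e] at hgz; simpa using hgz)
  by_cases hg2 : g ^ 2 = 1
  · exact hzz ((invol_comm h C hz hzs hgN (orderOf_eq_prime hg2 hg1)).symm.trans hgz)
  have hu : orderOf (g ^ 2) = 2 := orderOf_eq_prime (by rw [← pow_mul]; exact hg4) hg2
  have huN : g ^ 2 ∈ normalizer ((P : Subgroup S) : Set S) := pow_mem hgN 2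
  set y' := g * x * g⁻¹ with hy'
  have hy'P : y' ∈ (P : Subgroup S) := conj_mem_P h C hz hzs hgN hx
  set c := x⁻¹ * y'⁻¹ * x * y' with hc
  have hcz : c ∈ zpowers z := comm_mem h C hz hzs hx hy'P
  have hgy : g * y' * g⁻¹ = g ^ 2 * x * (g ^ 2)⁻¹ := by rw [hy']; simp [pow_succ, mul_assoc]
  set d := x * (g ^ 2 * x * (g ^ 2)⁻¹) with hd'
  have hdz : d ∈ zpowers z := by
    have h1 := invol_inverts h C hz hzs huN hu hx
    have h2 : d = x * (g ^ 2 * x * (g ^ 2)⁻¹ * x) * x⁻¹ := by rw [hd']; group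
    rw [h2, (Zcomm h C hz hzs hx h1).eq, mul_inv_cancel_right]
    exact h1
  have hdc : ∀ p ∈ (P : Subgroup S), d * p = p * d := fun p hp => (Zcomm h C hz hzs hp hdz).eq.symm
  have hgc : g * c * g⁻¹ = c := by
    have e : g * y' * g⁻¹ = x⁻¹ * d := by rw [hgy, hd', inv_mul_cancel_left]
    calc g * c * g⁻¹ = (g * x * g⁻¹)⁻¹ * (g * y' * g⁻¹)⁻¹ * (g * x * g⁻¹) * (g * y' * g⁻¹) := by
          rw [hc]; group
      _ = y'⁻¹ * (d⁻¹ * (x * y' * x⁻¹)) * d := by rw [e, ← hy']; group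
      _ = y'⁻¹ * ((x * y' * x⁻¹) * d⁻¹) * d := by
          rw [(Zcomm h C hz hzs (mul_mem (mul_mem hx hy'P) (inv_mem hx)) (inv_mem hdz)).eq]
      _ = x * c * x⁻¹ := by rw [hc]; group
      _ = c := by rw [(Zcomm h C hz hzs hx hcz).eq, mul_inv_cancel_right]
  obtain ⟨i, hi⟩ := mem_zpowers_iff.1 hcz
  have hcinv : c = c⁻¹ := by
    conv_lhs => rw [← hgc, ← hi, show g * z ^ i * g⁻¹ = (g * z * g⁻¹) ^ i from map_zpow (MulAut.conj g) z i,
      hgz, inv_zpow, hi]
  have hc1 : c = 1 := by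
    calc c = c ^ 3 * (c * c)⁻¹ := by group
      _ = 1 * (c * c⁻¹)⁻¹ := by
          rw [cube_eq_one h (zpowers_le_P h C hz hzs hcz), ← hcinv]
      _ = 1 := by group
  -- `y'` commutes with `x`, so `g²` fixes the coset of `x` or of `x⁻¹`
  have hcomm : y' * x = x * y' := by
    calc y' * x = y' * x * c := by rw [hc1, mul_one]
      _ = x * y' := by rw [hc]; group
  obtain ⟨k, w, -, hw, hyk⟩ := cent_form h C hz hzs hx hxz hcomm
  have hk2 : g * y' * g⁻¹ = x ^ (k * k) * (w ^ k * (g * w * g⁻¹)) := by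
    have hxw : Commute (x ^ k) w := (Zcomm h C hz hzs (pow_mem hx k) hw)
    calc g * y' * g⁻¹ = (g * x * g⁻¹) ^ k * (g * w * g⁻¹) := by rw [hyk, conj_pow]; group
      _ = (x ^ k * w) ^ k * (g * w * g⁻¹) := by rw [← hy', hyk]
      _ = _ := by rw [hxw.mul_pow, ← pow_mul, mul_assoc]
  have hmem : g ^ 2 * x * (g ^ 2)⁻¹ * x ∈ zpowers z := invol_inverts h C hz hzs huN hu hx
  rw [← hgy, hk2] at hmem
  have hwz : w ^ k * (g * w * g⁻¹) ∈ zpowers z :=
    mul_mem (pow_mem hw k) (conj_mem_Z h C hz hzs hgN hw)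
  rw [mul_assoc, ← (Zcomm h C hz hzs hx hwz).eq, ← mul_assoc] at hmem
  have hmem' : x ^ (k * k + 1) ∈ zpowers z := by
    rw [pow_succ]; simpa [mul_assoc] using mul_mem hmem (inv_mem hwz)
  have h3 : x ^ 3 = 1 := cube_eq_one h hx
  rw [pow_eq_pow_mod _ h3] at hmem'
  have hk3 : (k * k + 1) % 3 = 1 ∨ (k * k + 1) % 3 = 2 := by
    have := Nat.mod_lt k (show 3 > 0 by norm_num)
    rw [Nat.add_mod, Nat.mul_mod]
    interval_cases hkm : k % 3 <;> simp
  rcases hk3 with e | e <;> rw [e] at hmem'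
  · exact hxz (by rwa [pow_one] at hmem')
  · exact hxz (sq_mem h C hz hzs hx (by rwa [pow_two] at hmem'))

end Cfsg.Agent.G2TwoRecog
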