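import Cfsg.Agent.Lib.G2TwoRecog.Values
import Cfsg.Agent.Lib.G2TwoRecog.Local7
import Cfsg.Agent.Lib.DefectOne.SelfCent
import Cfsg.Agent.Lib.CharInt.Kazarin
import Cfsg.Agent.Lib.BrauerPairs.Lift
import Cfsg.Agent.Lib.Char.BrauerPermChar

/-!
# The principal 7-block of a simple group of order 6048 without elements of order 14 or 21
-/

set_option autoImplicit false
set_option linter.style.haveILetI false
set_option linter.unusedSectionVars false

open scoped ComplexConjugate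
open Cfsg Cfsg.Agent

namespace Cfsg.Agent.G2TwoRecog

universe u

/-- The hypotheses on the group. -/
structure Hyp (S : Type u) [Group S] : Prop where
  simple : IsSimpleGroup S
  card : Nat.card S = 6048
  no9 : ∀ g : S, orderOf g ≠ 9
  no14 : ∀ g : S, orderOf g ≠ 14
  no21 : ∀ g : S, orderOf g ≠ 21

theorem Hyp.nonabelian {S : Type u} [Group S] [Finite S] (h : Hyp S) : ¬ IsMulCommutative S := by
  intro hc
  haveI := h.simple
  haveI : Nontrivial S := Finite.one_lt_card_iff_nontrivial.1 (by rw [h.card]; norm_num)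
  letI : CommGroup S := { (inferInstance : Group S) with mul_comm := fun a b => hc.is_comm.comm a b }
  have := IsSimpleGroup.prime_card (α := S)
  rw [h.card] at this
  norm_num at this

variable {S : Type u} [Group S] [Fintype S]

theorem Hyp.seven (h : Hyp S) : SevenIsolated S 864 where
  card := by rw [h.card]
  ndvd := by norm_num
  primes r hr hd := by
    have : r ∈ (864 : ℕ).primeFactors := Nat.mem_primeFactors.2 ⟨hr, hd, by norm_num⟩
    rw [show (864 : ℕ) = 2 ^ 5 * 3 ^ 3 by norm_num, Nat.primeFactors_mul (by norm_num) (by norm_num),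
      Nat.primeFactors_pow _ (by norm_num), Nat.primeFactors_pow _ (by norm_num),
      Nat.prime_two.primeFactors, Nat.prime_three.primeFactors] at this
    simpa using this
  no14 := h.no14
  no21 := h.no21

theorem Hyp.card_normalizer (h : Hyp S) [Fact (Nat.Prime 7)] (P : Sylow 7 S) :
    Nat.card (Subgroup.normalizer ((P : Subgroup S) : Set S)) = 21 := by
  obtain ⟨k, hk, hN, hn⟩ := normalizer_seven h.seven P
  have hmod : Nat.card (Sylow 7 S) % 7 = 1 := card_sylow_modEq_one 7 S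
  have key : ∀ k ∈ (6 : ℕ).divisors, k ≠ 3 → (864 / k) % 7 ≠ 1 := by decide
  rw [hN]
  by_contra hne
  refine key k (Nat.mem_divisors.2 ⟨hk, by norm_num⟩) (fun e => hne (by rw [e])) ?_
  rwa [← hn, Nat.mul_div_cancel _ (Nat.pos_of_dvd_of_pos hk (by norm_num))]

/-- The raw data of the principal 7-block. -/
structure Raw (S : Type u) [Group S] [Fintype S] (y : S) where
  α : IrrCharacter S
  β : IrrCharacter S
  θ : IrrCharacter S
  ea : ℤ
  eb : ℤ
  e : ℤ
  ea_sq : ea = 1 ∨ ea = -1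
  eb_sq : eb = 1 ∨ eb = -1
  e_sq : e = 1 ∨ e = -1
  αne : α ≠ Char.trivialChar S
  βne : β ≠ Char.trivialChar S
  θne : θ ≠ Char.trivialChar S
  αy : α.1 y = ea
  βy : β.1 y = eb
  αmod : ((Char.degree α : ℤ) - ea) % 7 = 0
  βmod : ((Char.degree β : ℤ) - eb) % 7 = 0
  θmod : ((Char.degree θ : ℤ) - e * 3) % 7 = 0
  sumsq : Char.degree α ^ 2 + Char.degree β ^ 2 + 2 * Char.degree θ ^ 2 < 6048
  αβ : α ≠ β
  rel : ∀ g : S, ¬ 7 ∣ orderOf g → (e : ℂ) * θ.1 g = 1 + ea * α.1 g + eb * β.1 g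
  only : ∀ χ : IrrCharacter S, χ.1 y ≠ 0 → χ ≠ Char.trivialChar S → χ = α ∨ χ = β ∨
    (Char.degree χ = Char.degree θ ∧ ∀ g : S, ¬ 7 ∣ orderOf g → χ.1 g = θ.1 g)
  pairs : ∀ a b : S, ¬ 7 ∣ orderOf a → ¬ 7 ∣ orderOf b → (Nat.card (Pairs a b y) : ℂ) =
    6048 * (1 + ea * α.1 a * α.1 b / Char.degree α + eb * β.1 a * β.1 b / Char.degree β
      - e * θ.1 a * θ.1 b / Char.degree θ)

theorem exists_raw (h : Hyp S) : ∃ y : S, orderOf y = 7 ∧ Nonempty (Raw S y) := by
  classical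
  haveI : Fact (Nat.Prime 7) := ⟨by norm_num⟩
  obtain ⟨M, hM⟩ := CharInt.exists_isPModular_of_prime (q := 7) (by norm_num)
  haveI := hM.2.1
  obtain ⟨P⟩ : Nonempty (Sylow 7 S) := inferInstance
  have hsc : DefectOne.SelfCent P := ⟨card_sylow_seven h.seven P, centralizer_sylow_seven h.seven P⟩
  have hidx : (Subgroup.centralizer ((P : Subgroup S) : Set S)).relIndex
      (Subgroup.normalizer ((P : Subgroup S) : Set S)) = 3 := by
    have h1 := Subgroup.card_mul_index
      ((P : Subgroup S).subgroupOf (Subgroup.normalizer ((P : Subgroup S) : Set S)))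
    rw [Nat.card_congr (Subgroup.subgroupOfEquivOfLe Subgroup.le_normalizer).toEquiv,
      card_sylow_seven h.seven P, h.card_normalizer P] at h1
    rw [centralizer_sylow_seven h.seven P, Subgroup.relIndex]
    omega
  obtain ⟨Sh⟩ := DefectOne.primeShape_of_lt hM.2.2 hsc.card hidx (by rw [hsc.card]; norm_num)
  obtain ⟨y, hy, hz⟩ := exists_gen_seven h.seven P
  have hyP : y ∈ (P : Subgroup S) := hz ▸ Subgroup.mem_zpowers y
  have hy1 : y ≠ 1 := fun e => by rw [e, orderOf_one] at hy; norm_num at hy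
  refine ⟨y, hy, ?_⟩
  set T := Char.trivialChar S
  have hreg1 : IsPRegular 7 (1 : S) := by simp [IsPRegular]
  have hTX : T ∈ Sh.X := by
    refine (Sh.mem_XY BrauerPairs.trivialChar_mem_principalBlock).resolve_right fun hT => ?_
    have := Sh.Y_deg' hT
    rw [Int.modEq_iff_dvd] at this
    obtain ⟨k, hk⟩ := this
    have hd : Char.degree T = 1 := by
      apply Nat.cast_injective (R := ℂ)
      rw [← Char.apply_one_eq_degree]; simp [T, Char.trivialChar_apply]
    rw [hd] at hk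
    rcases Sh.hε with e | e <;> rw [e] at hk <;> omega
  obtain ⟨α, β, hαβ, hX⟩ : ∃ α β, α ≠ β ∧ Sh.X.erase T = {α, β} := by
    refine Finset.card_eq_two.1 ?_
    rw [Finset.card_erase_of_mem hTX, Sh.cardX]
  have hαm : α ∈ Sh.X.erase T := by rw [hX]; simp
  have hβm : β ∈ Sh.X.erase T := by rw [hX]; simp
  obtain ⟨hαne, hαX⟩ := Finset.mem_erase.1 hαm
  obtain ⟨hβne, hβX⟩ := Finset.mem_erase.1 hβm
  have hYne : Sh.Y.Nonempty := by rw [← Finset.card_pos, Sh.cardY]; norm_num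
  obtain ⟨θ, hθ⟩ := hYne
  have hεT : Sh.εX T = 1 := by
    have := Sh.X_val T hTX ⟨y, hyP⟩ (fun e => hy1 (congrArg Subtype.val e))
    rw [Char.trivialChar_apply] at this
    exact_mod_cast this.symm
  have hsumX : ∀ f : IrrCharacter S → ℂ, ∑ χ ∈ Sh.X, f χ = f T + (f α + f β) := fun f => by
    rw [← Finset.add_sum_erase _ _ hTX, hX, Finset.sum_pair hαβ]
  have hθT : θ ≠ T := fun e => Finset.disjoint_left.1 Sh.disj hTX (e ▸ hθ)
  have hrel : ∀ g : S, ¬ 7 ∣ orderOf g →
      (Sh.ε : ℂ) * θ.1 g = 1 + Sh.εX α * α.1 g + Sh.εX β * β.1 g := fun g hg => by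
    rw [Sh.relation θ hθ g hg, hsumX, hεT, Char.trivialChar_apply]
    push_cast; ring
  have hyinv : y⁻¹ ∈ (P : Subgroup S) := inv_mem hyP
  have hyinv1 : y⁻¹ ≠ 1 := inv_ne_one.2 hy1
  have hmodX : ∀ χ ∈ Sh.X, ((Char.degree χ : ℤ) - Sh.εX χ) % 7 = 0 := fun χ hχ => by
    have := Int.ModEq.eq (Sh.X_deg' hχ)
    push_cast at this
    omega
  refine ⟨{
    α := α, β := β, θ := θ, ea := Sh.εX α, eb := Sh.εX β, e := Sh.ε
    ea_sq := Sh.hεX α hαX, eb_sq := Sh.hεX β hβX, e_sq := Sh.hε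
    αne := hαne, βne := hβne, θne := hθT
    αy := Sh.X_val α hαX ⟨y, hyP⟩ (fun e => hy1 (congrArg Subtype.val e))
    βy := Sh.X_val β hβX ⟨y, hyP⟩ (fun e => hy1 (congrArg Subtype.val e))
    αmod := hmodX α hαX, βmod := hmodX β hβX
    θmod := ?_, sumsq := ?_, αβ := hαβ, rel := hrel, only := ?_, pairs := ?_ }⟩
  · have := Int.ModEq.eq (Sh.Y_deg' hθ)
    push_cast at this
    omega
  · have hsub : ∑ χ ∈ Sh.X ∪ Sh.Y, Char.degree χ ^ 2 ≤ 6048 := by
      rw [← h.card, ← Char.sum_degree_sq (G := S)]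
      exact Finset.sum_le_sum_of_subset (Finset.subset_univ _)
    rw [Finset.sum_union Sh.disj, ← Finset.add_sum_erase _ _ hTX, hX, Finset.sum_pair hαβ,
      Finset.sum_congr rfl (s₁ := Sh.Y) (fun χ hχ => by rw [Sh.degree_eq hχ hθ]),
      Finset.sum_const, Sh.cardY] at hsub
    have hd : 1 ≤ Char.degree T ^ 2 := Nat.one_le_pow _ _ (Char.degree_pos T)
    simp only [smul_eq_mul] at hsub
    omega
  · intro χ hχ hne
    have hb : χ ∈ principalBlock M S := by
      by_contra hn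
      exact hχ (hsc.vanish hM.2.2 hn hyP hy1)
    rcases Sh.mem_XY hb with hx | hy'
    · have : χ ∈ Sh.X.erase T := Finset.mem_erase.2 ⟨hne, hx⟩
      rw [hX] at this
      rcases Finset.mem_insert.1 this with e | e
      · exact Or.inl e
      · exact Or.inr (Or.inl (Finset.mem_singleton.1 e))
    · exact Or.inr (Or.inr ⟨Sh.degree_eq hy' hθ, fun g hg => Sh.agree χ hy' θ hθ g hg⟩)
  · intro a b ha hb
    rw [card_pairs_eq a b y (Sh.X ∪ Sh.Y) fun χ hχ => hsc.vanish hM.2.2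
      (fun hm => hχ (Finset.mem_union.2 (Sh.mem_XY hm))) hyinv hyinv1,
      Finset.sum_union Sh.disj, hsumX]
    have hv : ∀ χ ∈ Sh.X, χ.1 y⁻¹ = Sh.εX χ := fun χ hχ =>
      Sh.X_val χ hχ ⟨y⁻¹, hyinv⟩ (fun e => hyinv1 (congrArg Subtype.val e))
    have hY : ∑ χ ∈ Sh.Y, χ.1 a * χ.1 b * χ.1 y⁻¹ / χ.1 1 =
        θ.1 a * θ.1 b / Char.degree θ * ∑ χ ∈ Sh.Y, χ.1 y⁻¹ := by
      rw [Finset.mul_sum]
      refine Finset.sum_congr rfl fun χ hχ => ?_
      rw [Sh.agree χ hχ θ hθ a ha, Sh.agree χ hχ θ hθ b hb, Char.apply_one_eq_degree,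
        Sh.degree_eq hχ hθ]
      ring
    rw [hY, hsc.sum_Y hM.2.2 Sh ⟨θ, hθ⟩ hyinv hyinv1, hv T hTX, hv α hαX, hv β hβX, hεT,
      Char.trivialChar_apply, Char.trivialChar_apply, Char.trivialChar_apply,
      Char.apply_one_eq_degree, Char.apply_one_eq_degree, h.card]
    push_cast
    ring

end Cfsg.Agent.G2TwoRecog
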