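import Cfsg.Agent.Lib.G2TwoRecog.Degrees

/-!
# The Sylow 3-subgroups meet trivially
-/

set_option autoImplicit false
set_option linter.style.haveILetI false
set_option linter.unusedSectionVars false

open scoped ComplexConjugate
open Cfsg Cfsg.Agent Subgroup MulAction

namespace Cfsg.Agent.G2TwoRecog

universe u

/-- Sylow counting when all intersections with `P` have index divisible by `p ^ k`. -/
theorem card_sylow_modEq_pow {X : Type*} [Group X] [Finite X] {p k : ℕ} [Fact p.Prime] (P : Sylow p X)
    (hind : ∀ Q : Sylow p X, Q ≠ P → p ^ k ∣ ((Q : Subgroup X).subgroupOf (P : Subgroup X)).index) :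
    ∃ j : ℕ, Nat.card (Sylow p X) = p ^ k * j + 1 := by
  classical
  haveI : Fintype (Quotient (orbitRel (P : Subgroup X) (Sylow p X))) := Fintype.ofFinite _
  have e := Nat.card_congr (selfEquivSigmaOrbits' (P : Subgroup X) (Sylow p X))
  rw [Nat.card_sigma] at e
  set ω₀ : Quotient (orbitRel (P : Subgroup X) (Sylow p X)) := Quotient.mk'' P
  have hP1 : Nat.card (orbit (P : Subgroup X) P) = 1 := by
    rw [SmallSimple.card_orbit_sylow P P, subgroupOf_self, index_top]
  rw [← Finset.add_sum_erase _ _ (Finset.mem_univ ω₀),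
    show Nat.card (orbitRel.Quotient.orbit ω₀) = 1 by
      rw [orbitRel.Quotient.orbit_mk]; exact hP1] at e
  obtain ⟨j, hj⟩ : p ^ k ∣ ∑ ω ∈ Finset.univ.erase ω₀, Nat.card (orbitRel.Quotient.orbit ω) := by
    refine Finset.dvd_sum fun ω hω => ?_
    revert hω
    refine Quotient.inductionOn' ω fun Q hQ => ?_
    rw [orbitRel.Quotient.orbit_mk, SmallSimple.card_orbit_sylow P Q]
    exact hind Q fun h => (Finset.mem_erase.1 hQ).1 (by rw [h])
  exact ⟨j, by rw [e, hj, add_comm]⟩

variable {S : Type u} [Group S] [Fintype S]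

theorem Chars.six_three (h : Hyp S) {y : S} (C : Chars S y) {x : S} (hx : orderOf x = 3) :
    C.tw.1 x = 0 ∧ (C.six.1 x = -3 ∨ C.six.1 x = 0) := by
  haveI := h.simple
  haveI : Fact (Nat.Prime 3) := ⟨Nat.prime_three⟩
  obtain ⟨M, hM⟩ := CharInt.exists_isPModular_of_prime (q := 3) (by norm_num)
  haveI := hM.2.1
  have htw : C.tw.1 x = 0 := Blocks.apply_eq_zero_of_defect_zero hM.2.2 C.tw (by
    rw [C.dtw, h.card, show (27 : ℕ) = 3 ^ 3 by norm_num, show (6048 : ℕ) = 3 ^ 3 * 224 by norm_num,
      Nat.factorization_mul (by norm_num) (by norm_num), Finsupp.add_apply,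
      Nat.Prime.factorization_pow (by norm_num), Finsupp.single_eq_same,
      Nat.factorization_eq_zero_of_not_dvd (n := 224) (by norm_num)]) (by simp [IsPRegular, hx])
  refine ⟨htw, ?_⟩
  obtain ⟨a, k, ha, hk, hak⟩ := value_three hx C.six (C.real x)
  have hx1 : x ≠ 1 := fun e => by rw [e, orderOf_one] at hx; norm_num at hx
  obtain ⟨h1, h2⟩ := abs_lt_degree h.nonabelian C.sixne hx1 ha
  rw [C.dsix] at hk hak h1 h2
  have h3 : a = -3 ∨ a = 0 ∨ a = 3 := by omega
  rcases h3 with e | e | e
  · exact Or.inl (by rw [ha, e]; norm_num)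
  · exact Or.inr (by rw [ha, e]; norm_num)
  exfalso
  have h7 : ¬ 7 ∣ orderOf x := by rw [hx]; norm_num
  have hp := C.pairs x x h7 h7
  rw [ha, e, htw] at hp
  have : ((Nat.card (Pairs x x y) : ℤ) : ℂ) = ((-2268 : ℤ) : ℂ) := by
    push_cast at hp ⊢; rw [hp]; norm_num
  have : (Nat.card (Pairs x x y) : ℤ) = -2268 := by exact_mod_cast this
  omega

/-- Elements of order three with value `-3`. -/
def Special {y : S} (C : Chars S y) (z : S) : Prop := orderOf z = 3 ∧ C.six.1 z = -3

theorem Special.inv {y : S} {C : Chars S y} {z : S} (hz : Special C z) : Special C z⁻¹ :=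
  ⟨by rw [orderOf_inv, hz.1], by
    rw [CharInt.char_inv (Char.irr_isCharacter C.six), C.real, hz.2]⟩

theorem Special.conj {y : S} {C : Chars S y} {z : S} (hz : Special C z) (g : S) :
    Special C (g * z * g⁻¹) :=
  ⟨by rw [show g * z * g⁻¹ = MulAut.conj g z from rfl, MulEquiv.orderOf_eq, hz.1], by
    rw [CharInt.char_conj_apply (Char.irr_isCharacter C.six), hz.2]⟩

variable (h : Hyp S) {y : S} (C : Chars S y)

include h in
/-- There are exactly two special elements in each subgroup of order 27. -/
theorem exists_special {P : Subgroup S} (hP : Nat.card P = 27) :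
    ∃ z ∈ P, Special C z ∧ ∀ w ∈ P, Special C w → w = z ∨ w = z⁻¹ := by
  classical
  have hval : ∀ g : P, g ≠ 1 → C.six.1 g = if Special C (g : S) then -3 else 0 := by
    intro g hg
    have h3 := orderOf_three h hP g.2 (fun e => hg (Subtype.ext e))
    rcases (C.six_three h h3).2 with e | e
    · rw [if_pos ⟨h3, e⟩, e]
    · rw [if_neg fun hs => by have := hs.2; rw [e] at this; norm_num at this, e]
  obtain ⟨n, hn⟩ := sum_over_27 hP C.six
  set F := Finset.univ.filter fun g : P => Special C (g : S) with hF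
  have h1 : ¬ Special C (1 : S) := fun hs => by have := hs.1; rw [orderOf_one] at this; norm_num at this
  rw [← Finset.add_sum_erase _ _ (Finset.mem_univ (1 : P)),
    Finset.sum_congr rfl fun g hg => hval g (Finset.ne_of_mem_erase hg), ← Finset.sum_filter,
    Finset.sum_const, Subgroup.coe_one, Char.apply_one_eq_degree, C.dsix,
    show (Finset.univ.erase (1 : P)).filter (fun g : P => Special C (g : S)) = F by
      ext g; simp only [hF, Finset.mem_filter, Finset.mem_erase, Finset.mem_univ, and_true, true_and]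
      exact ⟨fun hh => hh.2, fun hh => ⟨fun e => h1 (by rw [e, Subgroup.coe_one] at hh; exact hh), hh⟩⟩]
    at hn
  have hcard : F.card = 2 := by
    have : (6 : ℤ) - 3 * (F.card : ℤ) = 27 * n := by
      have h' : (((6 : ℤ) - 3 * (F.card : ℤ) : ℤ) : ℂ) = ((27 * (n : ℤ) : ℤ) : ℂ) := by
        push_cast at hn ⊢
        rw [nsmul_eq_mul] at hn
        linear_combination hn
      exact_mod_cast h'
    omega
  obtain ⟨a, b, hab, hFab⟩ := Finset.card_eq_two.1 hcard
  have ha : Special C (a : S) := (Finset.mem_filter.1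
    (show a ∈ F by rw [hFab]; exact Finset.mem_insert_self a _)).2
  refine ⟨a, a.2, ha, ?_⟩
  have hinv : (⟨(a : S)⁻¹, inv_mem a.2⟩ : P) = b := by
    have hm : (⟨(a : S)⁻¹, inv_mem a.2⟩ : P) ∈ F := Finset.mem_filter.2 ⟨Finset.mem_univ _, ha.inv⟩
    rw [hFab, Finset.mem_insert, Finset.mem_singleton] at hm
    refine hm.resolve_left fun e => ?_
    have e' : (a : S)⁻¹ = a := congrArg Subtype.val e
    have h2 : (a : S) ^ 2 = 1 := by
      rw [pow_two]; nth_rewrite 1 [← e']; exact inv_mul_cancel _
    have := orderOf_dvd_of_pow_eq_one h2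
    rw [ha.1] at this
    norm_num at this
  intro w hw hs
  have hm : (⟨w, hw⟩ : P) ∈ F := Finset.mem_filter.2 ⟨Finset.mem_univ _, hs⟩
  rw [hFab, Finset.mem_insert, Finset.mem_singleton] at hm
  rcases hm with e | e
  · exact Or.inl (congrArg Subtype.val e)
  · exact Or.inr (by rw [← hinv] at e; exact congrArg Subtype.val e)

include h in
theorem special_mem_zpowers {P : Subgroup S} (hP : Nat.card P = 27) {z w : S} (hz : z ∈ P)
    (hzs : Special C z) (hw : w ∈ P) (hws : Special C w) : w ∈ zpowers z := by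
  obtain ⟨a, -, -, hall⟩ := exists_special h C hP
  have hz' := hall z hz hzs
  rcases hall w hw hws with e | e <;> rcases hz' with e' | e' <;> rw [e, e']
  · exact mem_zpowers a
  · exact zpowers_inv (g := a) ▸ mem_zpowers a
  · exact inv_mem (mem_zpowers a)
  · exact mem_zpowers _

include h in
/-- Special elements are central in the subgroups of order 27 containing them. -/
theorem special_comm {P : Subgroup S} (hP : Nat.card P = 27) {z p : S} (hz : z ∈ P)
    (hzs : Special C z) (hp : p ∈ P) : p * z = z * p := by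
  obtain ⟨a, ha, has, hall⟩ := exists_special h C hP
  have key : ∀ q ∈ P, q * a * q⁻¹ = a := by
    intro q hq
    rcases hall _ (mul_mem (mul_mem hq ha) (inv_mem hq)) (has.conj q) with e | e
    · exact e
    · exfalso
      by_cases hq1 : q = 1
      · rw [hq1] at e
        simp only [one_mul, inv_one, mul_one] at e
        have h2 : a ^ 2 = 1 := by rw [pow_two]; nth_rewrite 1 [e]; exact inv_mul_cancel _
        have := orderOf_dvd_of_pow_eq_one h2
        rw [has.1] at this; norm_num at this
      have h3 : q ^ 3 = 1 := orderOf_three h hP hq hq1 ▸ pow_orderOf_eq_one q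
      have : a = a⁻¹ := by
        calc a = q ^ 3 * a * (q ^ 3)⁻¹ := by rw [h3]; group
          _ = q * (q * (q * a * q⁻¹) * q⁻¹) * q⁻¹ := by simp [pow_succ, mul_assoc]
          _ = a⁻¹ := by rw [e, show q * a⁻¹ * q⁻¹ = (q * a * q⁻¹)⁻¹ by group, e, inv_inv, e]
      have h2 : a ^ 2 = 1 := by rw [pow_two]; nth_rewrite 1 [this]; exact inv_mul_cancel _
      have := orderOf_dvd_of_pow_eq_one h2
      rw [has.1] at this; norm_num at this
  have hpa := key p hp
  rw [mul_inv_eq_iff_eq_mul] at hpa
  rcases hall z hz hzs with e | e <;> rw [e]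
  · exact hpa
  · exact (show Commute p a from hpa).inv_right.eq

theorem nine_check : ∀ c ∈ Finset.range 80, c * c ∣ 6237 → c ∣ 9 := by decide +kernel

include h in
/-- A non-special element of order three has a centraliser of order nine, inside its Sylow group. -/
theorem centralizer_nonspecial {P : Subgroup S} (hP : Nat.card P = 27) {x : S} (hx : x ∈ P) (hx1 : x ≠ 1)
    (hns : ¬ Special C x) :
    Nat.card (centralizer ({x} : Set S)) = 9 ∧ centralizer ({x} : Set S) ≤ P := by
  classical
  have h3 := orderOf_three h hP hx hx1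
  obtain ⟨htw, h6⟩ := C.six_three h h3
  have h60 : C.six.1 x = 0 := h6.resolve_left fun e => hns ⟨h3, e⟩
  have h7 : ¬ 7 ∣ orderOf x := by rw [h3]; norm_num
  have hp := C.pairs x x h7 h7
  rw [h60, htw] at hp
  have hcount : Nat.card (Pairs x x y) = 6237 := by
    have : (Nat.card (Pairs x x y) : ℂ) = ((6237 : ℕ) : ℂ) := by rw [hp]; norm_num
    exact_mod_cast this
  set c := Nat.card (centralizer ({x} : Set S))
  have hc : c * c ∣ 6237 := hcount ▸ mul_card_centralizer_dvd x x y
  have hc80 : c < 80 := by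
    have := Nat.le_of_dvd (by norm_num) hc
    nlinarith
  have hc9 : c ∣ 9 := nine_check c (Finset.mem_range.2 hc80) hc
  set D := centralizer ({x} : Set S) ⊓ P
  obtain ⟨z, hz, hzs, -⟩ := exists_special h C hP
  have hxD : zpowers x ≤ D := le_inf (by rw [zpowers_le, mem_centralizer_singleton_iff]) (zpowers_le.2 hx)
  have hzD : z ∈ D := ⟨mem_centralizer_singleton_iff.2 (special_comm h C hP hz hzs hx).symm, hz⟩
  have hne : zpowers x ≠ D := fun e => by
    rw [← e, mem_zpowers_iff_mem_range_orderOf, h3] at hzD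
    simp only [Finset.mem_image, Finset.mem_range] at hzD
    obtain ⟨i, hi, rfl⟩ := hzD
    interval_cases i
    · have := hzs.1; rw [pow_zero, orderOf_one] at this; norm_num at this
    · exact hns (by rwa [pow_one] at hzs)
    · have := hzs.inv
      rw [show (x ^ 2)⁻¹ = x from inv_eq_of_mul_eq_one_left (by
        rw [← pow_succ']; exact (by rw [← h3]; exact pow_orderOf_eq_one x : x ^ 3 = 1))] at this
      exact hns this
  have hlt : 3 < Nat.card D := by
    by_contra hle
    exact hne (eq_of_le_of_card_ge hxD (by rw [Nat.card_zpowers, h3]; omega))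
  have hDc : Nat.card D ∣ c := card_dvd_of_le inf_le_left
  have hD9 : Nat.card D = 9 := by
    have hm : Nat.card D ∈ (9 : ℕ).divisors := Nat.mem_divisors.2 ⟨hDc.trans hc9, by norm_num⟩
    rw [show (9 : ℕ).divisors = {1, 3, 9} by decide] at hm
    simp only [Finset.mem_insert, Finset.mem_singleton] at hm
    omega
  have hc : c = 9 := Nat.dvd_antisymm hc9 (hD9 ▸ hDc)
  refine ⟨hc, ?_⟩
  rw [← eq_of_le_of_card_ge (inf_le_left : D ≤ _) (by rw [hD9]; exact hc.le)]
  exact inf_le_right

include h in
/-- Two subgroups of order 27 with a common special element are equal. -/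
theorem eq_of_special {P Q : Subgroup S} (hP : Nat.card P = 27) (hQ : Nat.card Q = 27) {z : S}
    (hzs : Special C z) (hzP : z ∈ P) (hzQ : z ∈ Q) : P = Q := by
  haveI : Fact (Nat.Prime 3) := ⟨Nat.prime_three⟩
  set H := centralizer ({z} : Set S)
  have hle : ∀ R : Subgroup S, Nat.card R = 27 → z ∈ R → R ≤ H := fun R hR hzR r hr =>
    mem_centralizer_singleton_iff.2 (special_comm h C hR hzR hzs hr)
  -- intersections larger than `⟨z⟩` force equality
  have nine : ∀ R R' : Subgroup S, Nat.card R = 27 → Nat.card R' = 27 → z ∈ R → z ∈ R' →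
      Nat.card (R ⊓ R' : Subgroup S) = 9 → False := by
    intro R R' hR hR' hzR hzR' hD
    set D := R ⊓ R'
    have hnorm : ∀ T : Subgroup S, Nat.card T = 27 → D ≤ T → T ≤ normalizer (D : Set S) := by
      intro T hT hDT
      have hlt : D < T := lt_of_le_of_ne hDT fun e => by rw [e, hT] at hD; norm_num at hD
      have h1 := SmallSimple.lt_inf_normalizer (IsPGroup.of_card (G := T) (p := 3) (n := 3) (by rw [hT]; norm_num)) hlt
      have h2 := card_dvd_of_le h1.le
      have h3 := card_dvd_of_le (inf_le_left : T ⊓ normalizer (D : Set S) ≤ T)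
      rw [hT] at h3
      rw [hD] at h2
      have hm : Nat.card (T ⊓ normalizer (D : Set S) : Subgroup S) ∈ (27 : ℕ).divisors :=
        Nat.mem_divisors.2 ⟨h3, by norm_num⟩
      rw [show (27 : ℕ).divisors = {1, 3, 9, 27} by decide] at hm
      simp only [Finset.mem_insert, Finset.mem_singleton] at hm
      rcases hm with e | e | e | e
      · rw [e] at h2; norm_num at h2
      · rw [e] at h2; norm_num at h2
      · exact absurd (eq_of_le_of_card_ge h1.le (by rw [e, hD])) h1.ne
      · exact le_of_eq_of_le (eq_of_le_of_card_ge inf_le_left (by rw [e, hT])).symm inf_le_right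
    set L := R ⊔ R'
    have hLD : L ≤ normalizer (D : Set S) :=
      sup_le (hnorm R hR inf_le_left) (hnorm R' hR' inf_le_right)
    obtain ⟨x, hxD, hxz⟩ : ∃ x ∈ D, x ∉ zpowers z := by
      by_contra hall
      push Not at hall
      have := card_le_of_le (H := D) (K := zpowers z) hall
      rw [hD, Nat.card_zpowers, hzs.1] at this
      omega
    have hx1 : x ≠ 1 := fun e => hxz (e ▸ one_mem _)
    have hns : ¬ Special C x := fun hs => hxz (special_mem_zpowers h C hR hzR hzs hxD.1 hs)
    obtain ⟨hc, -⟩ := centralizer_nonspecial h C hR hxD.1 hx1 hns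
    have hidx : ((centralizer ({x} : Set S)).subgroupOf L).index ≤ Nat.card D := by
      let f : (↥L ⧸ (centralizer ({x} : Set S)).subgroupOf L) → D := Quotient.lift
        (fun k : L => (⟨(k : S) * x * (k : S)⁻¹, (mem_normalizer_iff.1 (hLD k.2) x).1 hxD⟩ : D))
        (fun k k' hk => by
          replace hk := QuotientGroup.leftRel_apply.1 hk
          rw [mem_subgroupOf, mem_centralizer_singleton_iff] at hk
          refine Subtype.ext ?_
          push_cast at hk
          calc (k : S) * x * (k : S)⁻¹ = (k : S) * (x * ((k : S)⁻¹ * k')) * (k' : S)⁻¹ := by group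
            _ = (k' : S) * x * (k' : S)⁻¹ := by rw [← hk]; group)
      refine Nat.card_le_card_of_injective f ?_
      intro q q' he
      induction q using QuotientGroup.induction_on with | H k => ?_
      induction q' using QuotientGroup.induction_on with | H k' => ?_
      rw [QuotientGroup.eq, mem_subgroupOf, mem_centralizer_singleton_iff]
      have he' : (k : S) * x * (k : S)⁻¹ = (k' : S) * x * (k' : S)⁻¹ := congrArg Subtype.val he
      push_cast
      calc (k : S)⁻¹ * k' * x = (k : S)⁻¹ * ((k' : S) * x * (k' : S)⁻¹) * k' := by group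
        _ = x * ((k : S)⁻¹ * k') := by rw [← he']; group
    have hL81 : Nat.card L ≤ 81 := by
      rw [← card_mul_index ((centralizer ({x} : Set S)).subgroupOf L)]
      have hck : Nat.card ((centralizer ({x} : Set S)).subgroupOf L) ≤ 9 := by
        rw [← hc]
        exact Nat.card_le_card_of_injective
          (fun k => (⟨((k : L) : S), k.2⟩ : centralizer ({x} : Set S))) fun a b e => by
            have := congrArg Subtype.val e
            exact Subtype.ext (Subtype.ext this)
      rw [hD] at hidx
      exact (Nat.mul_le_mul hck hidx).trans_eq (by norm_num)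
    have h27 : 27 ∣ Nat.card L := hR ▸ card_dvd_of_le le_sup_left
    have hS' : Nat.card L ∣ 6048 := h.card ▸ card_subgroup_dvd_card L
    have hL54 : Nat.card L ≤ 54 := by
      obtain ⟨j, hj⟩ := h27
      rw [hj] at hL81 hS' ⊢
      have hj3 : j ≤ 3 := by omega
      interval_cases j <;> first | omega | (norm_num at hS')
    have hr1 : R.relIndex L ≤ 2 := by
      have := card_mul_index (R.subgroupOf L)
      rw [Nat.card_congr (subgroupOfEquivOfLe (le_sup_left : R ≤ L)).toEquiv, hR] at this
      rw [relIndex]; omega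
    have hr2 : R.relIndex R' = 3 := by
      have := card_mul_index (R.subgroupOf R')
      rw [← inf_subgroupOf_right, Nat.card_congr (subgroupOfEquivOfLe (inf_le_right : D ≤ R')).toEquiv,
        hD, hR', inf_subgroupOf_right] at this
      rw [relIndex]; omega
    have : R.relIndex R' ≤ R.relIndex L := relIndex_le_of_le_right (le_sup_right : R' ≤ R ⊔ R') (by
      rw [relIndex]; exact index_ne_zero_of_finite)
    omega
  -- Sylow's theorem in `C(z)`
  by_contra hPQ
  have hzH : ∀ R : Subgroup S, Nat.card R = 27 → z ∈ R →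
      Nat.card (R.subgroupOf H) = 3 ^ (Nat.card H).factorization 3 := by
    intro R hR hzR
    rw [Nat.card_congr (subgroupOfEquivOfLe (hle R hR hzR)).toEquiv, hR]
    have h1 : 3 ^ 3 ∣ Nat.card H := by
      have := card_dvd_of_le (hle R hR hzR); rw [hR] at this; simpa using this
    have h2 : Nat.card H ∣ 6048 := h.card ▸ card_subgroup_dvd_card H
    have l1 := ((Nat.Prime.pow_dvd_iff_le_factorization Nat.prime_three Nat.card_pos.ne').1 h1)
    have l2 := (Nat.factorization_le_iff_dvd Nat.card_pos.ne' (by norm_num)).2 h2 3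
    rw [show (6048 : ℕ) = 3 ^ 3 * 224 by norm_num,
      Nat.factorization_mul (by norm_num) (by norm_num), Finsupp.add_apply,
      Nat.Prime.factorization_pow (by norm_num), Finsupp.single_eq_same,
      Nat.factorization_eq_zero_of_not_dvd (n := 224) (by norm_num)] at l2
    rw [show (Nat.card H).factorization 3 = 3 by omega]; norm_num
  let P' : Sylow 3 H := Sylow.ofCard (P.subgroupOf H) (hzH P hP hzP)
  let Q' : Sylow 3 H := Sylow.ofCard (Q.subgroupOf H) (hzH Q hQ hzQ)
  have hne : Q' ≠ P' := fun e => hPQ (by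
    have e' : Q.subgroupOf H = P.subgroupOf H := by
      have := congrArg (fun T : Sylow 3 H => (T : Subgroup H)) e
      simpa [P', Q'] using this
    have := congrArg (map H.subtype) e'
    rw [map_subgroupOf_eq_of_le (hle Q hQ hzQ), map_subgroupOf_eq_of_le (hle P hP hzP)] at this
    exact this.symm)
  have hind : ∀ T : Sylow 3 H, T ≠ P' → 3 ^ 2 ∣ ((T : Subgroup H).subgroupOf (P' : Subgroup H)).index := by
    intro T hT
    set R := (T : Subgroup H).map H.subtype
    have hR : Nat.card R = 27 := by
      rw [card_map_of_injective H.subtype_injective, T.card_eq_multiplicity, ← hzH P hP hzP,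
        Nat.card_congr (subgroupOfEquivOfLe (hle P hP hzP)).toEquiv, hP]
    have hzT : z ∈ R := by
      have hzH' : z ∈ H := mem_centralizer_singleton_iff.2 rfl
      obtain ⟨T', hT'⟩ := (IsPGroup.of_card (G := zpowers (⟨z, hzH'⟩ : H)) (p := 3) (n := 1)
        (by rw [Nat.card_zpowers, orderOf_mk, hzs.1]; norm_num)).exists_le_sylow
      obtain ⟨g, rfl⟩ := MulAction.exists_smul_eq H T' T
      refine ⟨⟨z, hzH'⟩, ?_, rfl⟩
      rw [Sylow.coe_subgroup_smul]
      refine ⟨⟨z, hzH'⟩, hT' (mem_zpowers _), ?_⟩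
      refine Subtype.ext ?_
      show (g : S) * z * (g : S)⁻¹ = z
      rw [mem_centralizer_singleton_iff.1 g.2, mul_inv_cancel_right]
    have hz3 : Nat.card (zpowers z) = 3 := by rw [Nat.card_zpowers, hzs.1]
    have h1 : 3 ∣ Nat.card (P ⊓ R : Subgroup S) := hz3 ▸ card_dvd_of_le (le_inf (zpowers_le.2 hzP) (zpowers_le.2 hzT))
    have h2 : Nat.card (P ⊓ R : Subgroup S) ∣ 27 := hP ▸ card_dvd_of_le inf_le_left
    have h3 : Nat.card (P ⊓ R : Subgroup S) ≠ 9 := fun e => nine P R hP hR hzP hzT e
    have h4 : Nat.card (P ⊓ R : Subgroup S) ≠ 27 := fun e => hT (by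
      have hPR : P = R := (eq_of_le_of_card_ge inf_le_left (by rw [e, hP])).symm.trans
        (eq_of_le_of_card_ge inf_le_right (by rw [e, hR]))
      refine Sylow.ext ?_
      show (T : Subgroup H) = P.subgroupOf H
      rw [hPR]
      exact (comap_map_eq_self_of_injective H.subtype_injective _).symm)
    have hD : Nat.card (P ⊓ R : Subgroup S) = 3 := by
      have hm : Nat.card (P ⊓ R : Subgroup S) ∈ (27 : ℕ).divisors := Nat.mem_divisors.2 ⟨h2, by norm_num⟩
      rw [show (27 : ℕ).divisors = {1, 3, 9, 27} by decide] at hm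
      simp only [Finset.mem_insert, Finset.mem_singleton] at hm
      rcases hm with e | e | e | e
      · rw [e] at h1; norm_num at h1
      · exact e
      · exact absurd e h3
      · exact absurd e h4
    have hcard : Nat.card ((T : Subgroup H) ⊓ (P' : Subgroup H) : Subgroup H) = 3 := by
      refine Eq.trans ?_ hD
      rw [← card_map_of_injective H.subtype_injective, map_inf _ _ _ H.subtype_injective, inf_comm]
      exact congrArg (fun A : Subgroup S => Nat.card (A ⊓ R : Subgroup S))
        (map_subgroupOf_eq_of_le (hle P hP hzP))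
    have hidx := card_mul_index ((T : Subgroup H).subgroupOf (P' : Subgroup H))
    rw [← inf_subgroupOf_right, Nat.card_congr (subgroupOfEquivOfLe
        (inf_le_right : (T : Subgroup H) ⊓ (P' : Subgroup H) ≤ _)).toEquiv, hcard,
      P'.card_eq_multiplicity, ← hzH P hP hzP,
      Nat.card_congr (subgroupOfEquivOfLe (hle P hP hzP)).toEquiv, hP, inf_subgroupOf_right] at hidx
    exact ⟨1, by omega⟩
  obtain ⟨j, hj⟩ := card_sylow_modEq_pow P' hind
  have hH7 : ¬ 7 ∣ Nat.card H := fun h7 => by
    haveI : Fact (Nat.Prime 7) := ⟨by norm_num⟩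
    obtain ⟨⟨c, hc⟩, hoc⟩ := exists_prime_orderOf_dvd_card' 7 h7
    rw [orderOf_mk] at hoc
    refine h.no21 (z * c) ?_
    rw [(show Commute z c from (mem_centralizer_singleton_iff.1 hc).symm).orderOf_mul_eq_mul_orderOf_of_coprime
      (by rw [hzs.1, hoc]; norm_num), hzs.1, hoc]
  have hcount : Nat.card (Sylow 3 H) ∣ 32 := by
    have h1 := SmallSimple.card_sylow_mul_card_normalizer P'
    have h2 : Nat.card (Sylow 3 H) * 27 ∣ Nat.card H := by
      rw [← h1]
      refine mul_dvd_mul_left _ ?_
      have := card_dvd_of_le (le_normalizer : (P' : Subgroup H) ≤ normalizer _)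
      rwa [P'.card_eq_multiplicity, ← hzH P hP hzP,
        Nat.card_congr (subgroupOfEquivOfLe (hle P hP hzP)).toEquiv, hP] at this
    obtain ⟨i, hi⟩ := h2.trans (h.card ▸ card_subgroup_dvd_card H : Nat.card H ∣ 6048)
    have h3 : Nat.card (Sylow 3 H) ∣ 224 := ⟨i, by nlinarith⟩
    have h7 : ¬ 7 ∣ Nat.card (Sylow 3 H) := fun h7 =>
      hH7 (h7.trans (dvd_trans (dvd_mul_right _ 27) h2))
    exact ((Nat.Prime.coprime_iff_not_dvd (by norm_num)).2 h7).symm.dvd_of_dvd_mul_left
      (show Nat.card (Sylow 3 H) ∣ 7 * 32 from h3)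
  have h1 : Nat.card (Sylow 3 H) = 1 := by
    have hm : Nat.card (Sylow 3 H) ∈ (32 : ℕ).divisors := Nat.mem_divisors.2 ⟨hcount, by norm_num⟩
    rw [show (32 : ℕ).divisors = {1, 2, 4, 8, 16, 32} by decide] at hm
    simp only [Finset.mem_insert, Finset.mem_singleton] at hm
    norm_num at hj
    omega
  haveI := (Nat.card_eq_one_iff_unique.1 h1).1
  exact hne (Subsingleton.elim _ _)

include h in
/-- Distinct Sylow 3-subgroups meet trivially. -/
theorem inf_eq_bot {P Q : Subgroup S} (hP : Nat.card P = 27) (hQ : Nat.card Q = 27) (hne : P ≠ Q) :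
    P ⊓ Q = ⊥ := by
  obtain ⟨y, -, ⟨C⟩⟩ := exists_chars h
  rw [eq_bot_iff]
  intro x hx
  rw [mem_bot]
  by_contra hx1
  by_cases hs : Special C x
  · exact hne (eq_of_special h C hP hQ hs hx.1 hx.2)
  obtain ⟨z, hz, hzs, -⟩ := exists_special h C hQ
  have hzx : z ∈ centralizer ({x} : Set S) :=
    mem_centralizer_singleton_iff.2 (special_comm h C hQ hz hzs hx.2).symm
  exact hne (eq_of_special h C hP hQ hzs ((centralizer_nonspecial h C hP hx.1 hx1 hs).2 hzx) hz)

include h in
/-- There are 28 Sylow 3-subgroups. -/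
theorem card_sylow_three [Fact (Nat.Prime 3)] : Nat.card (Sylow 3 S) = 28 := by
  obtain ⟨P⟩ : Nonempty (Sylow 3 S) := inferInstance
  have hc : ∀ Q : Sylow 3 S, Nat.card (Q : Subgroup S) = 27 := fun Q => by
    rw [Q.card_eq_multiplicity, h.card, show (6048 : ℕ) = 3 ^ 3 * 224 by norm_num,
      Nat.factorization_mul (by norm_num) (by norm_num), Finsupp.add_apply,
      Nat.Prime.factorization_pow (by norm_num), Finsupp.single_eq_same,
      Nat.factorization_eq_zero_of_not_dvd (n := 224) (by norm_num)]
    norm_num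
  obtain ⟨j, hj⟩ := card_sylow_modEq_pow (k := 3) P fun Q hQ => by
    have hb := inf_eq_bot h (hc Q) (hc P) fun e => hQ (Sylow.ext e)
    rw [← inf_subgroupOf_right, hb, bot_subgroupOf, index_bot, hc P]
    norm_num
  have hd : Nat.card (Sylow 3 S) ∣ 224 := by
    have h1 := SmallSimple.card_sylow_mul_card_normalizer P
    obtain ⟨i, hi⟩ : 27 ∣ Nat.card (normalizer ((P : Subgroup S) : Set S)) :=
      (hc P).symm.dvd.trans (card_dvd_of_le le_normalizer)
    rw [hi, h.card] at h1
    exact ⟨i, by nlinarith⟩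
  have hm : Nat.card (Sylow 3 S) ∈ (224 : ℕ).divisors := Nat.mem_divisors.2 ⟨hd, by norm_num⟩
  rw [show (224 : ℕ).divisors = {1, 2, 4, 7, 8, 14, 16, 28, 32, 56, 112, 224} by decide] at hm
  simp only [Finset.mem_insert, Finset.mem_singleton] at hm
  rw [show (3 : ℕ) ^ 3 = 27 by norm_num] at hj
  have hne1 : Nat.card (Sylow 3 S) ≠ 1 := by
    haveI := h.simple
    have := SmallSimple.five_le_card_sylow (p := 3) h.nonabelian (by rw [h.card]; norm_num)
    omega
  omega

end Cfsg.Agent.G2TwoRecog
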