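import Cfsg.Agent.Lib.G2TwoRecog.Frame

/-!
# Uniqueness of the simple group of order 6048 without elements of order 9, 14 or 21
-/

set_option autoImplicit false
set_option linter.style.haveILetI false
set_option linter.unusedSectionVars false

open Cfsg Cfsg.Agent Subgroup MulAction

namespace Cfsg.Agent.G2TwoRecog

universe u v

/-- Left translation of the 28 points. -/
def Tmap (u : V) (p : Option V) : Option V := p.map (vmul u)

/-- The action of `g` on the 28 points. -/
def Gmap (n : ℕ) (p : Option V) : Option V := p.map gam^[n]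

/-- The first orbit representative other than `r`. -/
def oth₁ (r : Fin 3) : Fin 3 := if r = 0 then 1 else 0

/-- The second orbit representative other than `r`. -/
def oth₂ (r : Fin 3) : Fin 3 := if r = 2 then 1 else 2

/-- The possible involutions, as tables. -/
def pairs (r : Fin 3) (m : Fin 8) : List (Option V × Option V) :=
  [(none, some 0), (some 0, none), (some (0, 0, 1), some (0, 0, 2)), (some (0, 0, 2), some (0, 0, 1))] ++
  (List.finRange 8).flatMap fun i =>
    [(some (gam^[i.val] (rep r)), some (gam^[5 * i.val % 8] (rep r))),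
     (some (gam^[i.val] (rep (oth₁ r))), some (gam^[(5 * i.val + m.val) % 8] (rep (oth₂ r)))),
     (some (gam^[(5 * i.val + m.val) % 8] (rep (oth₂ r))), some (gam^[i.val] (rep (oth₁ r))))]

/-- The possible involutions, as functions. -/
def cand (r : Fin 3) (m : Fin 8) (p : Option V) : Option V :=
  (((pairs r m).find? fun pr => decide (pr.1 = p)).map Prod.snd).getD none

theorem cand_total : ∀ r : Fin 3, ∀ m : Fin 8, ∀ p : Option V,
    ∃ pr ∈ pairs r m, pr.1 = p ∧ cand r m p = pr.2 := by decide +kernel

/-- The word in `f` and translations which fixes the first point. -/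
def hword (f : Option V → Option V) (u : V) (p : Option V) : Option V :=
  f (Tmap (vinv ((f (some u)).getD 0)) (f (Tmap u (f p))))

/-- The word acts as an element of the point stabiliser. -/
def Good (f : Option V → Option V) (u : V) : Prop :=
  ∃ i : Fin 8, ∀ p : V, hword f u (some p) =
    some (vmul ((hword f u (some 0)).getD 0) (gam^[i.val] p))

instance (f : Option V → Option V) (u : V) : Decidable (Good f u) := by unfold Good; infer_instance

/-- The witness excluding a table. -/
def witness (m : Fin 8) : V := if m.val % 2 = 0 then (0, 0, 1) else (0, 1, 0)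

theorem witness_ne : ∀ m : Fin 8, witness m ≠ 0 := by decide +kernel

theorem not_good : ∀ r : Fin 3, ∀ m : Fin 8, (r, m) ≠ (2, 3) → ¬ Good (cand r m) (witness m) := by
  decide +kernel

theorem gam_rep_inj : ∀ r s : Fin 3, ∀ i j : Fin 8,
    gam^[i.val] (rep r) = gam^[j.val] (rep s) → r = s ∧ i = j := by decide +kernel

theorem gam_rep_ne : ∀ r : Fin 3, ∀ i : Fin 8, gam^[i.val] (rep r) ≠ 0 ∧
    gam^[i.val] (rep r) ≠ (0, 0, 1) ∧ gam^[i.val] (rep r) ≠ (0, 0, 2) := by decide +kernel

theorem gam_eight : ∀ v : V, gam^[8] v = v := by decide +kernel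

theorem gam_ne_zero : ∀ v : V, v ≠ 0 → gam v ≠ 0 := by decide +kernel

theorem gam_zero : gam 0 = 0 := by decide +kernel

theorem gam_mod (n : ℕ) (v : V) : gam^[n] v = gam^[n % 8] v := by
  conv_lhs => rw [← Nat.mod_add_div n 8, Function.iterate_add_apply, Function.iterate_mul,
    show gam^[8] = id from funext gam_eight, Function.iterate_id, id_eq]

theorem others : ∀ r j : Fin 3, j ≠ r → j = oth₁ r ∨ j = oth₂ r := by decide +kernel

theorem others_ne : ∀ r : Fin 3, oth₁ r ≠ r ∧ oth₂ r ≠ r ∧ oth₁ r ≠ oth₂ r := by decide +kernel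

theorem vmul_zero' : ∀ v : V, vmul v 0 = v := by decide +kernel

theorem z_cases : ∀ v : V, v.1 = 0 → v.2.1 = 0 → v = 0 ∨ v = (0, 0, 1) ∨ v = (0, 0, 2) := by
  decide +kernel

namespace Frame

variable {S : Type u} [Group S] [Fintype S] [Fact (Nat.Prime 3)] (F : Frame S)

/-- The labelling of the points. -/
def pt : Option V → Sylow 3 S
  | none => F.P
  | some v => coord F.x F.y F.z v • F.q

theorem coord_smul_P (v : V) : coord F.x F.y F.z v • F.P = F.P := smul_self_of_mem (F.mem v)

theorem pt_bijective (h : Hyp S) : Function.Bijective F.pt := by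
  refine (Nat.bijective_iff_injective_and_card _).2 ⟨?_, ?_⟩
  · have hne : ∀ v, coord F.x F.y F.z v • F.q ≠ F.P := fun v e =>
      F.qne (smul_left_cancel _ (e.trans (F.coord_smul_P v).symm))
    rintro (_ | a) (_ | b) e
    · rfl
    · exact absurd e.symm (hne b)
    · exact absurd e (hne a)
    · have := eq_one_of_smul_eq h F.qne (mul_mem (inv_mem (F.mem b)) (F.mem a))
        (by rw [mul_smul, show coord F.x F.y F.z a • F.q = coord F.x F.y F.z b • F.q from e, inv_smul_smul])
      rw [F.inj (inv_mul_eq_one.1 this).symm]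
  · rw [card_sylow_three h, Finite.card_option]
    simp [V, Nat.card_prod, Nat.card_eq_fintype_card, ZMod.card]

/-- The labelling as an equivalence. -/
noncomputable def ptEquiv (h : Hyp S) : Option V ≃ Sylow 3 S := Equiv.ofBijective _ (F.pt_bijective h)

/-- The permutation representation on the labels. -/
noncomputable def rho (h : Hyp S) : S →* Equiv.Perm (Option V) :=
  ((F.ptEquiv h).symm.permCongrHom.toMonoidHom).comp (MulAction.toPermHom S (Sylow 3 S))

theorem rho_eq_iff (h : Hyp S) (s : S) (p p' : Option V) :
    F.rho h s p = p' ↔ s • F.pt p = F.pt p' := by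
  show (F.ptEquiv h).symm (s • F.pt p) = p' ↔ _
  rw [Equiv.symm_apply_eq]
  rfl

theorem rho_coord (h : Hyp S) (u : V) (p : Option V) :
    F.rho h (coord F.x F.y F.z u) p = Tmap u p := by
  rw [rho_eq_iff]
  cases p with
  | none => exact F.coord_smul_P u
  | some v =>
    show _ • coord F.x F.y F.z v • F.q = coord F.x F.y F.z (vmul u v) • F.q
    rw [← mul_smul, F.heis.coord_mul]

theorem g_pow_smul (n : ℕ) : F.g ^ n • F.P = F.P ∧ F.g ^ n • F.q = F.q := by
  induction n with
  | zero => simp
  | succ n ih => rw [pow_succ, mul_smul, mul_smul, F.gP, F.gq]; exact ih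

theorem rho_g (h : Hyp S) (n : ℕ) (p : Option V) : F.rho h (F.g ^ n) p = Gmap n p := by
  rw [rho_eq_iff]
  cases p with
  | none => exact (F.g_pow_smul n).1
  | some v =>
    show _ • coord F.x F.y F.z v • F.q = coord F.x F.y F.z (gam^[n] v) • F.q
    rw [← conj_coord_pow F.heis F.gx F.gy F.gz v n, mul_smul _ (F.g ^ n)⁻¹,
      inv_smul_eq_iff.2 (F.g_pow_smul n).2.symm, mul_smul]

/-- The action of `w` on the labels. -/
noncomputable def f (h : Hyp S) : Option V → Option V := fun p => F.rho h F.w p

theorem f_none (h : Hyp S) : F.f h none = some 0 := by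
  show F.rho h F.w none = _
  rw [rho_eq_iff]
  show F.w • F.P = coord F.x F.y F.z 0 • F.q
  rw [F.heis.coord_zero, one_smul, F.wP]

theorem f_f (h : Hyp S) (p : Option V) : F.f h (F.f h p) = p := by
  show F.rho h F.w (F.rho h F.w p) = p
  rw [← Equiv.Perm.mul_apply, ← map_mul, F.ww, map_one, Equiv.Perm.one_apply]

theorem f_zero (h : Hyp S) : F.f h (some 0) = none := by rw [← F.f_none h, f_f]

theorem f_z (h : Hyp S) : F.f h (some (0, 0, 1)) = some (0, 0, 2) := by
  show F.rho h F.w _ = _
  rw [rho_eq_iff]
  exact F.wz

theorem f_gam (h : Hyp S) (n : ℕ) (p : Option V) :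
    F.f h (Gmap n p) = Gmap (5 * n) (F.f h p) := by
  show F.rho h F.w _ = _
  rw [← rho_g F h, ← rho_g F h, f]
  rw [← Equiv.Perm.mul_apply, ← Equiv.Perm.mul_apply, ← map_mul, ← map_mul]
  congr 2
  induction n with
  | zero => simp
  | succ n ih =>
    rw [pow_succ F.g n, ← mul_assoc, ih, mul_assoc, F.wg, ← mul_assoc, ← pow_add,
      show 5 * (n + 1) = 5 * n + 5 by ring]

theorem w_ne_one : F.w ≠ 1 := fun e => F.qne (by rw [← F.wP, e, one_smul])

theorem orderOf_w : orderOf F.w = 2 := orderOf_eq_prime (by rw [pow_two, F.ww]) F.w_ne_one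

/-- `f` fixes at most four points. -/
theorem card_fixed_le (h : Hyp S) (e : Fin 5 → Option V) (he : Function.Injective e)
    (hfix : ∀ i, F.f h (e i) = e i) : False := by
  let k : Fin 5 → fixedBy (Sylow 3 S) F.w := fun i =>
    ⟨F.pt (e i), (F.rho_eq_iff h F.w (e i) (e i)).1 (hfix i)⟩
  have := Nat.card_le_card_of_injective k fun i j hij =>
    he ((F.pt_bijective h).1 (congrArg Subtype.val hij))
  rw [card_fixedBy_eq_four h F.orderOf_w, Nat.card_eq_fintype_card, Fintype.card_fin] at this
  omega

theorem exists_cand (h : Hyp S) : ∃ r : Fin 3, ∃ m : Fin 8, F.f h = cand r m := by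
  obtain ⟨r, hr⟩ := F.wrep
  have hfr : F.f h (some (rep r)) = some (rep r) := (F.rho_eq_iff h _ _ _).2 hr
  have hfri : ∀ n : ℕ, F.f h (some (gam^[n] (rep r))) = some (gam^[5 * n % 8] (rep r)) := fun n => by
    have := F.f_gam h n (some (rep r))
    rw [hfr] at this
    rw [← gam_mod]; exact this
  have hz2 : F.f h (some (0, 0, 2)) = some (0, 0, 1) := by rw [← F.f_z h, f_f]
  -- the image of the first other representative
  obtain ⟨m, hm⟩ : ∃ m : Fin 8, F.f h (some (rep (oth₁ r))) = some (gam^[m.val] (rep (oth₂ r))) := by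
    set s := oth₁ r
    have hs0 : gam^[(0 : Fin 8).val] (rep s) = rep s := rfl
    cases hv : F.f h (some (rep s)) with
    | none =>
      rw [← F.f_zero h] at hv
      have := congrArg (F.f h) hv
      rw [f_f, f_f] at this
      exact absurd (Option.some.inj this) (hs0 ▸ (gam_rep_ne s 0).1)
    | some v =>
      have hback : F.f h (some v) = some (rep s) := by rw [← hv, f_f]
      rcases gam_orbits v with ⟨h1, h2⟩ | ⟨j, i, hji⟩
      · exfalso
        rcases z_cases v h1 h2 with rfl | rfl | rfl
        · rw [F.f_zero h] at hback; exact absurd hback (by simp)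
        · rw [F.f_z h] at hback
          exact (gam_rep_ne s 0).2.2 (by rw [hs0]; exact (Option.some.inj hback).symm)
        · rw [hz2] at hback
          exact (gam_rep_ne s 0).2.1 (by rw [hs0]; exact (Option.some.inj hback).symm)
      · subst hji
        by_cases hjr : j = r
        · exfalso
          subst hjr
          rw [hfri] at hback
          exact (others_ne j).1 (gam_rep_inj j s ⟨5 * i.val % 8, Nat.mod_lt _ (by norm_num)⟩ 0
            (Option.some.inj hback)).1.symm
        rcases others r j hjr with rfl | rfl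
        · exfalso
          have hgi : ∀ n : ℕ, F.f h (some (gam^[n] (rep s))) = some (gam^[(5 * n + i.val) % 8] (rep s)) :=
            fun n => by
              have h1 : F.f h (some (gam^[n] (rep s))) = Gmap (5 * n) (F.f h (some (rep s))) :=
                F.f_gam h n (some (rep s))
              rw [hv] at h1
              rw [← gam_mod, Function.iterate_add_apply]; exact h1
          rw [hgi] at hback
          have h6 : (5 * i.val + i.val) % 8 = 0 := congrArg Fin.val (gam_rep_inj s s
            ⟨(5 * i.val + i.val) % 8, Nat.mod_lt _ (by norm_num)⟩ 0 (Option.some.inj hback)).2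
          -- a fifth fixed point
          obtain ⟨k, hk⟩ : ∃ k : Fin 2, F.f h (some (gam^[k.val] (rep s))) = some (gam^[k.val] (rep s)) := by
            rcases (show i.val = 0 ∨ i.val = 4 by omega) with e | e
            · exact ⟨0, by rw [hgi, e]; rfl⟩
            · exact ⟨1, by rw [hgi, e]; rfl⟩
          refine F.card_fixed_le h (Fin.cons (some (gam^[k.val] (rep s)))
            fun a : Fin 4 => some (gam^[2 * a.val] (rep r))) ?_ ?_
          · intro a b hab
            induction a using Fin.cases with
            | zero =>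
              induction b using Fin.cases with
              | zero => rfl
              | succ b =>
                simp only [Fin.cons_zero, Fin.cons_succ, Option.some.injEq] at hab
                exact absurd (gam_rep_inj s r ⟨k.val, by omega⟩ ⟨2 * b.val, by omega⟩ hab).1 (others_ne r).1
            | succ a =>
              induction b using Fin.cases with
              | zero =>
                simp only [Fin.cons_zero, Fin.cons_succ, Option.some.injEq] at hab
                exact absurd (gam_rep_inj r s ⟨2 * a.val, by omega⟩ ⟨k.val, by omega⟩ hab).1.symm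
                  (others_ne r).1
              | succ b =>
                simp only [Fin.cons_succ, Option.some.injEq] at hab
                have := congrArg Fin.val
                  (gam_rep_inj r r ⟨2 * a.val, by omega⟩ ⟨2 * b.val, by omega⟩ hab).2
                exact congrArg Fin.succ (Fin.ext (by simpa using this))
          · intro a
            induction a using Fin.cases with
            | zero => simpa using hk
            | succ a =>
              simp only [Fin.cons_succ]
              rw [hfri, show 5 * (2 * a.val) % 8 = 2 * a.val by omega]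
        · exact ⟨i, rfl⟩
  refine ⟨r, m, funext fun p => ?_⟩
  obtain ⟨pr, hpr, hp1, hp2⟩ := cand_total r m p
  have hgs : ∀ n : ℕ, F.f h (some (gam^[n] (rep (oth₁ r)))) =
      some (gam^[(5 * n + m.val) % 8] (rep (oth₂ r))) := fun n => by
    have h1 : F.f h (some (gam^[n] (rep (oth₁ r)))) = Gmap (5 * n) (F.f h (some (rep (oth₁ r)))) :=
      F.f_gam h n (some (rep (oth₁ r)))
    rw [hm] at h1
    rw [← gam_mod, Function.iterate_add_apply]; exact h1
  have hpair : F.f h pr.1 = pr.2 := by
    simp only [pairs, List.mem_append, List.mem_cons, List.not_mem_nil, or_false, List.mem_flatMap,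
      List.mem_finRange, true_and] at hpr
    rcases hpr with (e | e | e | e) | ⟨i, e | e | e⟩ <;> subst e
    · exact F.f_none h
    · exact F.f_zero h
    · exact F.f_z h
    · exact hz2
    · exact hfri i.val
    · exact hgs i.val
    · show F.f h (some (gam^[(5 * i.val + m.val) % 8] (rep (oth₂ r)))) = _
      rw [← hgs, f_f]
  rw [hp2, ← hp1, hpair]

/-- The point stabiliser. -/
theorem exists_stab (h : Hyp S) {s : S} (hs : s • F.P = F.P) :
    ∃ c : V, ∃ i : Fin 8, s = coord F.x F.y F.z c * F.g ^ i.val := by
  have hog : orderOf F.g = 8 := orderOf_eq_prime_pow (p := 2) (n := 2) F.g4 F.g8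
  let k : V × Fin 8 → stabilizer S F.P := fun o => ⟨coord F.x F.y F.z o.1 * F.g ^ o.2.val, by
    rw [mem_stabilizer_iff, mul_smul, (F.g_pow_smul _).1, F.coord_smul_P]⟩
  have hk : Function.Bijective k := by
    refine (Nat.bijective_iff_injective_and_card _).2 ⟨?_, ?_⟩
    · rintro ⟨a, i⟩ ⟨b, j⟩ e
      have e' : coord F.x F.y F.z a * F.g ^ i.val = coord F.x F.y F.z b * F.g ^ j.val :=
        congrArg Subtype.val e
      have e1 : F.pt (some a) = F.pt (some b) := by
        have := congrArg (fun t : S => t • F.q) e'
        simpa [mul_smul, (F.g_pow_smul _).2, pt] using this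
      have hab : a = b := Option.some.inj ((F.pt_bijective h).1 e1)
      subst hab
      have e2 := mul_left_cancel e'
      have hij : i = j := Fin.ext (by
        have := pow_injOn_Iio_orderOf (x := F.g) (by rw [hog]; exact i.isLt) (by rw [hog]; exact j.isLt) e2
        exact this)
      rw [hij]
    · rw [Sylow.stabilizer_eq_normalizer,
        show Nat.card (normalizer (F.P : Set S)) = 216 from card_normalizer_three h F.P]
      simp [V, Nat.card_prod, Nat.card_eq_fintype_card, ZMod.card]
  obtain ⟨⟨c, i⟩, hci⟩ := hk.2 ⟨s, hs⟩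
  exact ⟨c, i, (congrArg Subtype.val hci).symm⟩

theorem good_f (h : Hyp S) {u : V} (hu : u ≠ 0) : Good (F.f h) u := by
  obtain ⟨v, hv⟩ : ∃ v, F.f h (some u) = some v := by
    cases hv : F.f h (some u) with
    | none =>
      rw [← F.f_zero h] at hv
      have := congrArg (F.f h) hv
      rw [f_f, f_f] at this
      exact absurd (Option.some.inj this) hu
    | some v => exact ⟨v, rfl⟩
  set s := F.w * coord F.x F.y F.z (vinv v) * F.w * coord F.x F.y F.z u * F.w
  have hact : ∀ p, hword (F.f h) u p = F.rho h s p := fun p => by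
    simp only [s, hword, hv, Option.getD_some, map_mul, Equiv.Perm.mul_apply, ← rho_coord F h]
    rfl
  have hsP : s • F.P = F.P := by
    refine (F.rho_eq_iff h s none none).1 ?_
    rw [← hact]
    simp only [hword, F.f_none h, Tmap, Option.map_some, vmul_zero', hv, Option.getD_some,
      (vmul_vinv v).1, F.f_zero h]
  obtain ⟨c, i, hs⟩ := F.exists_stab h hsP
  have hval : ∀ p : V, hword (F.f h) u (some p) = some (vmul c (gam^[i.val] p)) := fun p => by
    rw [hact, hs, map_mul, Equiv.Perm.mul_apply, rho_g, rho_coord]
    rfl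
  refine ⟨i, fun p => ?_⟩
  rw [hval, hval, Function.iterate_fixed gam_zero, Option.getD_some, vmul_zero']

theorem f_eq (h : Hyp S) : F.f h = cand 2 3 := by
  obtain ⟨r, m, hrm⟩ := F.exists_cand h
  by_cases e : (r, m) = (2, 3)
  · obtain ⟨rfl, rfl⟩ := Prod.mk.inj e
    exact hrm
  · exact absurd (hrm ▸ F.good_f h (witness_ne m)) (not_good r m e)

/-- The generators of the permutation group. -/
def gens : Set (Equiv.Perm (Option V)) :=
  {σ | (∃ u, ∀ p, σ p = Tmap u p) ∨ (∀ p, σ p = Gmap 1 p) ∨ ∀ p, σ p = cand 2 3 p}

theorem range_rho (h : Hyp S) : (F.rho h).range = closure gens := by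
  have hw : F.rho h F.w ∈ closure gens :=
    subset_closure (Or.inr (Or.inr fun p => congrFun (F.f_eq h) p))
  have hc : ∀ u, F.rho h (coord F.x F.y F.z u) ∈ closure gens := fun u =>
    subset_closure (Or.inl ⟨u, F.rho_coord h u⟩)
  have hg : F.rho h F.g ∈ closure gens :=
    subset_closure (Or.inr (Or.inl fun p => by simpa using F.rho_g h 1 p))
  refine le_antisymm ?_ ((closure_le _).2 ?_)
  · rintro _ ⟨s, rfl⟩
    have key : ∀ s : S, s • F.P = F.P → F.rho h s ∈ closure gens := fun s hs => by
      obtain ⟨c, i, rfl⟩ := F.exists_stab h hs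
      rw [map_mul, map_pow]
      exact mul_mem (hc c) (pow_mem hg _)
    cases hv : F.rho h s none with
    | none => exact key s ((F.rho_eq_iff h s none none).1 hv)
    | some v =>
      have hs' : s • F.P = coord F.x F.y F.z v • F.q := (F.rho_eq_iff h s none (some v)).1 hv
      set t := coord F.x F.y F.z v * F.w
      have ht : (t⁻¹ * s) • F.P = F.P := by
        rw [mul_smul, hs', inv_smul_eq_iff, mul_smul, F.wP]
      have := mul_mem (mul_mem (hc v) hw) (key _ ht)
      rwa [← map_mul, ← map_mul, mul_inv_cancel_left] at this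
  · rintro σ (⟨u, hσ⟩ | hσ | hσ)
    · exact ⟨coord F.x F.y F.z u, Equiv.ext fun p => by rw [F.rho_coord, hσ]⟩
    · exact ⟨F.g, Equiv.ext fun p => by rw [hσ, ← F.rho_g h, pow_one]⟩
    · exact ⟨F.w, Equiv.ext fun p => by rw [hσ, ← congrFun (F.f_eq h) p]; rfl⟩

theorem rho_injective (h : Hyp S) : Function.Injective (F.rho h) := by
  haveI := h.simple
  rw [← MonoidHom.ker_eq_bot_iff]
  refine (F.rho h).normal_ker.eq_bot_or_eq_top.resolve_right fun e => ?_
  have hw : F.rho h F.w = 1 := MonoidHom.mem_ker.1 (e ▸ mem_top _)
  have := F.f_none h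
  rw [f, hw] at this
  exact absurd this (by simp)

end Frame

/-- Any two such groups are isomorphic. -/
theorem nonempty_mulEquiv {S : Type u} [Group S] [Finite S] {T : Type v} [Group T] [Finite T]
    (hS : Hyp S) (hT : Hyp T) : Nonempty (S ≃* T) := by
  haveI : Fact (Nat.Prime 3) := ⟨Nat.prime_three⟩
  letI := Fintype.ofFinite S
  letI := Fintype.ofFinite T
  obtain ⟨F⟩ := exists_frame hS
  obtain ⟨F'⟩ := exists_frame hT
  exact ⟨((MonoidHom.ofInjective (F.rho_injective hS)).trans
    (MulEquiv.subgroupCongr ((F.range_rho hS).trans (F'.range_rho hT).symm))).trans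
    (MonoidHom.ofInjective (F'.rho_injective hT)).symm⟩

end Cfsg.Agent.G2TwoRecog
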