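import Cfsg.Agent.Lib.CharInt.Eigen
import Cfsg.Agent.Lib.CharInt.Basic
import Cfsg.Agent.Lib.Clifford.CoprimeExtension
import Cfsg.Agent.Lib.SelfCentThree.CharData
import Cfsg.Agent.Lib.SmallCofactor.Basic
import Cfsg.Agent.Lib.Char.PRegular
import Cfsg.Agent.Lib.Char.ClassSum

/-!
# Character values at elements of order two, three and seven; structure constants
-/

set_option autoImplicit false
set_option linter.style.haveILetI false
set_option linter.unusedSectionVars false

open scoped ComplexConjugate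

namespace Cfsg.Agent.G2TwoRecog

open Cfsg Cfsg.Agent

universe u

variable {G : Type u} [Group G] [Fintype G]

/-- A real value at an element of order three is an integer determined by the fixed space. -/
theorem value_three {x : G} (hx : orderOf x = 3) (χ : IrrCharacter G)
    (hreal : conj (χ.1 x) = χ.1 x) :
    ∃ (a : ℤ) (k : ℕ), χ.1 x = a ∧ k ≤ Char.degree χ ∧ 2 * a = 3 * (k : ℤ) - Char.degree χ := by
  classical
  obtain ⟨n, μ, hn, hμ, hval⟩ := CharInt.exists_roots (Char.irr_isCharacter χ) x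
  have hd : Char.degree χ = n := by
    apply Nat.cast_injective (R := ℂ)
    rw [← Char.apply_one_eq_degree, hn]
  have hv : χ.1 x = ∑ i, μ i := by simpa using hval 1
  have hc : conj (χ.1 x) = ∑ i, μ i ^ 2 := by
    rw [← CharInt.char_inv (Char.irr_isCharacter χ) x,
      show x⁻¹ = x ^ 2 from inv_eq_of_mul_eq_one_right (by
        rw [← pow_succ']
        simpa [hx] using pow_orderOf_eq_one x), hval 2]
  set k := (Finset.univ.filter fun i => μ i = 1).card with hk
  have hterm : ∀ i, μ i + μ i ^ 2 = if μ i = 1 then (2 : ℂ) else -1 := fun i => by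
    by_cases h : μ i = 1
    · rw [if_pos h, h]; norm_num
    · rw [if_neg h]
      have h3 : (μ i - 1) * (μ i ^ 2 + μ i + 1) = 0 := by
        have := hμ i; rw [hx] at this; linear_combination this
      have := (mul_eq_zero.1 h3).resolve_left (sub_ne_zero.2 h)
      linear_combination this
  have h2 : (2 : ℂ) * χ.1 x = ((3 * (k : ℤ) - n : ℤ) : ℂ) := by
    calc (2 : ℂ) * χ.1 x = χ.1 x + conj (χ.1 x) := by rw [hreal]; ring
      _ = ∑ i, (μ i + μ i ^ 2) := by rw [hc, hv, Finset.sum_add_distrib]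
      _ = ∑ i, ((if μ i = 1 then (3 : ℂ) else 0) - 1) := by
        refine Finset.sum_congr rfl fun i _ => ?_
        rw [hterm]; split_ifs <;> norm_num
      _ = _ := by
        rw [Finset.sum_sub_distrib, ← Finset.sum_filter, Finset.sum_const, Finset.sum_const,
          Finset.card_univ, Fintype.card_fin, ← hk]
        push_cast [nsmul_eq_mul]
        ring
  obtain ⟨a, ha⟩ := Char.exists_int_of_isIntegral_mul
    (CharInt.isIntegral_char (Char.irr_isCharacter χ) x) (c := 2) (by norm_num)
    (N := 3 * (k : ℤ) - n) (by exact_mod_cast h2)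
  refine ⟨a, k, ha, hd ▸ (Finset.card_le_univ _).trans_eq (Fintype.card_fin n), ?_⟩
  rw [hd]
  rw [ha] at h2
  exact_mod_cast h2

/-- Strict bound on the integral value of a non-trivial irreducible character. -/
theorem abs_lt_degree [IsSimpleGroup G] (hG : ¬ IsMulCommutative G) {χ : IrrCharacter G}
    (hne : χ ≠ Char.trivialChar G) {g : G} (hg : g ≠ 1) {a : ℤ} (ha : χ.1 g = a) :
    -(Char.degree χ : ℤ) < a ∧ a < Char.degree χ := by
  have hle : |a| ≤ (Char.degree χ : ℤ) := by
    have h := CharInt.norm_char_le (Char.irr_isCharacter χ) g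
    rw [Char.apply_one_eq_degree, ha, Complex.norm_intCast, Complex.norm_natCast] at h
    exact_mod_cast h
  obtain ⟨h1, h2⟩ := abs_le.1 hle
  refine ⟨lt_of_le_of_ne h1 fun h => SmallCofactor.apply_ne_neg hG hne hg ?_,
    lt_of_le_of_ne h2 fun h => hg (SmallCofactor.eq_one_of_apply_eq hG hne ?_)⟩
  · rw [ha, ← h, Char.apply_one_eq_degree]; push_cast; ring
  · rw [ha, h, Char.apply_one_eq_degree]; push_cast; ring

/-- An involution of a simple group has an even number of eigenvalues `-1`. -/
theorem dvd_degree_sub [IsSimpleGroup G] (hG : ¬ IsMulCommutative G) {t : G} (ht : t * t = 1)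
    (χ : IrrCharacter G) {a : ℤ} (ha : χ.1 t = a) : (4 : ℤ) ∣ Char.degree χ - a := by
  classical
  obtain ⟨n, ρ, hρ, hχ⟩ := χ.2
  obtain ⟨b, μ, hμ, hb⟩ := CharInt.exists_eigenbasis (f := ρ t) (m := 2) (by norm_num)
    (by rw [← map_pow, pow_two, ht, map_one])
  have hdet : ∏ i, μ i = 1 := by
    rw [← CharInt.det_of_eigenbasis b hb, ← Clifford.detChar_eq χ ρ hχ t,
      SelfCentThree.hom_eq_one hG (Clifford.detChar χ)]
    rfl
  set s := Finset.univ.filter fun i => μ i = -1 with hs
  have hμ' : ∀ i, μ i = 1 ∨ μ i = -1 := fun i => sq_eq_one_iff.1 (hμ i)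
  have hne : ((1 : ℂ) ≠ -1) := by norm_num
  have hprod : ∏ i, μ i = (-1 : ℂ) ^ s.card := by
    rw [← Finset.prod_const, hs, Finset.prod_filter]
    refine Finset.prod_congr rfl fun i _ => ?_
    rcases hμ' i with h | h <;> simp [h, hne]
  have hsum : χ.1 t = (n : ℂ) - 2 * (s.card : ℂ) := by
    rw [← congrFun hχ t]
    show LinearMap.trace ℂ _ (ρ t) = _
    rw [CharInt.trace_of_eigenbasis b hb]
    calc ∑ i, μ i = ∑ i, ((1 : ℂ) - 2 * if μ i = -1 then 1 else 0) := Finset.sum_congr rfl fun i _ => by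
          rcases hμ' i with h | h
          · rw [h, if_neg hne]; ring
          · rw [h, if_pos rfl]; ring
      _ = _ := by
        rw [Finset.sum_sub_distrib, ← Finset.mul_sum, ← Finset.sum_filter, Finset.sum_const,
          Finset.sum_const, Finset.card_univ, Fintype.card_fin, ← hs]
        simp
  have hd : Char.degree χ = n := by
    apply Nat.cast_injective (R := ℂ)
    rw [← Char.apply_one_eq_degree, ← congrFun hχ 1]
    show LinearMap.trace ℂ _ (ρ 1) = _
    rw [map_one, LinearMap.trace_one, Module.finrank_fin_fun]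
  have heven : Even s.card := by
    rcases Nat.even_or_odd s.card with h | h
    · exact h
    · rw [hprod, h.neg_one_pow] at hdet; norm_num at hdet
  obtain ⟨j, hj⟩ := heven
  refine ⟨j, ?_⟩
  have h : (a : ℂ) = ((n : ℤ) - 2 * (s.card : ℤ) : ℤ) := by rw [← ha, hsum]; push_cast; ring
  have h' : a = (n : ℤ) - 2 * (s.card : ℤ) := by exact_mod_cast h
  rw [hd, h', hj]
  push_cast
  ring

/-- An involution inverting `y` acts on the fixed space of `y`. -/
theorem exists_restriction {y w : G} (hy : orderOf y = 7) (hw : w * w = 1) (hinv : w * y * w⁻¹ = y⁻¹)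
    (χ : IrrCharacter G) {v a : ℂ} (hv : ∀ i : ℕ, ¬ 7 ∣ i → χ.1 (y ^ i) = v) (ha : χ.1 w = a) {s : ℂ}
    (hs : s = 1 ∨ s = -1) : ∃ M : ℕ, χ.1 1 + 6 * v + s * (7 * a) = 14 * M := by
  have hy7 : y ^ 7 = 1 := by rw [← hy, pow_orderOf_eq_one]
  have hvals : ∀ i : ℕ, χ.1 (w * y ^ i) = a := fun i => by
    have h : w * y ^ i = (y ^ (3 * i)) * w * (y ^ (3 * i))⁻¹ := by
      have hc : w * (y ^ (3 * i))⁻¹ = y ^ (3 * i) * w := by
        rw [← mul_inv_eq_iff_eq_mul, ← conj_inv, ← conj_pow, hinv, inv_pow, inv_inv]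
      have hc' : y ^ (6 * i) * w = w * y ^ i := by
        have h1 : w * y ^ i * w⁻¹ = y ^ (6 * i) := by
          rw [← conj_pow, hinv, inv_pow, inv_eq_iff_mul_eq_one, ← pow_add, show i + 6 * i = 7 * i by ring,
            pow_mul, hy7, one_pow]
        rw [← h1, inv_mul_cancel_right]
      rw [← hc', mul_assoc, hc, ← mul_assoc, ← pow_add, show 3 * i + 3 * i = 6 * i by ring]
    rw [h, ← ha]
    exact Char.IsCharacter.isClassFunction (Char.irr_isCharacter χ) w (y ^ (3 * i))
  obtain ⟨n, ρ, hρ, hχ⟩ := χ.2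
  set S : Module.End ℂ (Fin n → ℂ) := ∑ i ∈ Finset.range 7, ρ (y ^ i) with hS
  have hshift : ∀ l : ℕ, ρ (y ^ l) * S = S := by
    have h1 : ρ y * S = S := by
      rw [hS, Finset.mul_sum]
      simp only [← map_mul, ← pow_succ', Finset.sum_range_succ, Finset.sum_range_zero, zero_add]
      rw [hy7]
      simp only [pow_zero, pow_one]
      abel
    intro l
    induction l with
    | zero => simp
    | succ l ih => rw [pow_succ, map_mul, mul_assoc, h1, ih]
  have hSS : S * S = (7 : ℂ) • S := by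
    nth_rewrite 1 [hS]
    rw [Finset.sum_mul, Finset.sum_congr rfl fun l _ => hshift l, Finset.sum_const, Finset.card_range]
    norm_cast
  have hwS : ρ w * S = S * ρ w := by
    have h1 : ∀ i ∈ Finset.range 7, ρ w * ρ (y ^ i) = ρ (y ^ ((7 - i) % 7)) * ρ w := fun i hi => by
      rw [← map_mul, ← map_mul]
      congr 1
      have h2 : w * y ^ i * w⁻¹ = y ^ ((7 - i) % 7) := by
        rw [← conj_pow, hinv, inv_pow, ← pow_eq_pow_mod _ hy7, inv_eq_iff_mul_eq_one, ← pow_add,
          show i + (7 - i) = 7 by have := Finset.mem_range.1 hi; omega, hy7]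
      rw [← h2, inv_mul_cancel_right]
    rw [hS, Finset.mul_sum, Finset.sum_mul, Finset.sum_congr rfl h1]
    simp [Finset.sum_range_succ]
    abel
  have hwwS : ρ w * (ρ w * S) = S := by rw [← mul_assoc, ← map_mul, hw, map_one, one_mul]
  set E : Module.End ℂ (Fin n → ℂ) := (14 : ℂ)⁻¹ • (S + s • (ρ w * S)) with hE
  have hs2 : s * s = 1 := by rcases hs with h | h <;> rw [h] <;> norm_num
  have hidem : IsIdempotentElem E := by
    show E * E = E
    have h1 : (S + s • (ρ w * S)) * (S + s • (ρ w * S)) = (14 : ℂ) • (S + s • (ρ w * S)) := by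
      have e1 : S * (ρ w * S) = (7 : ℂ) • (ρ w * S) := by
        rw [← mul_assoc, ← hwS, mul_assoc, hSS, mul_smul_comm]
      have e2 : (ρ w * S) * S = (7 : ℂ) • (ρ w * S) := by rw [mul_assoc, hSS, mul_smul_comm]
      have e3 : (ρ w * S) * (ρ w * S) = (7 : ℂ) • S := by
        rw [mul_assoc, e1, mul_smul_comm, hwwS]
      rw [add_mul, mul_add, mul_add, hSS, mul_smul_comm, e1, smul_mul_assoc, e2, smul_mul_assoc,
        mul_smul_comm, e3, smul_smul s s, hs2, one_smul]
      module
    rw [hE, smul_mul_smul_comm, h1, smul_smul]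
    norm_num
  have htr := LinearMap.IsProj.trace (R := ℂ) (LinearMap.isProj_range_iff_isIdempotentElem E |>.2 hidem)
  generalize Module.finrank ℂ (LinearMap.range E) = M at htr
  refine ⟨M, ?_⟩
  have htrρ : ∀ g : G, LinearMap.trace ℂ _ (ρ g) = χ.1 g := fun g => congrFun hχ g
  rw [hE, map_smul, map_add, map_smul, hS, Finset.mul_sum, map_sum, map_sum] at htr
  simp only [← map_mul, htrρ, smul_eq_mul] at htr
  rw [Finset.sum_congr rfl (s₁ := Finset.range 7) (f := fun i => χ.1 (w * y ^ i)) fun i _ => hvals i] at htr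
  simp only [Finset.sum_range_succ, Finset.sum_range_zero, zero_add, pow_zero,
    hv 1 (by norm_num), hv 2 (by norm_num), hv 3 (by norm_num), hv 4 (by norm_num),
    hv 5 (by norm_num), hv 6 (by norm_num)] at htr
  linear_combination (14 : ℂ) * htr

/-- Pairs of conjugates with a given product. -/
abbrev Pairs (a b g : G) : Type u := {p : G × G // p.1 * a * p.1⁻¹ * (p.2 * b * p.2⁻¹) = g}

/-- The number of pairs is a multiple of both centraliser orders. -/
theorem mul_card_centralizer_dvd (a b g : G) :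
    Nat.card (Subgroup.centralizer ({a} : Set G)) * Nat.card (Subgroup.centralizer ({b} : Set G)) ∣
      Nat.card (Pairs a b g) := by
  set H := (Subgroup.centralizer ({a} : Set G)).prod (Subgroup.centralizer ({b} : Set G)) with hH
  let S : Set (G × G) := {p | p.1 * a * p.1⁻¹ * (p.2 * b * p.2⁻¹) = g}
  have key : ∀ (z c d : G), c ∈ Subgroup.centralizer ({z} : Set G) →
      d * c * z * (d * c)⁻¹ = d * z * d⁻¹ := fun z c d hc => by
    rw [mul_inv_rev, mul_assoc d c z, Subgroup.mem_centralizer_singleton_iff.1 hc]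
    group
  have hpre : QuotientGroup.mk (s := H) ⁻¹' (QuotientGroup.mk '' S) = S := by
    refine Set.Subset.antisymm ?_ fun p hp => ⟨p, hp, rfl⟩
    rintro p ⟨q, hq, hqp⟩
    obtain ⟨h1, h2⟩ := Subgroup.mem_prod.1 (QuotientGroup.eq.1 hqp)
    have e1 : p.1 = q.1 * (q⁻¹ * p).1 := by simp
    have e2 : p.2 = q.2 * (q⁻¹ * p).2 := by simp
    show p.1 * a * p.1⁻¹ * (p.2 * b * p.2⁻¹) = g
    rw [e1, e2, key a _ _ h1, key b _ _ h2]
    exact hq
  have h := Nat.card_congr (QuotientGroup.preimageMkEquivSubgroupProdSet H (QuotientGroup.mk '' S))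
  rw [hpre, Nat.card_prod] at h
  have hc : Nat.card H = Nat.card (Subgroup.centralizer ({a} : Set G)) *
      Nat.card (Subgroup.centralizer ({b} : Set G)) := by
    rw [hH, Nat.card_congr (Subgroup.prodEquiv _ _).toEquiv, Nat.card_prod]
  rw [← hc]
  exact ⟨_, h⟩

/-- A set containing all characters not vanishing at `g` computes the structure constant. -/
theorem card_pairs_eq (a b g : G) (s : Finset (IrrCharacter G))
    (hs : ∀ χ, χ ∉ s → χ.1 g⁻¹ = 0) :
    (Nat.card (Pairs a b g) : ℂ) = (Nat.card G : ℂ) * ∑ χ ∈ s, χ.1 a * χ.1 b * χ.1 g⁻¹ / χ.1 1 := by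
  refine (Char.card_conj_mul_conj_eq a b g).trans ?_
  congr 1
  exact (Finset.sum_subset (Finset.subset_univ s) fun χ _ h => by rw [hs χ h]; simp).symm

end Cfsg.Agent.G2TwoRecog
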